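import Mathlib
import Cfsg.Agent.Gr.Am.KTri
import Cfsg.Agent.Gr.Rk.Low
import Cfsg.Agent.Gr6.Two

/-! Maximal 2-local subgroups of `K`: definitions. -/

set_option autoImplicit false

namespace Cfsg.Agent.Gr.M2

open Subgroup Cfsg.Agent.Spor Cfsg.Agent.Gr.Rk Cfsg.Agent.Gr.Am

/-- The extraspecial group of `z` (everything when `z` is not in the class of `zz`). -/
def QQ (z : K) : Subgroup K where
  carrier := {x | ∀ k, k * z * k⁻¹ = zz → k * x * k⁻¹ ∈ QK}
  one_mem' := fun k _ => by simp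
  mul_mem' := fun hx hy k hk => by rw [conj_mul']; exact mul_mem (hx k hk) (hy k hk)
  inv_mem' := fun hx k hk => by rw [← conj_inv]; exact inv_mem (hx k hk)

/-- The conjugate subgroup `g H g⁻¹`. -/
abbrev cj (g : K) (H : Subgroup K) : Subgroup K := H.map (MulAut.conj g).toMonoidHom

/-! ### Code level -/

/-- The standard octad. -/
def o0 : Cd := Pi.single 4 1
/-- The standard tetrad. -/
def d0 : Wd := e2 none (some 0) + e2 (some 1) (some 2)
/-- Code words containing the octad or disjoint from it. -/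
def CO (o c : Cd) : Prop := wd c * wd o = 0 ∨ wd c * wd o = wd o
/-- The span of the octad and the all-one word. -/
def D4 (o c : Cd) : Prop := D0 c ∨ D0 (c + o)
/-- Syndromes of even subsets of the octad. -/
def Rf (o ψ : Cd) : Prop := ∃ δ ∈ Ev o, ψ = sy δ
/-- `φ` is even on all octads containing a tetrad with syndrome `ψ`. -/
def Pp (ψ φ : Cd) : Prop := ∀ o ∈ Oct, ∀ δ, wt δ = 4 → δ * wd o = δ → sy δ = ψ → φ ⬝ᵥ o = 0
/-- Syndromes of duads. -/
def Du (ψ : Cd) : Prop := ∃ i j, i ≠ j ∧ ψ = sy (e2 i j)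

/-- The classes supported on the octad. -/
noncomputable def NO (o : Cd) : AddSubgroup LL := perp pB (Fix (sgC o))

/-! ### Arks, singular subgroups, types of pairs -/

/-- The ark through `zz` and `zs` that belongs to an octad. -/
noncomputable def AO (o : Cd) : Subgroup K := centralizer (frK.lf (Fix (sgC o)) : Set K)
def IsArk (A : Subgroup K) : Prop := ∃ g, A = cj g (AO o0)
/-- `x` lies in `Q_u A`. -/
def Sg (A : Subgroup K) (u x : K) : Prop := ∃ a ∈ A, x * a ∈ QQ u
/-- `y` induces an octad sign change on `Q_w`. -/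
def Oc (w y : K) : Prop := ∃ g : K, g * w * g⁻¹ = zz ∧ (g * y * g⁻¹, sgC o0) ∈ GK
/-- What is used about pairs of dodecad type. -/
def TC (w y : K) : Prop := ∃ u ∈ ZC, (∀ g : K, Commute g w → Commute g y → Commute g u) ∧ y ∈ QQ u ∧
  ∀ x ∈ QQ w, Commute x y → x ∈ QQ u
/-- Singular subgroups. -/
def Sing (U : Subgroup K) : Prop := ∀ u ∈ U, u ≠ 1 → u ∈ ZC ∧ U ≤ QQ u

/-- A point `w` of an ark. -/
structure Pnt (A : Subgroup K) (w : K) : Prop where
  ark : IsArk A
  mem : w ∈ A
  zc : w ∈ ZC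

/-- A line `⟨w, u⟩` of an ark. -/
structure Lin (A : Subgroup K) (w u : K) : Prop extends Pnt A w where
  mem' : u ∈ A
  zc' : u ∈ ZC
  adj : u ∈ QQ w
  ne : u ≠ w

/-- A pair of octad type outside its ark. -/
structure B1 (A : Subgroup K) (w y : K) : Prop extends Pnt A w where
  yz : y ∈ ZC
  cen : y ∈ centralizer (A : Set K)
  nA : y ∉ A
  nQ : y ∉ QQ w
  sg : Sg A w y

/-! ### The seven subgroups -/

noncomputable def oa : Cd := exists_disj.choose
noncomputable def ob : Cd := exists_disj.choose_spec.choose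
theorem oab : wt (wd oa) = 8 ∧ wt (wd ob) = 8 ∧ wd oa * wd ob = 0 := exists_disj.choose_spec.choose_spec

def U3S : AddSubgroup LL := aS (fun a => V12 a ∧ (a.2 = 0 ∨ a.2 = sy d0)) ⟨t0_zero.v12, Or.inl rfl⟩
  fun a b ha hb => ⟨ha.1.add hb.1, by
    rcases ha.2 with h | h <;> rcases hb.2 with k | k <;> rw [Prod.snd_add, h, k]
    · exact Or.inl (add_zero _)
    · exact Or.inr (zero_add _)
    · exact Or.inr (add_zero _)
    · exact Or.inl (by rw [← map_add, wd_add_self, map_zero])⟩

noncomputable def Rep : Fin 7 → Subgroup K :=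
  ![zpowers t0, closure {t0, s0}, zpowers zz, frK.lf T0S, frK.lf U3S,
    AO oa ⊓ AO ob ⊓ AO (oa + ob + om), AO o0]

/-- `N` normalises a conjugate of one of the seven subgroups. -/
def Good (N : Subgroup K) : Prop := ∃ i g, N ≤ normalizer (cj g (Rep i) : Set K)

/-! ### The local situation -/

/-- `V` is the set of elements of order at most two centralised by the 2-group `P`. -/
structure Cx (P V : Subgroup K) : Prop where
  pg : IsPGroup 2 P
  sq : ∀ x ∈ V, x * x = 1
  cen : ∀ p ∈ P, ∀ x ∈ V, Commute p x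
  clo : ∀ x : K, x * x = 1 → (∀ p ∈ P, Commute p x) → x ∈ V

/-- The points `w` of `V` with `V ∩ Q_w` as large as possible. -/
def Gam (V : Subgroup K) : Set K :=
  {w | w ∈ V ∧ w ∈ ZC ∧ ∀ u ∈ V, u ∈ ZC → Nat.card ↥(V ⊓ QQ u) ≤ Nat.card ↥(V ⊓ QQ w)}

end Cfsg.Agent.Gr.M2
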