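import Mathlib
import Cfsg.Agent.Gr.M2.Defs

/-! Maximal 2-local subgroups of `K`: the groups `QQ z` and conjugation. -/

set_option autoImplicit false

namespace Cfsg.Agent.Gr.M2

open Subgroup Cfsg.Agent.Spor Cfsg.Agent.Gr.Rk Cfsg.Agent.Gr.Am

attribute [local irreducible] sgC cls twoC csm Leech.perm Leech.negOne pc Am.Sh tq act tau wd sy wt om ShS

variable {a b g k p t u w x y z : K} {A H U : Subgroup K} {e e' f : ZMod 2} {c : LL}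

theorem mem_cj : x ∈ cj g H ↔ g⁻¹ * x * g ∈ H := mem_map_conj_iff
theorem cj_mem : g * x * g⁻¹ ∈ cj g H ↔ x ∈ H := by
  rw [mem_cj, show g⁻¹ * (g * x * g⁻¹) * g = x by group]
theorem cj_cj (g k : K) (H : Subgroup K) : cj g (cj k H) = cj (g * k) H := map_conj_map_conj H k g
theorem cj_one (H : Subgroup K) : cj 1 H = H := map_conj_one H
theorem card_cj (g : K) (H : Subgroup K) : Nat.card (cj g H) = Nat.card H :=
  (Nat.card_congr (H.equivMapOfInjective _ (MulAut.conj g).injective).toEquiv).symm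
theorem cj_inf (g : K) (H U : Subgroup K) : cj g (H ⊓ U) = cj g H ⊓ cj g U :=
  Subgroup.ext fun _ => by simp only [mem_cj, mem_inf]
theorem cj_comm : Commute (g * x * g⁻¹) (g * y * g⁻¹) ↔ Commute x y := by
  rw [commute_iff_eq, commute_iff_eq, ← conj_mul', ← conj_mul', conj_eq_iff]
theorem cj_mem_cent : g * x * g⁻¹ ∈ centralizer (cj g H : Set K) ↔ x ∈ centralizer (H : Set K) :=
  ⟨fun h _ hy => (cj_comm (g := g)).1 (h _ (cj_mem.2 hy)), fun h _ ⟨y, hy, e⟩ => e ▸ (cj_comm (g := g)).2 (h y hy)⟩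
theorem cj_cent (g : K) (H : Subgroup K) : cj g (centralizer (H : Set K)) = centralizer (cj g H : Set K) :=
  Subgroup.ext fun x => by rw [mem_cj, ← cj_mem_cent (g := g), show g * (g⁻¹ * x * g) * g⁻¹ = x by group]
theorem cj_eq_iff : cj g H = H ↔ g ∈ normalizer (H : Set K) := by
  rw [mem_normalizer_iff]
  exact ⟨fun h x => by rw [← cj_mem (g := g), h], fun h => Subgroup.ext fun x => by
    rw [mem_cj, h, show g * (g⁻¹ * x * g) * g⁻¹ = x by group]⟩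

theorem mem_QQ (hz : z ∈ ZC) : x ∈ QQ z ↔ InQ z x :=
  ⟨fun h => let ⟨g, e⟩ := mem_ZC.1 hz; ⟨g, e, h g e⟩, fun h _ e => h.of_conj e⟩
theorem QQ_zz : QQ zz = QK := Subgroup.ext fun _ => (mem_QQ zz_mem_ZC).trans inQ_zz
theorem QQ_zs : QQ zs = Qs := Subgroup.ext fun _ => (mem_QQ ZH.zs_mem).trans inQ_zs
theorem cj_mem_QQ (g : K) : g * x * g⁻¹ ∈ QQ (g * z * g⁻¹) ↔ x ∈ QQ z :=
  ⟨fun h k e => by
    have := h (k * g⁻¹) (by rw [← e]; group)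
    rwa [show k * g⁻¹ * (g * x * g⁻¹) * (k * g⁻¹)⁻¹ = k * x * k⁻¹ by group] at this,
  fun h k e => by rw [conj_conj] at e ⊢; exact h _ e⟩
theorem QQ_cj (g z : K) : QQ (g * z * g⁻¹) = cj g (QQ z) := Subgroup.ext fun x => by
  rw [mem_cj, ← cj_mem_QQ g (z := z), show g * (g⁻¹ * x * g) * g⁻¹ = x by group]
theorem es_QQ (hz : z ∈ ZC) : ES2 (QQ z) z ∧ Lg (QQ z) z := by
  obtain ⟨g, rfl⟩ := isConj_iff.1 hz
  rw [QQ_cj, QQ_zz]
  exact ⟨pairK.esQ.conj g, pairK.lgQ.conj g⟩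
theorem self_mem (hz : z ∈ ZC) : z ∈ QQ z := (es_QQ hz).1.z_mem
theorem QQ_comm (hz : z ∈ ZC) (hx : x ∈ QQ z) : Commute z x := (es_QQ hz).1.z_comm x hx
theorem conj_QQ (hg : Commute g z) (hx : x ∈ QQ z) : g * x * g⁻¹ ∈ QQ z := by
  have := (cj_mem_QQ g).2 hx
  rwa [hg.eq, mul_inv_cancel_right] at this
theorem adj_of (ha : a ∈ ZC) (hb : b ∈ ZC) (h : b ∈ QQ a) (ne : b ≠ a) : adjZ a b := ⟨hb, ne, (mem_QQ ha).1 h⟩
theorem QQ_symm (ha : a ∈ ZC) (hb : b ∈ ZC) (h : b ∈ QQ a) : a ∈ QQ b := by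
  by_cases ne : b = a
  · exact ne ▸ self_mem hb
  · exact (mem_QQ hb).2 (ZH.symm (adj_of ha hb h ne)).2.2
theorem mul_ZC (ha : a ∈ ZC) (hb : b ∈ ZC) (h : b ∈ QQ a) (ne : b ≠ a) : a * b ∈ ZC :=
  (ZH.adj_mul (adj_of ha hb h ne)).1.1

theorem tq_QK (e : ZMod 2) (c : LL) : tq e c ∈ QK := ⟨e, c, rfl⟩

theorem exists_flip : ∃ β : LL, pol β v0 = 1 :=
  let ⟨β, h, _⟩ := exists_odd; ⟨β, by rw [pol_comm]; exact (z2_cases _).resolve_left (ev0_iff.not.1 h)⟩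

theorem adj_std (ha : a ∈ ZC) (hb : b ∈ ZC) (h : b ∈ QQ a) (ne : b ≠ a) (e : ZMod 2) :
    ∃ g : K, g * a * g⁻¹ = zz ∧ g * b * g⁻¹ = tq e v0 := by
  obtain ⟨g, g1, g2⟩ := ZH.adj_std (adj_of ha hb h ne)
  rcases z2_cases e with rfl | rfl
  · obtain ⟨β, hβ⟩ := exists_flip
    exact ⟨tq 0 β * g, by rw [← conj_conj, g1, zz, tq_conj, pol_zero_right, add_zero],
      by rw [← conj_conj, g2, tq_conj, hβ, z2_add_self]⟩
  · exact ⟨g, g1, g2⟩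

/-! Coordinates. -/

theorem tq_DD : tq e c ∈ DD ↔ c ∈ ShS := tq_mem_DD_iff
theorem tq_v0_ZC (e : ZMod 2) : tq e v0 ∈ ZC := isConj_zz_om e
theorem ZC_or_DD (h : x * x = 1) (h1 : x ≠ 1) : x ∈ ZC ∨ x ∈ DD := Gr6.K_two x h h1
theorem tq_ZC (h0 : c ≠ 0) : tq e c ∈ ZC ↔ qL c = 0 ∧ c ∉ ShS := by
  refine ⟨fun h => ⟨?_, fun k => ZH.not_DD h (tq_DD.2 k)⟩, fun h => (ZC_or_DD ?_ ?_).resolve_right
    fun k => h.2 (tq_DD.1 k)⟩
  · have := ZH.sq h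
    rw [tq_mul_self, ← tq_zero, tq_inj] at this
    exact this.1
  · rw [tq_mul_self, h.1, tq_zero]
  · rw [← tq_zero, Ne, tq_inj]; exact fun k => h0 k.2

theorem four_ZC {δ : Wd} (h : wt δ = 4) (e α : ZMod 2) : tq e (α • om, sy δ) ∈ ZC ∧ sy δ ≠ 0 := by
  have h0 : sy δ ≠ 0 := fun k => by rw [eq_zero_of_sy k (by omega), wt_zero] at h; omega
  have hv : V12 (α • om, sy δ) := v12_smul α (by rw [sy_dot_om, even_wt, h]; norm_num)
  refine ⟨(tq_ZC fun k => h0 (congrArg Prod.snd k)).2 ⟨hv.qL, fun k => ?_⟩, h0⟩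
  obtain ⟨i, j, hij, t⟩ := hv.short k
  have h1 : δ + e2 i j = 0 := eq_zero_of_sy (by rw [map_add, ← t]; exact cd_add_self _) (by
    have := wt_add_le δ (e2 i j); rw [wt_e2 hij] at this; omega)
  rw [Rk.wd_eq_of_add h1, wt_e2 hij] at h; omega

theorem tq_mem_zs : tq e c ∈ QQ zs ↔ V12 c := by
  have := finite_K
  rw [QQ_zs]
  have k0 : ∀ {e f c}, tq e c ∈ Qs → tq f c ∈ Qs := fun {e f c} h => by
    rcases eq_or_ne f e with rfl | n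
    exacts [h, by rw [z2_ne n, ← zz_mul_tq]; exact mul_mem pairK.z_mem h]
  have k1 : ∀ {i j : Pt}, i ≠ j → tq 0 (clC i j) ∈ Qs := fun h => by
    rw [clC_eq_cls]
    exact mdata.v44_mem pairK (p := none) (CL.eqv_tq.2 (cls_e8 _).symm) h (Eqv.rfl' _ _)
  refine ⟨fun h => v12_of_d0 (ev0_iff.2 (tq_comm_iff.1 (pairK.esR.z_comm _ h))) (d0_iff.2 fun i j => ?_),
    fun h => k0 (v12_ind (U := fun c => tq 0 c ∈ Qs) (fun a b ha hb => ?_) (fun a ha => ?_)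
      (fun i j hij => ⟨_, k1 hij, v12_clC i j, rfl⟩) h)⟩
  · rcases eq_or_ne i j with rfl | n
    · exact z2_add_self _
    have := tq_comm_iff.1 (pairK.E_comm ⟨tq_QK _ _, k1 n⟩ ⟨tq_QK _ _, h⟩)
    have e0 := ev0_iff.2 (tq_comm_iff.1 (pairK.esR.z_comm _ h))
    rwa [pol, clC, sy_dot, e2_dot, e0, add_zero] at this
  · have := mul_mem ha hb
    rw [tq_mul] at this
    exact k0 this
  · rcases ha with rfl | rfl
    exacts [tq_zero ▸ one_mem _, k0 pairK.esR.z_mem]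

theorem tq_mem_v0 : tq e c ∈ QQ (tq f v0) ↔ V12 c := by
  rcases z2_cases f with rfl | rfl
  · obtain ⟨β, hβ⟩ := exists_flip
    rw [← cj_mem_QQ (tq 0 β), tq_conj, tq_conj, hβ, zero_add]
    exact tq_mem_zs
  · exact tq_mem_zs

theorem inf_le_mul (ha : a ∈ ZC) (hb : b ∈ ZC) (h : b ∈ QQ a) (ne : b ≠ a) : QQ a ⊓ QQ b ≤ QQ (a * b) := by
  obtain ⟨g, g1, g2⟩ := adj_std ha hb h ne 0
  rintro x ⟨h1, h2⟩
  have k1 := (cj_mem_QQ g).2 h1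
  have k2 := (cj_mem_QQ g).2 h2
  rw [← cj_mem_QQ g, conj_mul', g1, g2, zz_mul_tq]
  rw [g1, QQ_zz] at k1
  obtain ⟨e, c, t⟩ := k1
  rw [t] at k2 ⊢
  exact tq_mem_v0.2 (tq_mem_v0.1 (g2 ▸ k2))
theorem mem_of_mul (ha : a ∈ ZC) (hb : b ∈ ZC) (h : b ∈ QQ a) (ne : b ≠ a) (h1 : x ∈ QQ a)
    (h2 : x ∈ QQ (a * b)) : x ∈ QQ b := by
  have := inf_le_mul ha (mul_ZC ha hb h ne) (mul_mem (self_mem ha) h)
    (fun k => ZH.ne_one hb (mul_eq_left.1 k)) ⟨h1, h2⟩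
  rwa [← mul_assoc, ZH.sq ha, one_mul] at this
set_option linter.unusedVariables false in
theorem inf_comm (ha : a ∈ ZC) (hb : b ∈ ZC) (h : b ∈ QQ a) (ne : b ≠ a) (hx : x ∈ QQ a ⊓ QQ b)
    (hy : y ∈ QQ a ⊓ QQ b) : Commute x y := by
  rcases (es_QQ ha).1.comm x hx.1 y hy.1 with k | k
  · exact k
  rcases (es_QQ hb).1.comm x hx.2 y hy.2 with l | l
  · exact l
  exact absurd (mul_right_cancel (l.symm.trans k)) ne
theorem comm_of_inf (hw : w ∈ ZC) (hy : y ∈ ZC) (hn : y ∉ QQ w) (hx : x ∈ QQ w) (hx' : x ∈ QQ y)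
    (hp : p ∈ QQ w) (hc : Commute p y) : Commute x p := by
  rcases (es_QQ hw).1.aes.conj_eq hp hx with k | k
  · exact (mul_inv_eq_iff_eq_mul.1 k).symm
  · have := conj_QQ hc hx'
    rw [k, mul_mem_cancel_right hx'] at this
    exact absurd (QQ_symm hy hw this) hn
theorem DD_mem_QQ (hz : z ∈ ZC) (ht : t ∈ DD) (hc : Commute t z) (h : t * z ∈ DD) : t ∈ QQ z := by
  obtain ⟨g, e⟩ := mem_ZC.1 hz
  rw [← cj_mem_QQ g, e, QQ_zz]
  exact Sub.mem_QK_of_zz_mul (conj_mem_DD g ht) (by rw [← e, ← conj_mul', ← hc.eq]; exact conj_mem_DD g h)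
theorem DD_mul (hz : z ∈ ZC) (ht : t ∈ DD) (h : t ∈ QQ z) : t * z ∈ DD :=
  ((ZH.inQ_iff ht).1 ((mem_QQ hz).1 h)).1
theorem card_ab (hw : w ∈ ZC) (hH : H ≤ QQ w) (sq : ∀ x ∈ H, x * x = 1) : Nat.card H ≤ 2 ^ 13 := by
  have := finite_K
  obtain ⟨g, e⟩ := mem_ZC.1 hw
  rw [← card_cj g]
  have h1 : cj g H ≤ QK := by rw [← QQ_zz, ← e, QQ_cj]; exact map_mono hH
  have h2 : ∀ x ∈ cj g H, x * x = 1 := by
    rintro _ ⟨x, hx, rfl⟩
    rw [← map_mul, sq x hx, map_one]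
  generalize cj g H = B at h1 h2
  let W : AddSubgroup LL := aS (fun c => ∃ e, tq e c ∈ B) ⟨0, tq_zero ▸ one_mem _⟩
    fun a b ⟨e, ha⟩ ⟨f, hb⟩ => ⟨_, tq_mul e f a b ▸ mul_mem ha hb⟩
  have h3 : Iso W := Iso.of_qL fun a ⟨e, ha⟩ => by
    have := h2 _ ha
    rw [tq_mul_self, ← tq_zero, tq_inj] at this
    exact this.1
  have h4 : Nat.card B ≤ Nat.card (ZMod 2 × W) := by
    refine Nat.card_le_card_of_surjective (α := {p : ZMod 2 × W // tq p.1 p.2.1 ∈ B})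
      (fun p => ⟨_, p.2⟩) (fun ⟨x, hx⟩ => ?_) |>.trans (Finite.card_subtype_le _)
    obtain ⟨e, c, rfl⟩ := h1 hx
    exact ⟨⟨(e, ⟨c, e, hx⟩), hx⟩, rfl⟩
  rw [Nat.card_prod, Nat.card_zmod] at h4
  have := h3.card_le
  omega

theorem short_mem {v : LL} (hv : tq f v ∈ ZC) (hc : c ∈ ShS) (h : c + v ∈ ShS) : tq e c ∈ QQ (tq f v) := by
  refine DD_mem_QQ hv (tq_DD.2 hc) (tq_comm_iff.2 ?_) (by rw [tq_mul]; exact tq_DD.2 h)
  have k := ZH.sq hv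
  rw [tq_mul_self, ← tq_zero, tq_inj] at k
  have := qL_add c v
  rwa [qL_of_mem h, qL_of_mem hc, k.1, zero_add, zero_add, eq_comm] at this
theorem pol_of_mem {v c' : LL} (hv : tq f v ∈ ZC) (h0 : v ≠ 0) (h : tq e c ∈ QQ (tq f v))
    (h' : tq e' c' ∈ QQ (tq f v)) : pol c c' = 0 :=
  tq_comm_iff.1 (inf_comm zz_mem_ZC hv (QQ_zz ▸ tq_QK _ _) (fun k => h0 (tq_inj.1 k).2) ⟨QQ_zz ▸ tq_QK _ _, h⟩
    ⟨QQ_zz ▸ tq_QK _ _, h'⟩)
theorem fix_of_comm {γ : Co0} (h : (x, γ) ∈ GK) (hc : Commute x (tq e c)) : csm γ c = c := by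
  obtain ⟨f, k⟩ := frK.act x γ h e c
  rw [hc.eq, mul_inv_cancel_right] at k
  exact (tq_inj.1 k).2.symm
theorem sgn_of_mem (hx : x ∈ QQ (tq f v0)) (hc : Commute x zz) : ∃ d, (x, sgC d) ∈ GK := by
  have k : ∀ x ∈ QQ zs, Commute x zz → ∃ d, (x, sgC d) ∈ GK := fun x hx hc =>
    (mem_OO.1 (rad_K.1 (mem_sup_left ⟨QQ_zs ▸ hx, mem_centralizer_singleton.2 hc.symm⟩))).1
  rcases z2_cases f with rfl | rfl
  · obtain ⟨β, hβ⟩ := exists_flip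
    have h1 := (cj_mem_QQ (tq 0 β)).2 hx
    rw [tq_conj, hβ, zero_add] at h1
    have h2 := (cj_comm (g := tq 0 β)).2 hc
    rw [zz, tq_conj, pol_zero_right, add_zero] at h2
    obtain ⟨d, h3⟩ := k _ h1 h2
    have := conj_mem' (GK.inv_mem (frK.mem 0 β)) h3
    exact ⟨d, by simpa [mul_assoc] using this⟩
  · exact k x hx hc
theorem exists_swap : ∃ s ∈ QQ zs, s * zz * s⁻¹ = tq 0 v0 ∧ s * tq 0 v0 * s⁻¹ = zz ∧
    (∀ e c, Ev0 c → (s * tq e c * s⁻¹, sgC c.1) ∈ GK) ∧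
    ∀ (α β : ZMod 2) (ψ : Cd), ψ ⬝ᵥ om = 0 → ∃ e f, s * tq e (α • om, ψ) * s⁻¹ = tq f (β • om, ψ) := by
  obtain ⟨s, hs, -, h1⟩ := pairK.symm.exists_q
  rw [← QQ_zs] at hs
  have E := (es_QQ ZH.zs_mem).1
  have u0 : zs * zz = tq 0 v0 := tq_mul_zz 1 _
  have h2 : s * zs * s⁻¹ = zs := by rw [← E.z_comm s hs, mul_inv_cancel_right]
  have h3 : s * tq 0 v0 * s⁻¹ = zz := by rw [← u0, conj_mul', h1, h2, E.z_mul_z_mul]
  rw [u0] at h1
  have zv : ∀ (e a : ZMod 2) (ψ : Cd), ∀ f, ∃ e', tq f v0 * tq e (a • om, ψ) = tq e' ((a + 1) • om, ψ) := fun e a ψ f =>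
    ⟨_, by rw [tq_mul, Prod.mk_add_mk, zero_add, add_smul, one_smul, add_comm om]⟩
  refine ⟨s, hs, h1, h3, fun e c hc => ?_, fun α β ψ hψ => ?_⟩
  · obtain ⟨d, hd⟩ := sgn_of_mem (x := s * tq e c * s⁻¹) (f := 0)
      (h1 ▸ (cj_mem_QQ s).2 (QQ_zz ▸ tq_QK _ _))
      (h3 ▸ cj_comm.2 (tq_comm_iff.2 (by rw [pol_comm]; exact ev0_iff.1 hc)))
    have k : D0 (d + c.1) := d0_iff.2 fun i j => by
      obtain ⟨f, t⟩ := frK.act _ _ hd 0 (clB i j)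
      have ht : tq 0 (clB i j) ∈ QQ zs := tq_mem_zs.2 (v12_clB i j)
      obtain ⟨e', c', r⟩ : s⁻¹ * tq 0 (clB i j) * s ∈ QK := by
        rcases E.aes.conj_eq (inv_mem hs) ht with r | r <;> rw [inv_inv] at r <;> rw [r]
        exacts [tq_QK _ _, mul_mem (tq_QK _ _) (tq_QK _ _)]
      have p : pol c c' = wd c.1 i + wd c.1 j := by
        have : c' = clB i j ∨ c' = v0 + clB i j := by
          rcases E.aes.conj_eq (inv_mem hs) ht with r' | r' <;> rw [inv_inv, r] at r'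
          exacts [.inl (tq_inj.1 r').2, .inr (by rw [tq_mul] at r'; exact (tq_inj.1 r').2)]
        have q : pol c (clB i j) = wd c.1 i + wd c.1 j := by
          rw [pol, clB, dotProduct_zero, zero_add, sy_dot, e2_dot]
        rcases this with rfl | rfl
        exacts [q, by rw [pol_add_right, q, pol_comm, ev0_iff.1 hc, zero_add]]
      have m : s * tq e c * s⁻¹ * tq 0 (clB i j) * (s * tq e c * s⁻¹)⁻¹ =
          s * (tq e c * (s⁻¹ * tq 0 (clB i j) * s) * (tq e c)⁻¹) * s⁻¹ := by group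
      rw [m, r, tq_conj, p, csm_clB] at t
      have r2 : s * tq e' c' * s⁻¹ = tq 0 (clB i j) := by rw [← r]; group
      rw [map_add, Pi.add_apply, Pi.add_apply, add_add_add_comm]
      rcases z2_cases (wd c.1 i + wd c.1 j) with q | q <;> rw [q] at t ⊢
      · rw [add_zero, r2] at t
        have := congrArg Prod.fst (tq_inj.1 t).2
        rw [add_zero]
        exact (z2_cases _).resolve_right fun l => om_ne_zero (by simpa [l, clB] using this.symm)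
      · rw [← zz_mul_tq, conj_mul', h1, r2, tq_mul] at t
        have := congrArg Prod.fst (tq_inj.1 t).2
        rw [(z2_cases (wd d i + wd d j)).resolve_left fun l => om_ne_zero (by simpa [l, clB] using this), z2_add_self]
    rcases k with k | k
    · rwa [← cd_eq_of_add k]
    · have : c.1 = om + d := by rw [← k, add_comm d, add_assoc, cd_add_self, add_zero]
      rw [this, sgC_add, sgC_om]; exact frK.mem_neg hd
  · have ht : tq 0 (α • om, ψ) ∈ QQ zs := tq_mem_zs.2 (v12_smul α hψ)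
    have a1 : ∃ f γ : ZMod 2, s * tq 0 (α • om, ψ) * s⁻¹ = tq f (γ • om, ψ) := by
      rcases E.aes.conj_eq hs ht with r | r
      · exact ⟨_, _, r⟩
      · obtain ⟨e', l⟩ := zv 0 α ψ 1
        exact ⟨_, _, r.trans l⟩
    obtain ⟨f, γ, r⟩ := a1
    rcases eq_or_ne β γ with rfl | n
    · exact ⟨_, _, r⟩
    · obtain ⟨e', l⟩ := zv f γ ψ 0
      exact ⟨0 + 1, e', by rw [← zz_mul_tq, conj_mul', h1, r, l, z2_ne n]⟩

/-! Conjugation. -/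

theorem IsArk.map (h : IsArk A) (g : K) : IsArk (cj g A) := let ⟨k, e⟩ := h; ⟨g * k, by rw [e, cj_cj]⟩
theorem sg_cj (g : K) : Sg (cj g A) (g * u * g⁻¹) (g * x * g⁻¹) ↔ Sg A u x :=
  ⟨fun ⟨_, ⟨a, ha, e⟩, h⟩ => ⟨a, ha, (cj_mem_QQ g).1 (by subst e; rw [conj_mul']; exact h)⟩,
    fun ⟨a, ha, h⟩ => ⟨_, cj_mem.2 ha, by rw [← conj_mul']; exact (cj_mem_QQ g).2 h⟩⟩
theorem Oc.map (h : Oc w y) (g : K) : Oc (g * w * g⁻¹) (g * y * g⁻¹) := by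
  obtain ⟨k, k1, k2⟩ := h
  exact ⟨k * g⁻¹, by rw [← k1]; group, by
    rwa [show k * g⁻¹ * (g * y * g⁻¹) * (k * g⁻¹)⁻¹ = k * y * k⁻¹ by group]⟩
theorem TC.map (h : TC w y) (g : K) : TC (g * w * g⁻¹) (g * y * g⁻¹) := by
  obtain ⟨u, u1, u2, u3, u4⟩ := h
  refine ⟨g * u * g⁻¹, (conj_mem_ZC g).2 u1, fun k h1 h2 => ?_, (cj_mem_QQ g).2 u3, fun k h1 h2 => ?_⟩ <;>
    obtain ⟨k, rfl⟩ : ∃ l, k = g * l * g⁻¹ := ⟨g⁻¹ * k * g, by group⟩
  exacts [cj_comm.2 (u2 k (cj_comm.1 h1) (cj_comm.1 h2)), (cj_mem_QQ g).2 (u4 k ((cj_mem_QQ g).1 h1) (cj_comm.1 h2))]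
theorem Sing.map (h : Sing U) (g : K) : Sing (cj g U) := by
  rintro _ ⟨u, hu, rfl⟩ n
  obtain ⟨a, b⟩ := h u hu fun k => n (by rw [k, map_one])
  exact ⟨(conj_mem_ZC g).2 a, (map_mono b).trans (QQ_cj g u).ge⟩
theorem Pnt.map (h : Pnt A w) (g : K) : Pnt (cj g A) (g * w * g⁻¹) :=
  ⟨h.ark.map g, cj_mem.2 h.mem, (conj_mem_ZC g).2 h.zc⟩
theorem Lin.map (h : Lin A w u) (g : K) : Lin (cj g A) (g * w * g⁻¹) (g * u * g⁻¹) :=
  ⟨h.toPnt.map g, cj_mem.2 h.mem', (conj_mem_ZC g).2 h.zc', (cj_mem_QQ g).2 h.adj, fun k => h.ne ((conj_eq_iff _ _ _).1 k)⟩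
theorem B1.map (h : B1 A w y) (g : K) : B1 (cj g A) (g * w * g⁻¹) (g * y * g⁻¹) :=
  ⟨h.toPnt.map g, (conj_mem_ZC g).2 h.yz, cj_mem_cent.2 h.cen, cj_mem.not.2 h.nA, (cj_mem_QQ g).not.2 h.nQ,
    (sg_cj g).2 h.sg⟩
theorem cj_norm (g : K) (H : Subgroup K) : cj g (normalizer (H : Set K)) = normalizer (cj g H : Set K) :=
  Subgroup.ext fun x => by
    rw [mem_cj, ← cj_eq_iff, ← cj_eq_iff]
    refine ⟨fun h => ?_, fun h => ?_⟩
    · rw [cj_cj, show x * g = g * (g⁻¹ * x * g) by group, ← cj_cj, h]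
    · rw [mul_assoc, ← cj_cj, ← cj_cj, h, cj_cj, inv_mul_cancel, cj_one]
theorem Good.of_cj (g : K) (h : Good (normalizer (cj g U : Set K))) : Good (normalizer (U : Set K)) := by
  obtain ⟨i, k, h⟩ := h
  refine ⟨i, g⁻¹ * k, fun x hx => ?_⟩
  rw [← cj_cj, ← cj_norm, mem_cj, inv_inv]
  exact h (cj_norm g U ▸ cj_mem.2 hx)
theorem Good.mono (h : Good U) (hH : H ≤ U) : Good H := let ⟨i, g, k⟩ := h; ⟨i, g, hH.trans k⟩

end Cfsg.Agent.Gr.M2
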