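import Mathlib
import Cfsg.Agent.Gr.M2.Defs

/-! Tetrads, duads and octads of the Golay code. -/

set_option autoImplicit false

namespace Cfsg.Agent.Gr.M2

open Subgroup Cfsg.Agent.Spor Cfsg.Agent.Gr.Rk Cfsg.Agent.Gr.Am
open scoped Pointwise

variable {o o' H R c c' ψ φ : Cd} {δ δ' : Wd} {p p' p1 p2 : Pt}

namespace GA

theorem cancel (a b : Wd) : a + (a + b) = b := by rw [← add_assoc, wd_add_self, zero_add]
theorem cancel' (a b : Cd) : a + (a + b) = b := by rw [← add_assoc, cd_add_self, zero_add]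
theorem one_ne : (1 : ZMod 2) ≠ 0 := by decide

theorem e2_self (i : Pt) : e2 i i = 0 := wd_add_self _
theorem e2_add (i j k : Pt) : e2 i j + e2 i k = e2 j k := by
  rw [e2, e2, e2, add_add_add_comm, wd_add_self, zero_add]
theorem e2_comm (i j : Pt) : e2 i j = e2 j i := add_comm _ _
theorem e2_left (ne : p ≠ p') : e2 p p' p = 1 := by simp [e2, e1, ne]
theorem e2_out (n1 : p ≠ p1) (n2 : p ≠ p2) : e2 p1 p2 p = 0 := by simp [e2, e1, n1, n2]
theorem e2_mul (hp : δ p = 1) (hp' : δ p' = 1) : e2 p p' * δ = e2 p p' := by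
  rw [e2, add_mul, e1_mul hp, e1_mul hp']

theorem wt_pos (hp : δ p = 1) : 0 < wt δ :=
  Nat.pos_of_ne_zero fun h => one_ne (by rw [← hp, wt_eq_zero.1 h]; rfl)

theorem two (h : wt δ = 2) : ∃ i j, i ≠ j ∧ δ = e2 i j := by
  obtain ⟨i, j, ne, e⟩ := Finset.card_eq_two.1 ((wt_eq_card δ).symm.trans h)
  refine ⟨i, j, ne, support_inj (e.trans (Finset.ext fun q => ?_))⟩
  rw [mem_supp]
  by_cases h1 : q = i <;> by_cases h2 : q = j <;> simp_all [e2, e1]

theorem four {a b i j : Pt} (n1 : a ≠ b) (n2 : a ≠ i) (n3 : a ≠ j) (n4 : b ≠ i) (n5 : b ≠ j)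
    (n6 : i ≠ j) : wt (e2 a b + e2 i j) = 4 := by
  have := wt_add (e2 a b) (e2 i j)
  rw [wt_e2 n1, wt_e2 n6, show e2 a b * e2 i j = 0 by
    rw [e2, e2, add_mul, mul_add, mul_add, e1_mul_e1 n2, e1_mul_e1 n3, e1_mul_e1 n4, e1_mul_e1 n5]
    simp, wt_zero] at this
  exact this

theorem out_of (h : δ * δ' = 0) (hp : δ p = 1) : δ' p = 0 := by
  have := congrFun h p
  rwa [Pi.mul_apply, hp, one_mul] at this

theorem in_of (h : δ * δ' = δ) (hp : δ p = 1) : δ' p = 1 := by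
  have := congrFun h p
  rwa [Pi.mul_apply, hp, one_mul] at this

theorem out_of_in (h : δ * δ' = δ) (hp : δ' p = 0) : δ p = 0 := by
  have := congrFun h p
  rw [Pi.mul_apply, hp, mul_zero] at this
  exact this.symm

theorem sy_add (h : sy δ = sy δ') : sy (δ + δ') = 0 := by rw [map_add, h, cd_add_self]

theorem sy_ne (h : wt δ = 4) : sy δ ≠ 0 := fun e => by
  rw [eq_zero_of_sy e (by omega), wt_zero] at h; omega

theorem mem_octads (ho : o ∈ Oct) : support₂ (wd o) ∈ octads :=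
  ⟨⟨wd o, wd_mem o, rfl⟩, (wt_eq_card _).symm.trans (mem_Oct.1 ho)⟩

theorem inter_le (ho : o ∈ Oct) (ho' : o' ∈ Oct) (ne : o ≠ o') : wt (wd o * wd o') ≤ 4 := by
  have h1 := wt_add (wd o) (wd o')
  have h2 := wt_wd (o + o')
  have h3 : wt (wd (o + o')) ≠ 0 := fun e => ne (cd_eq_of_add (wt_wd_eq_zero.1 e))
  rw [mem_Oct.1 ho, mem_Oct.1 ho', ← map_add] at h1
  omega

theorem compl_mul (o : Cd) : wd (o + om) * wd o = 0 := by
  rw [map_add, wd_om, add_mul, wd_mul_self, one_mul, wd_add_self]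

theorem compl_iff : wd (o + om) p = 1 ↔ wd o p = 0 := by
  rw [wd_add_om_apply]
  generalize wd o p = a
  revert a; decide

theorem card_compl (ho : o ∈ Oct) : (support₂ (wd (o + om))).card = 16 := by
  have := wt_wd_add_om o
  rw [mem_Oct.1 ho, wt_eq_card] at this
  omega

end GA

open GA

theorem o0_oct : o0 ∈ Oct := mem_Oct.2 (by rw [o0, wd_single]; decide +kernel)

theorem coc_cases (h : ψ ⬝ᵥ om = 0) : ψ = 0 ∨ Du ψ ∨ ∃ δ, wt δ = 4 ∧ ψ = sy δ := by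
  obtain ⟨δ, hδ⟩ := sy_surjective ψ
  obtain ⟨t, ht, hw⟩ := Golay.isGolay.exists_small δ
  have e : ψ = sy (BinCode.ind t) := hδ ▸ cd_eq_of_add (by rw [← map_add]; exact sy_eq_zero_iff.2 hw)
  have h1 : wt (BinCode.ind t) ≤ 4 := by rwa [wt_eq_card, BinCode.support_ind]
  rw [e, sy_dot_om, even_wt] at h
  obtain k | k | k : wt (BinCode.ind t) = 0 ∨ wt (BinCode.ind t) = 2 ∨ wt (BinCode.ind t) = 4 := by
    omega
  · exact .inl (by rw [e, wt_eq_zero.1 k, map_zero])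
  · obtain ⟨i, j, ne, k⟩ := two k
    exact .inr (.inl ⟨i, j, ne, by rw [e, k]⟩)
  · exact .inr (.inr ⟨_, k, e⟩)

theorem ex_tet (h : wt δ = 4) (r : Pt) : ∃ δ', wt δ' = 4 ∧ sy δ' = sy δ ∧ δ' r = 1 := by
  rcases z2_cases (δ r) with hr | hr
  swap
  · exact ⟨δ, h, rfl, hr⟩
  obtain ⟨b, ⟨⟨⟨w, hw, rfl⟩, hb⟩, hs⟩, -⟩ := Golay.octads_steiner.2 (insert r (support₂ δ)) (by
    rw [Finset.card_insert_of_notMem (by rw [mem_supp, hr]; decide), ← wt_eq_card, h])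
  have h1 : δ * w = δ := mul_eq_iff_subset.2 ((Finset.subset_insert _ _).trans hs)
  have h2 := wt_add δ w
  rw [h1, h, wt_eq_card w, hb] at h2
  refine ⟨δ + w, by omega, by rw [map_add, sy_eq_zero_iff.2 hw, add_zero], ?_⟩
  rw [Pi.add_apply, hr, mem_supp.1 (hs (Finset.mem_insert_self _ _)), zero_add]

theorem tet_eq (h : wt δ = 4) (h' : wt δ' = 4) (e : sy δ = sy δ') (hp : δ p = 1) (hp' : δ' p = 1) : δ = δ' := by
  have h1 := wt_add δ δ'
  have h2 := wt_pos (δ := δ * δ') (p := p) (by rw [Pi.mul_apply, hp, hp', one_mul])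
  exact Rk.wd_eq_of_add (eq_zero_of_sy (sy_add e) (by omega))

theorem GA.tet_disj (h : wt δ = 4) (h' : wt δ' = 4) (e : sy δ = sy δ') (ne : δ ≠ δ') : δ * δ' = 0 :=
  funext fun q => (z2_cases _).resolve_right fun k =>
    ne (tet_eq h h' e (mul_eq_one.1 k).1 (mul_eq_one.1 k).2)

theorem not_du (h : wt δ = 4) : ¬ Du (sy δ) := fun ⟨i, j, ne, e⟩ => by
  have h1 := wt_add_le δ (e2 i j)
  have h2 := wt_e2 ne
  rw [Rk.wd_eq_of_add (eq_zero_of_sy (sy_add e) (by omega))] at h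
  omega

theorem du_sub (h : wt δ = 4) (hp : δ p = 1) (hp' : δ p' = 1) (ne : p ≠ p') : Du (sy δ + sy (e2 p p')) := by
  have h1 := wt_add δ (e2 p p')
  rw [mul_comm δ (e2 p p'), e2_mul hp hp', wt_e2 ne, h] at h1
  obtain ⟨i, j, k, e⟩ := two (δ := δ + e2 p p') (by omega)
  exact ⟨i, j, k, by rw [← map_add, e]⟩

theorem Rf.zero (o : Cd) : Rf o 0 := ⟨0, zero_mem_Ev o, (map_zero _).symm⟩

theorem Rf.add (h : Rf o ψ) (h' : Rf o φ) : Rf o (ψ + φ) := by
  obtain ⟨δ, h1, rfl⟩ := h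
  obtain ⟨ε, h2, rfl⟩ := h'
  exact ⟨_, add_mem_Ev h1 h2, (map_add _ _ _).symm⟩

theorem Rf.perp (h : Rf o ψ) (hc : CO o c) : ψ ⬝ᵥ c = 0 := by
  obtain ⟨δ, h1, rfl⟩ := h
  obtain ⟨h1, h2⟩ := mem_Ev.1 h1
  rw [sy_dot, ← h1, mul_dot, mul_comm]
  rcases hc with h | h
  · rw [h, dotProduct_zero]
  · rw [h, ← sum_mul_eq, h1, h2]

/-- The syndromes of the even subsets of an octad. -/
def GA.RS (o : Cd) : AddSubgroup Cd where
  carrier := {ψ | Rf o ψ}
  zero_mem' := Rf.zero o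
  add_mem' := Rf.add
  neg_mem' := fun {a} h => by rwa [neg_eq_of_add_eq_zero_left (cd_add_self a)]

theorem rf_of_perp (ho : o ∈ Oct) (h : ∀ c, CO o c → ψ ⬝ᵥ c = 0) : Rf o ψ := by
  have h1 := card_perp_dB (RS o)
  have h2 := card_perp_dB (perp dB (RS o))
  have h3 : RS o ≤ perp dB (perp dB (RS o)) := fun a ha => mem_perp_dB.2 fun e he =>
    (dotProduct_comm _ _).trans (mem_perp_dB.1 he a ha)
  have h4 : Nat.card (perp dB (perp dB (RS o))) ≤ Nat.card (RS o) :=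
    (Nat.eq_of_mul_eq_mul_right Nat.card_pos (h2.trans (h1.symm.trans (mul_comm _ _)))).le
  refine (AddSubgroup.eq_of_le_of_card_ge h3 h4).ge (mem_perp_dB.2 fun e he => h e ?_)
  by_contra hn
  rw [CO, not_or] at hn
  obtain ⟨i, hi⟩ := Function.ne_iff.1 hn.1
  obtain ⟨j, hj⟩ := Function.ne_iff.1 hn.2
  have key : ∀ a b c d : ZMod 2, a * b ≠ 0 → c * d ≠ d → b = 1 ∧ d = 1 ∧ a + c = 1 := by decide
  obtain ⟨k1, k2, k3⟩ := key _ _ _ _ hi hj
  have := mem_perp_dB.1 he _ ⟨_, e2_mem_Ev k1 k2, rfl⟩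
  rw [dotProduct_comm, sy_dot, e2_dot, k3] at this
  exact one_ne this

theorem Rf.tet (ho : o ∈ Oct) (h : Rf o ψ) (h0 : ψ ≠ 0) (hd : ¬ Du ψ) :
    ∃ δ, wt δ = 4 ∧ δ * wd o = δ ∧ ψ = sy δ := by
  obtain ⟨δ, h1, rfl⟩ := h
  obtain ⟨h1, h2⟩ := mem_Ev.1 h1
  have h3 := wt_add δ (wd o)
  have h4 : sy δ = sy (δ + wd o) := by rw [map_add, sy_wd, add_zero]
  rw [h1, mem_Oct.1 ho] at h3
  rw [even_wt] at h2
  have h5 : ∀ ε, sy δ = sy ε → wt ε ≠ 0 ∧ wt ε ≠ 2 := fun ε e =>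
    ⟨fun k => h0 (by rw [e, wt_eq_zero.1 k, map_zero]), fun k => by
      obtain ⟨i, j, ne, k⟩ := two k
      exact hd ⟨i, j, ne, by rw [e, k]⟩⟩
  have h6 := h5 _ rfl
  have h7 := h5 _ h4
  exact ⟨δ, by omega, h1, rfl⟩

theorem not_rf (ho : o ∈ Oct) (hp : wd o p = 0) (ne : p ≠ p') : ¬ Rf o (sy (e2 p p')) := by
  rintro ⟨δ, h1, e⟩
  obtain ⟨h1, -⟩ := mem_Ev.1 h1
  obtain ⟨d, hd⟩ := sy_eq_iff.1 e
  have h2 : wd d p = 1 := by rw [hd, Pi.add_apply, e2_left ne, out_of_in h1 hp, add_zero]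
  have h3 : wt (wd d * wd (o + om)) ≤ 3 := by
    rw [hd, add_mul, ← h1, mul_assoc, mul_comm (wd o), compl_mul, mul_zero, add_zero, mul_comm]
    exact (wt_mul_le _ _).trans ((wt_e2_le _ _).trans (by omega))
  rcases eq_of_near_oct ho h3 with rfl | rfl
  · rw [map_zero] at h2; exact one_ne h2.symm
  · exact one_ne (h2.symm.trans hp)

theorem D4.co (h : D4 o c) : CO o c := by
  rcases h with (rfl | rfl) | h | h
  · exact .inl (by rw [map_zero, zero_mul])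
  · exact .inr (by rw [wd_om, one_mul])
  · exact .inr (by rw [cd_eq_of_add h, wd_mul_self])
  · exact .inl (by rw [show c = o + om by rw [← h, add_comm c, cancel'], compl_mul])

theorem D4.add (h : D4 o c) (h' : D4 o c') : D4 o (c + c') := by
  rcases h with h | h <;> rcases h' with h' | h'
  · exact .inl (h.add h')
  · exact .inr ((h.add h').of_eq (add_assoc _ _ _).symm)
  · exact .inr ((h.add h').of_eq (add_right_comm _ _ _))
  · exact .inl ((h.add h').of_eq (by rw [add_add_add_comm, cd_add_self, add_zero]))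

theorem D4.out (h : D4 o c) (hp : wd o p = 0) (hp' : wd o p' = 0) : wd c p = wd c p' := by
  refine z2_eq_of_add ?_
  rcases h with h | h
  · exact d0_iff.1 h p p'
  · have := d0_iff.1 h p p'
    rwa [map_add, Pi.add_apply, Pi.add_apply, hp, hp', add_zero, add_zero] at this

theorem GA.d4_om : D4 o om := .inl d0_om
theorem GA.d4_self : D4 o o := .inr (d0_self o)

/-- The span of an octad and the all-one word. -/
def GA.DS (o : Cd) : AddSubgroup Cd where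
  carrier := {c | D4 o c}
  zero_mem' := .inl d0_zero
  add_mem' := D4.add
  neg_mem' := fun {a} h => by rwa [neg_eq_of_add_eq_zero_left (cd_add_self a)]

theorem GA.mem_pd (k1 : φ ⬝ᵥ om = 0) (k2 : φ ⬝ᵥ o = 0) : φ ∈ perp dB (DS o) :=
  mem_perp_dB.2 fun e he => by
    rcases he with (rfl | rfl) | h | h
    · exact dotProduct_zero _
    · exact k1
    · rw [cd_eq_of_add h, k2]
    · rw [show e = o + om by rw [← h, add_comm e, cancel'], dotProduct_add, k1, k2, add_zero]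

theorem GA.card_ds (ho : o ∈ Oct) : 4 ≤ Nat.card (DS o) := by
  have h1 : wt (wd (0 : Cd)) = 0 := by rw [map_zero, wt_zero]
  have h2 : wt (wd om) = 24 := by rw [wd_om, wt_one]
  have h3 := mem_Oct.1 ho
  have h4 : wt (wd (o + om)) = 16 := (wt_eq_card _).trans (card_compl ho)
  have h5 : Function.Injective (fun i : Fin 4 => (![⟨0, .inl d0_zero⟩, ⟨o, d4_self⟩,
      ⟨o + om, d4_self.add d4_om⟩, ⟨om, d4_om⟩] i : DS o)) := by
    refine Function.Injective.of_comp (f := fun c : DS o => wt (wd c.1)) ?_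
    have : ((fun c : DS o => wt (wd c.1)) ∘ fun i : Fin 4 => (![⟨0, .inl d0_zero⟩, ⟨o, d4_self⟩,
      ⟨o + om, d4_self.add d4_om⟩, ⟨om, d4_om⟩] i : DS o)) = fun i : Fin 4 => 8 * i.1 := by
      funext i
      fin_cases i
      exacts [h1, h3, h4, h2]
    rw [this]
    decide
  simpa using Nat.card_le_card_of_injective _ h5

theorem GA.card_pd (ho : o ∈ Oct) : Nat.card (perp dB (DS o)) ≤ 1024 := by
  have h1 := card_perp_dB (DS o)
  have h2 := card_ds ho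
  generalize Nat.card (perp dB (DS o)) = a at h1
  generalize Nat.card (DS o) = b at h1 h2
  nlinarith

theorem GA.card_im (ho : o ∈ Oct) : 128 ≤ 2 * ((Ev o).image sy).card := by
  rw [← card_Ev ho]
  refine Finset.card_le_mul_card_image _ 2 fun b hb => ?_
  obtain ⟨δ, hδ, rfl⟩ := Finset.mem_image.1 hb
  refine le_trans (Finset.card_le_card (t := {δ, δ + wd o}) fun ε hε => ?_) Finset.card_le_two
  obtain ⟨k1, k2⟩ := Finset.mem_filter.1 hε
  rw [Finset.mem_insert, Finset.mem_singleton]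
  exact Ev_eq_of_sy ho hδ k1 k2.symm

theorem GA.mem_im : ψ ∈ (Ev o).image sy ↔ Rf o ψ := by
  rw [Finset.mem_image]
  exact ⟨fun ⟨δ, k, e⟩ => ⟨δ, k, e.symm⟩, fun ⟨δ, k, e⟩ => ⟨δ, k, e.symm⟩⟩

theorem GA.surj {α β : Type} [AddGroup β] [Finite β] (S : Finset α) (K : AddSubgroup β) (f : α → β)
    (h1 : ∀ x ∈ S, f x ∈ K) (h2 : ∀ x ∈ S, ∀ y ∈ S, f x = f y → x = y) (h3 : Nat.card K ≤ S.card)
    {b : β} (hb : b ∈ K) : ∃ x ∈ S, f x = b := by
  have := (Function.Injective.bijective_of_nat_card_le (f := fun x : S => (⟨f x, h1 _ x.2⟩ : K))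
    (fun x y e => Subtype.ext (h2 _ x.2 _ y.2 (congrArg Subtype.val e))) (by simpa using h3)).2 ⟨b, hb⟩
  obtain ⟨x, e⟩ := this
  exact ⟨x, x.2, congrArg Subtype.val e⟩

theorem ex_pt (ho : o ∈ Oct) (h1 : ψ ⬝ᵥ om = 0) (h2 : ψ ⬝ᵥ o = 0) (hp : wd o p = 0) :
    ∃ p', wd o p' = 0 ∧ Rf o (ψ + sy (e2 p p')) := by
  obtain ⟨x, hx, e⟩ := surj (support₂ (wd (o + om)) ×ˢ (Ev o).image sy) (perp dB (DS o))
    (fun x => x.2 + sy (e2 p x.1)) (fun x hx => by
      obtain ⟨k1, k2⟩ := Finset.mem_product.1 hx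
      refine mem_pd ?_ ?_
      · rw [add_dotProduct, (mem_im.1 k2).perp d4_om.co, sy_dot_om, sum_e2, add_zero]
      · rw [add_dotProduct, (mem_im.1 k2).perp d4_self.co, sy_dot, e2_dot, hp,
          compl_iff.1 (mem_supp.1 k1), add_zero, add_zero])
    (fun x hx y hy e' => by
      obtain ⟨k1, k2⟩ := Finset.mem_product.1 hx
      obtain ⟨-, k4⟩ := Finset.mem_product.1 hy
      have e1 : x.1 = y.1 := by
        by_contra ne
        refine not_rf ho (compl_iff.1 (mem_supp.1 k1)) ne ?_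
        have : sy (e2 x.1 y.1) = x.2 + y.2 := cd_eq_of_add (by
          rw [← e2_add p, map_add, add_add_add_comm, add_comm _ x.2, add_comm _ y.2, e', cd_add_self])
        rw [this]
        exact (mem_im.1 k2).add (mem_im.1 k4)
      rw [e1] at e'
      exact Prod.ext e1 (add_right_cancel e'))
    (by
      have a2 := card_pd ho
      have a3 := card_im ho
      rw [Finset.card_product, card_compl ho]; omega) (mem_pd h1 h2)
  obtain ⟨k1, k2⟩ := Finset.mem_product.1 hx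
  refine ⟨x.1, compl_iff.1 (mem_supp.1 k1), ?_⟩
  rw [← e, add_assoc, cd_add_self, add_zero]
  exact mem_im.1 k2

theorem GA.oct_of (ho : o ∈ Oct) (hc : wd c * wd o = 0) (hn : ¬ D4 o c) : c ∈ Oct := by
  have h1 := wt_add (wd c) (wd o)
  rw [hc, wt_zero, mem_Oct.1 ho, ← map_add] at h1
  have h2 := wt_wd c
  have h3 := wt_wd (c + o)
  have h4 : wt (wd c) ≠ 0 := fun e => hn (.inl (.inl (wt_wd_eq_zero.1 e)))
  have h5 : wt (wd (c + o)) ≠ 24 := fun e => hn (.inr (.inr (wt_wd_eq_24.1 e)))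
  exact mem_Oct.2 (by omega)

theorem ex_oct (ho : o ∈ Oct) (hc : CO o c) (hn : ¬ D4 o c) : ∃ H ∈ Oct, wd H * wd o = 0 ∧ D4 o (c + H) := by
  rcases hc with h | h
  · exact ⟨c, oct_of ho h hn, h, .inl (d0_self c)⟩
  · have h1 : wd (c + om) * wd o = 0 := by rw [map_add, wd_om, add_mul, h, one_mul, wd_add_self]
    refine ⟨c + om, oct_of ho h1 fun k => hn ?_, h1, by rw [cancel']; exact d4_om⟩
    rw [← add_om_om c]
    exact k.add d4_om

theorem third_oct (ho : o ∈ Oct) (ho' : o' ∈ Oct) (h : wd o * wd o' = 0) : o + o' + om ∈ Oct := by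
  have h1 := wt_add (wd o) (wd o')
  have h2 := wt_wd_add_om (o + o')
  rw [h, wt_zero, mem_Oct.1 ho, mem_Oct.1 ho', ← map_add] at h1
  exact mem_Oct.2 (by omega)

theorem GA.mul_third (h1 : δ * wd o = 0) (h2 : δ * wd o' = 0) : δ * wd (o + o' + om) = δ := by
  rw [map_add, map_add, wd_om, mul_add, mul_add, h1, h2, mul_one, zero_add, zero_add]

theorem eq_third (ho : o ∈ Oct) (ho' : o' ∈ Oct) (hH : H ∈ Oct) (h : wd o * wd o' = 0) (h1 : wd H * wd o = 0)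
    (h2 : wd H * wd o' = 0) : H = o + o' + om :=
  (oct_sub (mem_Oct.1 (third_oct ho ho' h)) (mul_third h1 h2)).resolve_left fun e =>
    wd_ne_zero_of_Oct hH (by rw [e, map_zero])

theorem GA.sy_d4 (h : D4 o c) (h' : CO o c') : sy (wd c * wd c') = 0 := by
  have h1 : sy (wd o * wd c') = 0 := by
    rcases h' with k | k <;> rw [mul_comm, k]
    exacts [map_zero _, sy_wd o]
  rcases h with (rfl | rfl) | h | h
  · rw [map_zero, zero_mul, map_zero]
  · rw [wd_om, one_mul, sy_wd]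
  · rw [cd_eq_of_add h, h1]
  · rw [show c = o + om by rw [← h, add_comm c, cancel'], map_add, wd_om, add_mul, one_mul, map_add,
      h1, sy_wd, add_zero]

theorem co_three (ho : o ∈ Oct) (hc : CO o c) (hc' : CO o c') (h : sy (wd c * wd c') = 0) :
    D4 o c ∨ D4 o c' ∨ D4 o (c + c') := by
  by_cases n1 : D4 o c
  · exact .inl n1
  by_cases n2 : D4 o c'
  · exact .inr (.inl n2)
  obtain ⟨H, a1, a2, a3⟩ := ex_oct ho hc n1
  obtain ⟨H', b1, b2, b3⟩ := ex_oct ho hc' n2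
  have h1 : sy (wd H * wd H') = 0 := by
    rw [← cancel' c H, ← cancel' c' H', map_add wd c, map_add wd c', add_mul, mul_add, mul_add,
      map_add sy, map_add sy, map_add sy, h, mul_comm (wd c), sy_d4 b3 hc, sy_d4 a3 hc',
      sy_d4 a3 b3.co]
    simp
  obtain ⟨e, he⟩ := exists_wd (sy_eq_zero_iff.1 h1)
  have h2 : D4 o (H + H') := by
    rcases oct_sub (e := e) (mem_Oct.1 b1) (by rw [he, mul_assoc, wd_mul_self]) with rfl | rfl
    · rw [map_zero] at he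
      rw [eq_third ho b1 a1 (by rw [mul_comm, b2]) a2 he.symm, add_right_comm, add_assoc o,
        cd_add_self, add_zero]
      exact d4_self.add d4_om
    · rcases oct_sub (e := e) (mem_Oct.1 a1) (by
        rw [mul_comm]; exact he.symm) with rfl | rfl
      · exact absurd (map_zero wd) (wd_ne_zero_of_Oct b1)
      · exact .inl (d0_self _)
  have h3 := (a3.add b3).add h2
  rw [add_add_add_comm c, add_assoc, cd_add_self, add_zero] at h3
  exact .inr (.inr h3)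

theorem GA.special3 (ho : o ∈ Oct) (hR : wd R * wd o = 0) (hp : wd R p = 1) (hp1 : wd R p1 = 1)
    (hp2 : wd R p2 = 1) (n1 : p ≠ p1) (n2 : p ≠ p2) (n3 : p1 ≠ p2) :
    ∃ δ, wt δ = 4 ∧ δ * wd R = δ ∧ Rf o (sy δ) ∧ δ p = 1 ∧ δ p1 = 1 ∧ δ p2 = 1 := by
  obtain ⟨q, -, h⟩ := ex_pt (ψ := sy (e2 p1 p2)) ho (by rw [sy_dot_om, sum_e2])
    (by rw [sy_dot, e2_dot, out_of hR hp1, out_of hR hp2, add_zero]) (out_of hR hp)
  rw [← map_add] at h
  have m0 : p ≠ q := by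
    rintro rfl
    rw [e2_self, add_zero] at h
    exact not_rf ho (out_of hR hp1) n3 h
  have m1 : p1 ≠ q := by
    rintro rfl
    rw [e2_comm p, e2_add] at h
    exact not_rf ho (out_of hR hp2) n2.symm h
  have m2 : p2 ≠ q := by
    rintro rfl
    rw [e2_comm p, e2_comm p1, e2_add] at h
    exact not_rf ho (out_of hR hp1) n1.symm h
  have h1 := h.perp (c := R) (.inl hR)
  rw [sy_dot, add_dotProduct, e2_dot, e2_dot, hp, hp1, hp2, z2_add_self, zero_add] at h1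
  refine ⟨_, four n3 n1.symm m1 n2.symm m2 m0, ?_, h, ?_, ?_, ?_⟩
  · rw [add_mul, e2_mul hp1 hp2, e2_mul hp (z2_eq_of_add h1).symm]
  · rw [Pi.add_apply, e2_out n1 n2, e2_left m0, zero_add]
  · rw [Pi.add_apply, e2_left n3, e2_out n1.symm m1, add_zero]
  · rw [Pi.add_apply, e2_comm, e2_left n3.symm, e2_out n2.symm m2, add_zero]

theorem ex_special (ho : o ∈ Oct) (hR : wd R * wd o = 0) (hp : wd R p = 1) (hp1 : wd R p1 = 1) (hp2 : wd R p2 = 1) :
    ∃ δ, wt δ = 4 ∧ δ * wd R = δ ∧ Rf o (sy δ) ∧ δ p = 1 ∧ δ p1 = 1 ∧ δ p2 = 1 := by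
  have h1 := wt_pos hp
  have h2 := wt_wd R
  obtain ⟨u, u1, u2, u3⟩ := Finset.exists_subsuperset_card_eq (s := {p, p1, p2})
    (t := support₂ (wd R)) (n := 3) (by
      intro q hq
      simp only [Finset.mem_insert, Finset.mem_singleton] at hq
      rcases hq with rfl | rfl | rfl <;> rwa [mem_supp]) Finset.card_le_three
    (by rw [← wt_eq_card]; omega)
  obtain ⟨x, y, z, n1, n2, n3, rfl⟩ := Finset.card_eq_three.1 u3
  obtain ⟨δ, a1, a2, a3, a4, a5, a6⟩ := special3 ho hR (mem_supp.1 (u2 (by simp : x ∈ _)))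
    (mem_supp.1 (u2 (by simp : y ∈ _))) (mem_supp.1 (u2 (by simp : z ∈ _))) n1 n2 n3
  have h3 : ∀ q ∈ ({x, y, z} : Finset Pt), δ q = 1 := fun q hq => by
    simp only [Finset.mem_insert, Finset.mem_singleton] at hq
    rcases hq with rfl | rfl | rfl <;> assumption
  exact ⟨δ, a1, a2, a3, h3 _ (u1 (by simp)), h3 _ (u1 (by simp)), h3 _ (u1 (by simp))⟩

theorem special_out (ho : o ∈ Oct) (h : wt δ = 4) (hr : Rf o (sy δ)) (hp : δ p = 1) (hp' : wd o p = 0) :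
    δ * wd o = 0 := by
  obtain ⟨ε, a1, a2, a3⟩ := hr.tet ho (sy_ne h) (not_du h)
  have a4 := out_of_in a2 hp'
  have h1 := tet_disj h a1 a3 fun e => one_ne (by rw [← hp, e, a4])
  obtain ⟨d, hd⟩ := sy_eq_iff.1 a3
  have h2 := wt_add δ ε
  rw [h1, wt_zero, h, a1, ← hd] at h2
  have h3 := inter_le (mem_Oct.2 h2) ho fun e => one_ne (by
    rw [← hp', ← e, hd, Pi.add_apply, hp, a4, add_zero])
  have h4 := wt_add (δ * wd o) ε
  rw [mul_right_comm, h1, zero_mul, wt_zero, a1] at h4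
  rw [hd, add_mul, a2] at h3
  exact wt_eq_zero.1 (by omega)

theorem special_uniq (ho : o ∈ Oct) (h : wt δ = 4) (h' : wt δ' = 4) (hr : Rf o (sy δ)) (hr' : Rf o (sy δ'))
    (hp : wd o p = 0) (n1 : p ≠ p1) (n2 : p ≠ p2) (n3 : p1 ≠ p2) (a0 : δ p = 1) (a1 : δ p1 = 1) (a2 : δ p2 = 1)
    (b0 : δ' p = 1) (b1 : δ' p1 = 1) (b2 : δ' p2 = 1) : δ = δ' := by
  have h1 := wt_add δ δ'
  have h2 : 3 ≤ wt (δ * δ') := by
    rw [wt_eq_card, ← Finset.card_eq_three.2 ⟨p, p1, p2, n1, n2, n3, rfl⟩]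
    refine Finset.card_le_card fun q hq => ?_
    simp only [Finset.mem_insert, Finset.mem_singleton] at hq
    rcases hq with rfl | rfl | rfl <;> simp [*]
  obtain k | k : wt (δ + δ') = 0 ∨ wt (δ + δ') = 2 := by omega
  · exact Rk.wd_eq_of_add (wt_eq_zero.1 k)
  obtain ⟨i, j, ne, e⟩ := two k
  have h3 := hr.add hr'
  have h4 : (δ + δ') * wd o = 0 := by
    rw [add_mul, special_out ho h hr a0 hp, special_out ho h' hr' b0 hp, add_zero]
  rw [← map_add] at h3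
  rw [e] at h3 h4
  exact absurd h3 (not_rf ho (out_of h4 (e2_left ne)) ne)

theorem sep_oct (ho : o ∈ Oct) (h : wt δ = 4) (hr : Rf o (sy δ)) (hd : δ * wd o = 0) (hp : wd o p = 0)
    (hp' : δ p = 0) : ∃ H ∈ Oct, wd H * wd o = 0 ∧ δ * wd H = δ ∧ wd H p = 0 := by
  obtain ⟨τ, a1, a2, a3⟩ := ex_tet h p
  obtain ⟨r, -, hr'⟩ := Finset.exists_mem_notMem_of_card_lt_card
    (s := support₂ (wd o) ∪ (support₂ δ ∪ support₂ τ)) (t := Finset.univ) (by
      refine lt_of_le_of_lt ((Finset.card_union_le _ _).trans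
        (Nat.add_le_add_left (Finset.card_union_le _ _) _)) ?_
      rw [← wt_eq_card, ← wt_eq_card, ← wt_eq_card, mem_Oct.1 ho, h, a1, Leech.card_univ_pt]
      omega)
  simp only [Finset.mem_union, mem_supp, not_or] at hr'
  obtain ⟨ρ, b1, b2, b3⟩ := ex_tet h r
  have h1 := tet_disj h b1 b2.symm fun e => hr'.2.1 (by rw [e, b3])
  obtain ⟨d, e⟩ := sy_eq_iff.1 b2.symm
  have h2 := wt_add δ ρ
  rw [h1, wt_zero, h, b1, ← e] at h2
  refine ⟨d, mem_Oct.2 h2, ?_, ?_, ?_⟩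
  · rw [e, add_mul, hd, special_out ho b1 (by rw [b2]; exact hr) b3 ((z2_cases _).resolve_right hr'.1), add_zero]
  · rw [e, mul_add, h1, wd_mul_self, add_zero]
  · rw [e, Pi.add_apply, hp', zero_add]
    exact (z2_cases _).resolve_right fun k => hr'.2.2 (by
      rw [← tet_eq b1 a1 (b2.trans a2.symm) k a3, b3])

theorem seven (ho : o ∈ Oct) (hp : wd o p = 0) (hp' : wd o p' = 0) (ne : p ≠ p') : ∃ S : Finset Cd, 7 ≤ S.card ∧
    ∀ ψ ∈ S, Rf o ψ ∧ ∃ δ, wt δ = 4 ∧ ψ = sy δ ∧ δ p = 1 ∧ δ p' = 1 := by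
  have h1 : ∀ q : Pt, ∃ δ : Wd, wd (o + om) q = 1 →
      wt δ = 4 ∧ Rf o (sy δ) ∧ δ p = 1 ∧ δ p' = 1 ∧ δ q = 1 := fun q => by
    by_cases hq : wd (o + om) q = 1
    · obtain ⟨δ, a1, -, a2⟩ := ex_special ho (compl_mul o) (compl_iff.2 hp) (compl_iff.2 hp') hq
      exact ⟨δ, fun _ => ⟨a1, a2⟩⟩
    · exact ⟨0, fun k => absurd k hq⟩
  choose f hf using h1
  refine ⟨(support₂ (wd (o + om)) \ {p, p'}).image fun q => sy (f q), ?_, fun ψ hψ => ?_⟩
  · have h2 := Finset.card_le_mul_card_image (f := fun q => sy (f q))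
      (support₂ (wd (o + om)) \ {p, p'}) 2 fun b hb => by
        obtain ⟨q, hq, rfl⟩ := Finset.mem_image.1 hb
        obtain ⟨a1, -, a2, a3, -⟩ := hf q (mem_supp.1 (Finset.mem_sdiff.1 hq).1)
        refine le_trans (Finset.card_le_card (t := support₂ (f q) \ {p, p'}) fun r hr => ?_) ?_
        · obtain ⟨k1, k2⟩ := Finset.mem_filter.1 hr
          obtain ⟨b1, -, b2, -, b3⟩ := hf r (mem_supp.1 (Finset.mem_sdiff.1 k1).1)
          exact Finset.mem_sdiff.2 ⟨mem_supp.2 (by rw [← tet_eq b1 a1 k2 b2 a2, b3]),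
            (Finset.mem_sdiff.1 k1).2⟩
        · rw [Finset.card_sdiff_of_subset (by
            intro r hr
            simp only [Finset.mem_insert, Finset.mem_singleton] at hr
            rcases hr with rfl | rfl <;> rwa [mem_supp]), ← wt_eq_card, a1, Finset.card_pair ne]
    have h3 := Finset.le_card_sdiff {p, p'} (support₂ (wd (o + om)))
    rw [card_compl ho, Finset.card_pair ne] at h3
    omega
  · obtain ⟨q, hq, rfl⟩ := Finset.mem_image.1 hψ
    obtain ⟨a1, a2, a3, a4, -⟩ := hf q (mem_supp.1 (Finset.mem_sdiff.1 hq).1)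
    exact ⟨a2, _, a1, rfl, a3, a4⟩

theorem GA.tet_in (ho : o ∈ Oct) (h : Rf o ψ) (h0 : ψ ≠ 0) (hd : ¬ Du ψ) (hp : wd o p = 1) :
    ∃ δ, wt δ = 4 ∧ δ * wd o = δ ∧ ψ = sy δ ∧ δ p = 1 := by
  obtain ⟨ε, a1, a2, a3⟩ := h.tet ho h0 hd
  rcases z2_cases (ε p) with k | k
  · have h1 := wt_add ε (wd o)
    rw [a2, a1, mem_Oct.1 ho] at h1
    exact ⟨ε + wd o, by omega, by rw [add_mul, a2, wd_mul_self], by rw [map_add, sy_wd, add_zero, a3],
      by rw [Pi.add_apply, k, hp, zero_add]⟩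
  · exact ⟨ε, a1, a2, a3, k⟩

theorem rf_disj (ho : o ∈ Oct) (ho' : o' ∈ Oct) (ne : o ≠ o') (h1 : Rf o ψ) (h2 : Rf o' ψ) (h3 : Rf o φ)
    (h4 : Rf o' φ) (n1 : ψ ≠ 0) (n2 : φ ≠ 0) (n3 : ψ ≠ φ) (d1 : ¬ Du ψ) (d2 : ¬ Du φ) : wd o * wd o' = 0 := by
  refine funext fun r => (z2_cases _).resolve_right fun k => n3 ?_
  obtain ⟨k1, k2⟩ : wd o r = 1 ∧ wd o' r = 1 := mul_eq_one.1 k
  have key : ∀ χ, Rf o χ → Rf o' χ → χ ≠ 0 → ¬ Du χ → χ = sy (wd o * wd o') := fun χ a b n d => by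
    obtain ⟨δ, a1, a2, a3, a4⟩ := tet_in ho a n d k1
    obtain ⟨ε, b1, b2, b3, b4⟩ := tet_in ho' b n d k2
    obtain rfl := tet_eq a1 b1 (a3.symm.trans b3) a4 b4
    have e1 := wt_add δ (wd o * wd o')
    have e2 := inter_le ho ho' ne
    rw [← mul_assoc, a2, b2, a1] at e1
    rw [a3, Rk.wd_eq_of_add (wt_eq_zero.1 (by omega : wt (δ + wd o * wd o') = 0))]
  exact (key ψ h1 h2 n1 d1).trans (key φ h3 h4 n2 d2).symm

theorem rf_third (ho : o ∈ Oct) (ho' : o' ∈ Oct) (h : wd o * wd o' = 0) (h1 : Rf o ψ) (h2 : Rf o' ψ) :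
    Rf (o + o' + om) ψ := by
  by_cases h0 : ψ = 0
  · rw [h0]; exact Rf.zero _
  by_cases hd : Du ψ
  · obtain ⟨i, j, ne, rfl⟩ := hd
    exact absurd h2 (not_rf ho' (out_of h ((z2_cases _).resolve_left fun k => not_rf ho k ne h1)) ne)
  obtain ⟨ε, a1, -, rfl⟩ := h1.tet ho h0 hd
  obtain ⟨r, hr, -⟩ := exists_pt (δ := wd (o + o' + om)) [] (by
    rw [mem_Oct.1 (third_oct ho ho' h)]; decide)
  obtain ⟨ρ, b1, b2, b3⟩ := ex_tet a1 r
  have key : ∀ a b : ZMod 2, a + b + 1 = 1 → a * b = 0 → a = 0 ∧ b = 0 := by decide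
  rw [wd_add_om_apply, map_add] at hr
  obtain ⟨k1, k2⟩ := key _ _ hr (congrFun h r)
  rw [← b2] at h1 h2
  exact ⟨ρ, mem_Ev.2 ⟨mul_third (special_out ho b1 h1 b3 k1) (special_out ho' b1 h2 b3 k2),
    even_wt.2 (by omega)⟩, b2.symm⟩

theorem GA.pc_eq {σ : M24} (h : σ.1 • support₂ (wd c) = support₂ (wd c')) : pc σ c = c' :=
  wd_injective (support_inj (by rw [wd_pc, support_pm, h]))

theorem ex_pc_oct (ho : o ∈ Oct) (ho' : o' ∈ Oct) : ∃ σ, pc σ o = o' := by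
  obtain ⟨g, hg, e⟩ := Golay.exists_smul_octad_eq (mem_octads ho) (mem_octads ho')
  exact ⟨⟨g, hg⟩, pc_eq e⟩

theorem ex_pc_dod (hc : wt (wd c) = 12) (hc' : wt (wd c') = 12) : ∃ σ, pc σ c = c' := by
  obtain ⟨g, hg, e⟩ := Golay.exists_smul_dodecad_eq (d := support₂ (wd c)) (d' := support₂ (wd c'))
    ⟨⟨_, wd_mem c, rfl⟩, (wt_eq_card _).symm.trans hc⟩ ⟨⟨_, wd_mem c', rfl⟩, (wt_eq_card _).symm.trans hc'⟩
  exact ⟨⟨g, hg⟩, pc_eq e⟩

theorem ex_pc_pair (ho : o ∈ Oct) (ho' : o' ∈ Oct) (h : wd o * wd o' = 0) : ∃ σ, pc σ oa = o ∧ pc σ ob = o' := by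
  have hd : ∀ {a b : Wd}, a * b = 0 → Disjoint (support₂ a) (support₂ b) := fun k =>
    Finset.disjoint_left.2 fun q h1 h2 => one_ne ((mem_supp.1 h2).symm.trans (out_of k (mem_supp.1 h1)))
  obtain ⟨g, hg, a1, a2⟩ := MB.exists_smul_disjoint_pair (mem_octads ho) (mem_octads ho') (hd h)
  obtain ⟨k, hk, b1, b2⟩ := MB.exists_smul_disjoint_pair (mem_octads (mem_Oct.2 oab.1))
    (mem_octads (mem_Oct.2 oab.2.1)) (hd oab.2.2)
  exact ⟨⟨g * k⁻¹, mul_mem hg (inv_mem hk)⟩, pc_eq (by rw [← b1, ← a1, mul_smul, inv_smul_smul]),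
    pc_eq (by rw [← b2, ← a2, mul_smul, inv_smul_smul])⟩

theorem ex_pm_tet (h : wt δ = 4) : ∃ σ, pm σ δ = d0 := by
  have h1 : wt d0 = 4 := four (by decide) (by decide) (by decide) (by decide) (by decide) (by decide)
  obtain ⟨g, hg, e⟩ := Golay.exists_smul_finset_eq (s := support₂ δ) (t := support₂ d0)
    (by rw [← wt_eq_card, ← wt_eq_card, h, h1]) (by rw [← wt_eq_card]; omega)
  exact ⟨⟨g, hg⟩, support_inj (by rw [support_pm, e])⟩

theorem pc_oct (σ : M24) (ho : o ∈ Oct) : pc σ o ∈ Oct :=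
  mem_Oct.2 (by rw [wd_pc, wt_eq_card, support_pm, Finset.card_smul_finset, ← wt_eq_card, mem_Oct.1 ho])

end Cfsg.Agent.Gr.M2
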