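import Mathlib
import Cfsg.Agent.Gr.M2.GolA

/-! The Leech lattice modulo two over an octad. -/

set_option autoImplicit false

namespace Cfsg.Agent.Gr.M2

open Subgroup Cfsg.Agent.Spor Cfsg.Agent.Gr.Rk Cfsg.Agent.Gr.Am

attribute [local irreducible] sgC cls twoC csm

variable {o H : Cd} {δ : Wd} {p : Pt} {x : LL}

theorem GolB.fix_iff {γ : Co0} : x ∈ Fix γ ↔ csm γ x + x = 0 :=
  ⟨fun h => by rw [mem_Fix.1 h, ll_add_self], fun h => by
    rw [mem_Fix, ← add_zero (csm γ x), ← ll_add_self x, ← add_assoc, h, zero_add]⟩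

theorem mem_perp_fix {γ : Co0} (h : γ * γ = 1) : x ∈ perp pB (Fix γ) ↔ ∃ v, x = csm γ v + v := by
  have _ := h
  let φ : LL →+ LL := AddMonoidHom.mk' (fun v => csm γ v + v) fun a b => by rw [csm_add, add_add_add_comm]
  have hk : φ.ker = Fix γ := AddSubgroup.ext fun _ => GolB.fix_iff.symm
  have h1 := φ.ker.card_mul_index
  rw [AddSubgroup.index_ker, hk, card_LL, ← card_perp_pB (Fix γ), mul_comm] at h1
  have hle : φ.range ≤ perp pB (Fix γ) := by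
    rintro _ ⟨v, rfl⟩ w hw
    exact pol_fix hw v
  rw [← AddSubgroup.eq_of_le_of_card_ge hle (Nat.eq_of_mul_eq_mul_right Nat.card_pos h1).ge]
  exact exists_congr fun _ => eq_comm

theorem co_of_fix (h : csm (sgC H) x = x) (he : Ev0 x) : sy (wd x.1 * wd H) = 0 := by
  have h1 := csm_sgC_even he H
  rw [h, ll_add_self] at h1
  exact (congrArg Prod.snd h1).symm

theorem fix_co (ho : o ∈ Oct) (h : x ∈ Fix (sgC o)) : Ev0 x ∧ CO o x.1 := by
  have he := even_of_fix (mem_Oct.1 ho) h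
  obtain ⟨a, ha⟩ := exists_wd (sy_eq_zero_iff.1 (co_of_fix h he))
  refine ⟨he, (oct_sub (e := a) (mem_Oct.1 ho) (by rw [ha, mul_assoc, wd_mul_self])).imp ?_ ?_⟩ <;> rintro rfl
  · rw [← ha, map_zero]
  · exact ha.symm

theorem v12_fix (h : V12 x) : x ∈ Fix (sgC o) ↔ x.2 ⬝ᵥ o = 0 := by
  rw [mem_Fix, h.csm_sgC, add_eq_left]
  exact ⟨fun h => (smul_eq_zero.1 (congrArg Prod.fst h)).resolve_right om_ne_zero, fun h => by rw [h, zero_smul]; rfl⟩

theorem GolB.dot {w : LL} (h : V12 x) (he : Ev0 w) : w.2 ⬝ᵥ x.1 = 0 := by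
  rcases h.1 with e | e <;> rw [e]
  exacts [dotProduct_zero _, he]

theorem GolB.ex_fix (ho : o ∈ Oct) {c : Cd} (hc : CO o c) : ∃ w ∈ Fix (sgC o), w.1 = c := by
  have h1 := csm_sgC_even (w := (c, 0)) (zero_dotProduct _) o
  rw [show sy (wd c * wd o) = 0 by rcases hc with e | e <;> rw [e]; exacts [map_zero _, sy_wd o]] at h1
  generalize q2 _ + _ = a at h1
  rcases Rk.z2_cases a with rfl | rfl
  · exact ⟨_, GolB.fix_iff.2 (by rw [h1, zero_smul]; rfl), rfl⟩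
  · obtain ⟨i, hi, -⟩ := exists_pt (δ := wd o) [] (by rw [mem_Oct.1 ho]; decide)
    obtain ⟨j, hj⟩ := exists_out (mem_Oct.1 ho)
    refine ⟨(c, 0) + clB i j, GolB.fix_iff.2 ?_, add_zero c⟩
    rw [csm_add, add_add_add_comm, h1, om_eq (mem_Oct.1 ho) hi hj, one_smul, ll_add_self]

theorem v12_NO (ho : o ∈ Oct) (h : V12 x) : x ∈ NO o ↔ Rf o x.2 := by
  refine ⟨fun k => rf_of_perp ho fun c hc => ?_, fun k => mem_perp_pB.2 fun w hw => ?_⟩
  · obtain ⟨w, hw, rfl⟩ := GolB.ex_fix ho hc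
    have := mem_perp_pB.1 k w hw
    rwa [pol, GolB.dot h (fix_co ho hw).1, zero_add] at this
  · rw [pol, GolB.dot h (fix_co ho hw).1, k.perp (fix_co ho hw).2, add_zero]

theorem NO_le (o : Cd) : NO o ≤ Fix (sgC o) := fun x hx => by
  obtain ⟨v, rfl⟩ := (mem_perp_fix (sgC_mul_self o)).1 hx
  rw [mem_Fix, csm_add, ← csm_mul, sgC_mul_self, csm_one, add_comm]

theorem NO_d4 (ho : o ∈ Oct) (h : x ∈ NO o) : D4 o x.1 := by
  have key : ∀ i j, wd o i = wd o j → wd x.1 i = wd x.1 j := fun i j e => by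
    have := mem_perp_pB.1 h _ (clB_fix_iff.2 e)
    rw [pol_comm, pol_clB] at this
    exact z2_eq_of_add this
  obtain ⟨i, hi, -⟩ := exists_pt (δ := wd o) [] (by rw [mem_Oct.1 ho]; decide)
  obtain ⟨j, hj⟩ := exists_out (mem_Oct.1 ho)
  have k : ∀ p, wd x.1 p = wd x.1 j + (wd x.1 i + wd x.1 j) * wd o p := fun p => by
    rcases Rk.z2_cases (wd o p) with e | e
    · rw [e, mul_zero, add_zero, key p j (e.trans hj.symm)]
    · rw [e, mul_one, key p i (e.trans hi.symm), add_left_comm, z2_add_self, add_zero]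
  refine (Rk.z2_cases (wd x.1 i + wd x.1 j)).imp (fun e => d0_iff.2 fun p q => ?_) fun e => d0_iff.2 fun p q => ?_
  · rw [k p, k q, e, zero_mul, zero_mul, z2_add_self]
  · rw [map_add, Pi.add_apply, Pi.add_apply, k p, k q, e, one_mul, one_mul, add_assoc (wd x.1 j) (wd o p),
      add_assoc (wd x.1 j) (wd o q), z2_add_self, z2_add_self, z2_add_self]

theorem NO_qL (ho : o ∈ Oct) (h : x ∈ NO o) : qL x = 0 := by
  obtain ⟨v, rfl⟩ := (mem_perp_fix (sgC_mul_self o)).1 h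
  rw [qL_add, qL_csm, z2_add_self, zero_add, pol_comm, pol_sgC, q4_oct ho, zero_mul]

theorem GolB.v12 (hδ : δ ∈ Ev o) (a : ZMod 2) : V12 (a • om, sy δ) :=
  v12_smul a ((sy_dot_om δ).trans (mem_Ev.1 hδ).2)

theorem clT_NO (ho : o ∈ Oct) (hδ : δ ∈ Ev o) : clT o δ ∈ NO o := by
  rw [show clT o δ = cls (twoC o) + (q2 δ • om, sy δ) by rw [cls_twoC, q4_oct ho, zero_smul, add_zero]; rfl]
  exact add_mem (mem_perp_pB.2 fun w hw => pol_twoC_oct (mem_Oct.1 ho) hw)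
    ((v12_NO ho (GolB.v12 hδ _)).2 ⟨δ, hδ, rfl⟩)

theorem clT_fix (hH : H ∈ Oct) (hd : wd H * wd o = 0) (hδ : δ ∈ Ev H) : clT H δ ∈ Fix (sgC o) := by
  have _ := hH
  have h1 : sy δ ⬝ᵥ o = 0 := by
    rw [sy_dot, ← sum_mul_eq, ← (mem_Ev.1 hδ).1, mul_assoc, hd, mul_zero]; simp
  rw [GolB.fix_iff, csm_sgC_even (clT_par hδ), clT]
  rcases Rk.z2_cases (q2 δ) with e | e <;> rw [e]
  · simp only [zero_smul, add_zero]
    rw [hd, q2_zero, map_zero, add_right_comm, cd_add_self, zero_add, zero_add, h1, zero_smul]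
    rfl
  · simp only [one_smul]
    rw [th_add_om, map_add, wd_om, add_mul, hd, zero_add, one_mul, q2_wd, sy_wd, add_right_comm, cd_add_self, zero_add,
      zero_add, h1, zero_smul]
    rfl

theorem GolB.fst_clT (o : Cd) : (clT o 0).1 = o := by rw [clT, q2_zero, zero_smul, add_zero]

theorem d4_split (ho : o ∈ Oct) (h : x ∈ Fix (sgC o)) (h4 : D4 o x.1) : ∃ b, V12 b ∧ x + b ∈ NO o := by
  have he := (fix_co ho h).1
  rcases h4 with e | e
  · exact ⟨x, v12_of_d0 he e, by rw [ll_add_self]; exact zero_mem _⟩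
  · refine ⟨x + clT o 0, v12_of_d0 (he.add (clT_par (zero_mem_Ev o))) (by rwa [Prod.fst_add, GolB.fst_clT]), ?_⟩
    rw [ll_cancel]
    exact clT_NO ho (zero_mem_Ev o)

theorem du_short (h : V12 x) (hd : Du x.2) : x ∈ ShS := by
  obtain ⟨i, j, hij, e⟩ := hd
  rcases h.1 with k | k
  · exact (show clB i j = x from Prod.ext k.symm e.symm) ▸ clB_mem hij
  · exact (show clC i j = x from Prod.ext k.symm e.symm) ▸ clC_mem hij

theorem ex_duad (ho : o ∈ Oct) (h : x ∈ Fix (sgC o)) (h4 : D4 o x.1) (hp : wd o p = 0) :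
    ∃ p', wd o p' = 0 ∧ x + clB p p' ∈ NO o := by
  obtain ⟨b, hb, hn⟩ := d4_split ho h h4
  have h1 : b ∈ Fix (sgC o) := ll_cancel x b ▸ add_mem h (NO_le o hn)
  obtain ⟨p', hp', hr⟩ := ex_pt ho hb.2 ((v12_fix hb).1 h1) hp
  refine ⟨p', hp', ?_⟩
  rw [← ll_cancel b (clB p p'), ← add_assoc]
  exact add_mem hn ((v12_NO ho (hb.add (v12_clB p p'))).2 hr)

theorem GolB.clT_add {ε : Wd} (hε : ε ∈ Ev H) (hδ : δ ∈ Ev H) :
    clT H ε + ((q2 δ + ε ⬝ᵥ δ) • om, sy δ) = clT H (ε + δ) := by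
  rw [clT, clT, Prod.mk_add_mk, q2_add (mem_Ev.1 hε).2 (mem_Ev.1 hδ).2, map_add, add_assoc, ← add_smul, add_assoc,
    add_assoc]

theorem GolB.tet_ev (hδ : wt δ = 4) (hs : δ * wd H = δ) : δ ∈ Ev H := mem_Ev.2 ⟨hs, even_wt.2 (by rw [hδ]; decide)⟩

theorem clT_add_tet (hH : H ∈ Oct) (hδ : wt δ = 4) (hs : δ * wd H = δ) {ε : Wd} (hε : ε ∈ Ev H) :
    ∃ α : ZMod 2, clT H ε + (α • om, sy δ) ∈ ShS :=
  ⟨_, GolB.clT_add hε (GolB.tet_ev hδ hs) ▸ clT_mem hH (add_mem_Ev hε (GolB.tet_ev hδ hs))⟩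

theorem ex_clT (hH : H ∈ Oct) (hδ : wt δ = 4) (hs : δ * wd H = δ) (α : ZMod 2) :
    ∃ ε ∈ Ev H, clT H ε + (α • om, sy δ) ∈ ShS := by
  obtain ⟨ε, hε, rfl⟩ : ∃ ε ∈ Ev H, α = q2 δ + ε ⬝ᵥ δ := by
    rw [show q2 δ = 0 by rw [q2, hδ]; decide]
    rcases Rk.z2_cases α with rfl | rfl
    · exact ⟨0, zero_mem_Ev H, by simp⟩
    · obtain ⟨i, hi, -⟩ := exists_pt (δ := δ) [] (by rw [hδ]; decide)
      obtain ⟨j, hj, hj'⟩ := exists_pt' (δ := wd H) (ε := δ) (by rw [mul_comm, hs, hδ, mem_Oct.1 hH]; decide)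
      have := congrFun hs i
      rw [Pi.mul_apply, hi, one_mul] at this
      exact ⟨e2 i j, e2_mem_Ev this hj, by rw [e2_dot, hi, hj', add_zero, zero_add]⟩
  exact ⟨ε, hε, GolB.clT_add hε (GolB.tet_ev hδ hs) ▸ clT_mem hH (add_mem_Ev hε (GolB.tet_ev hδ hs))⟩

theorem ex_short (ho : o ∈ Oct) (hH : H ∈ Oct) (hd : wd H * wd o = 0) (h : x ∈ Fix (sgC o)) (hq : qL x = 0)
    (h4 : D4 o (x.1 + H)) : ∃ ε ∈ Ev H, x + clT H ε ∈ NO o := by
  have h0 := clT_fix hH hd (zero_mem_Ev H)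
  obtain ⟨p, hp, -⟩ := exists_pt (δ := wd H) [] (by rw [mem_Oct.1 hH]; decide)
  have hp0 : wd o p = 0 := by
    have := congrFun hd p
    rwa [Pi.mul_apply, hp, one_mul] at this
  obtain ⟨p', hp', hn⟩ := ex_duad ho (add_mem h h0) (by rwa [Prod.fst_add, GolB.fst_clT]) hp0
  rw [add_assoc] at hn
  have hs := add_mem h0 (clB_fix_iff.2 (hp0.trans hp'.symm))
  have h1 := qL_add (clT H 0 + clB p p') (x + (clT H 0 + clB p p'))
  rw [add_left_comm, ll_add_self, add_zero, hq, NO_qL ho hn, mem_perp_pB.1 hn _ hs, add_zero, add_zero, qL_add,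
    qL_of_mem (clT_mem hH (zero_mem_Ev H)), (v12_clB p p').qL, zero_add, zero_add, pol_clB, GolB.fst_clT, hp] at h1
  have h2 := e2_mem_Ev hp (z2_eq_of_add h1.symm).symm
  have h3 := GolB.clT_add (zero_mem_Ev H) h2
  rw [zero_add] at h3
  refine ⟨_, h2, ?_⟩
  rw [← h3]
  generalize q2 _ + _ = a
  rw [show ((a • om, sy (e2 p p')) : LL) = clB p p' + (a • om, 0) from Prod.ext (zero_add _).symm (add_zero _).symm,
    ← add_assoc (clT H 0), ← add_assoc x]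
  exact add_mem hn ((v12_NO ho (t0_smul a).v12).2 (Rf.zero o))

theorem pol_clT (h : V12 x) (hH : H ∈ Oct) {ε : Wd} (hε : ε ∈ Ev H) : pol x (clT H ε) = x.2 ⬝ᵥ H := by
  have _ := hH
  rw [pol, GolB.dot h (clT_par hε), add_zero, clT, dotProduct_add, dotProduct_smul, h.2, smul_zero, add_zero]

end Cfsg.Agent.Gr.M2
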