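import Mathlib
import Cfsg.Agent.Gr.M2.Bas
import Cfsg.Agent.Gr.M2.GolB
import Cfsg.Agent.Gr.L2.Ten

/-! The ark in coordinates and its quadratic form. -/

set_option autoImplicit false

namespace Cfsg.Agent.Gr.M2

open Subgroup Cfsg.Agent.Spor Cfsg.Agent.Gr.Rk Cfsg.Agent.Gr.Am

variable {a g u w x y : K} {A : Subgroup K} {o o' : Cd} {e : ZMod 2} {c : LL}

theorem arkA_eps_eq : L2.eps = sgC o0 := Leech.sign_congr _ (by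
  rw [o0, wd_single, bs, if_neg (by decide), Golay.gb, Golay.support_maskWord]; rfl)

attribute [local irreducible] sgC cls twoC csm Leech.perm Leech.negOne pc tq act tau

theorem arkA_lf_eq : frK.lf (Fix (sgC o0)) = L2.PP mdata := by
  have k : ∀ e v, tq e (cls v) ∈ L2.PP mdata ↔ cls v ∈ Fix (sgC o0) := fun e v => by
    rw [L2.mem_PP mdata (v := v) (CL.eqv_tq.2 rfl), mem_Fix, ← arkA_eps_eq]
    refine ⟨fun h => by rw [csm_cls, cls_eq_iff]; exact L2.cg_eps h, fun h x hx => ?_⟩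
    obtain ⟨l, rfl⟩ := L2.exists_sub hx
    rw [← bil_eq_zero_iff, ← pol_cls, cls_sub, pol_comm, ← csm_cls, add_comm]
    exact pol_fix h _
  ext x
  refine ⟨fun ⟨e, a, ha, hx⟩ => ?_, fun hx => ?_⟩
  · obtain ⟨v, rfl⟩ := cls_surjective a
    exact hx ▸ (k e v).2 ha
  · obtain ⟨e, a, rfl⟩ := hx.1
    obtain ⟨v, rfl⟩ := cls_surjective a
    exact frK.mem_lf.2 ((k e v).1 hx)

theorem AO_eq : AO o0 = L2.EE mdata := by rw [AO, arkA_lf_eq]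

theorem arkA_conj_lf_fix {γ s s' : Co0} (h : (g, γ) ∈ GK) (k : γ * s * γ⁻¹ = s') (hx : x ∈ frK.lf (Fix s)) :
    g * x * g⁻¹ ∈ frK.lf (Fix s') := by
  obtain ⟨e, a, ha, rfl⟩ := hx
  obtain ⟨f, t⟩ := frK.act _ _ h e a
  rw [t, frK.mem_lf, mem_Fix, ← k, csm_conj, mem_Fix.1 ha]

theorem cj_AO {γ : Co0} (h : (g, γ) ∈ GK) (k : γ * sgC o * γ⁻¹ = sgC o') : cj g (AO o) = AO o' := by
  have : cj g (frK.lf (Fix (sgC o))) = frK.lf (Fix (sgC o')) := Subgroup.ext fun x => mem_cj.trans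
    ⟨fun t => by simpa [mul_assoc] using arkA_conj_lf_fix h k t,
      fun t => by simpa using arkA_conj_lf_fix (GK.inv_mem h) (s' := sgC o) (by rw [← k]; simp [mul_assoc]) t⟩
  rw [AO, AO, cj_cent, this]

theorem isArk_AO (ho : o ∈ Oct) : IsArk (AO o) := by
  obtain ⟨σ, rfl⟩ := ex_pc_oct o0_oct ho
  obtain ⟨g, h⟩ := frK.surj (sgC 0 * Leech.perm σ)
  exact ⟨g, (cj_AO h (mon_conj 0 o0 σ)).symm⟩

theorem tq_mem_AO : tq e c ∈ AO o ↔ c ∈ NO o :=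
  ⟨fun h w hw => frK.comm_iff.1 (h (tq 0 w) (frK.mem_lf.2 hw)), fun h _ ⟨_, w, hw, k⟩ => k ▸ frK.comm_iff.2 (h w hw)⟩

theorem arkA_perp_perp (W : AddSubgroup LL) : perp pB (perp pB W) = W := by
  have h1 := card_perp_pB W
  have h2 := card_perp_pB (perp pB W)
  have h3 : W ≤ perp pB (perp pB W) := fun a ha b hb => (pol_comm _ _).trans (hb a ha)
  refine (AddSubgroup.eq_of_le_of_card_ge h3 (le_of_eq ?_)).symm
  exact Nat.eq_of_mul_eq_mul_right Nat.card_pos (h2.trans (h1.symm.trans (mul_comm _ _)))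

theorem tq_cent_AO (ho : o ∈ Oct) : tq e c ∈ centralizer (AO o : Set K) ↔ c ∈ Fix (sgC o) :=
  ⟨fun h => (arkA_perp_perp _).le fun w hw => frK.comm_iff.1 (h (tq 0 w) (tq_mem_AO.2 hw)),
    fun h _ ha => (ha _ (frK.mem_lf.2 h)).symm⟩

theorem arkA_zs_eqv : Eqv zz zs ((fun v => tq 0 (cls v)) (Leech.e8 none)) := CL.eqv_tq.2 (cls_e8 _).symm

theorem arkA_ex_ten : ∃ n, L2.TenD QK (AO o0) zz n ∧ Nat.card (AO o0) = 2 ^ 10 := by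
  have := finite_K
  have hw : ∃ g : K, g * zz * g⁻¹ ∈ QK ∧ g * zz * g⁻¹ ≠ zz :=
    ⟨tau, tau_conj_zz ▸ ⟨_, _, rfl⟩, tau_conj_zz ▸ ZH.adj_zs.2.1⟩
  obtain ⟨n, hD, hc⟩ := L2.exists_tenD mdata pairK arkA_zs_eqv
  rw [AO_eq]
  exact ⟨n, hD, (hD.omega hc (U := L2.E5 mdata) (fun _ ⟨n, hn, e⟩ => L2.E0_le_EE mdata ⟨_, L2.uv_mem hn, e⟩)
    (L2.card_E5 mdata) (fun _ => L2.isConj_E5 mdata hw)
    (L2.E0_le_EE mdata ⟨_, L2.v44_mem_LO L2.none_mem_O8 (by decide +kernel) _ _, Eqv.rfl' _ _⟩)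
    (L2.qq_two mdata (Eqv.rfl' _ _) (Leech.nm_v44 Leech.none_ne_zero 1 (-1))) fun _ _ => L2.not_refl mdata hw).1⟩

theorem AO_gk (h : a ∈ AO o0) (hn : a ∉ QK) : (a, sgC o0) ∈ GK := by
  have := finite_K
  obtain ⟨b, hb, -, hz⟩ := pairK.symm.exists_q
  rw [← pairK.zs_comm] at hz
  have hE := L2.u_mem mdata pairK arkA_zs_eqv hb hz
  obtain ⟨x, hx, t⟩ := L2.eps_lift mdata pairK arkA_zs_eqv hb hz
  rw [← t] at hE
  obtain ⟨e, c, k⟩ := L2.E0_le mdata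
    ((L2.EE_cases mdata hx hE (AO_eq ▸ h)).resolve_left fun k => hn (L2.E0_le mdata k))
  obtain ⟨x, hx'⟩ := x
  obtain ⟨γ, rfl : act γ = x⟩ := CL.exists_act ⟨x, hx'⟩
  have k1 : (act γ, γ.1.2) ∈ GK := mem_GK.2 ⟨γ, rfl, rfl⟩
  rw [piK_act, MT.pr_eq_iff, arkA_eps_eq] at hx
  have k2 : (act γ, sgC o0) ∈ GK := by
    rcases hx with t | t <;> rw [t]
    exacts [k1, frK.mem_neg k1]
  simpa [← k] using GK.mul_mem (frK.mem e c) k2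

theorem ex_a0 : ∃ a ∈ AO o0, a ∈ ZC ∧ a ∉ QK :=
  let ⟨n, h, _⟩ := arkA_ex_ten; ⟨_, h.tE, (conj_mem_ZC n).2 zz_mem_ZC, h.tQ⟩

theorem pnt_zz : Pnt (AO o0) zz := let ⟨_, h, _⟩ := arkA_ex_ten; ⟨isArk_AO o0_oct, h.zE, zz_mem_ZC⟩

theorem lin_v0 (e : ZMod 2) : Lin (AO o0) zz (tq e v0) :=
  ⟨pnt_zz, tq_mem_AO.2 ((v12_NO o0_oct t0_v0.v12).2 (Rf.zero _)), tq_v0_ZC e, QQ_zz ▸ ⟨_, _, rfl⟩,
    fun h => om_ne_zero (congrArg Prod.fst (tq_inj.1 h).2)⟩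

theorem IsArk.arkA_std (h : IsArk A) : ∃ g : K, cj g A = AO o0 :=
  let ⟨g, k⟩ := h; ⟨g⁻¹, by rw [k, cj_cj, inv_mul_cancel, cj_one]⟩

theorem IsArk.sq (h : IsArk A) (hx : x ∈ A) : x * x = 1 := by
  obtain ⟨g, k⟩ := h.arkA_std
  obtain ⟨n, hD, -⟩ := arkA_ex_ten
  have := hD.ea.2 _ (k ▸ cj_mem.2 hx : g * x * g⁻¹ ∈ AO o0)
  rwa [conj_pow, conj_eq_one_iff, pow_two] at this

theorem IsArk.comm (h : IsArk A) (hx : x ∈ A) (hy : y ∈ A) : Commute x y :=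
  comm_of_sq_eq_one (fun _ => h.sq) hx hy

theorem IsArk.card (h : IsArk A) : Nat.card A = 2 ^ 10 := by
  obtain ⟨g, rfl⟩ := h
  obtain ⟨n, -, k⟩ := arkA_ex_ten
  rw [card_cj, k]

/-- The polar form of the quadratic form on an ark. -/
noncomputable def bq (x y : K) : ZMod 2 := L2.qq zz (x * y) + L2.qq zz x + L2.qq zz y

theorem arkA_bq_conj (g x y : K) : bq (g * x * g⁻¹) (g * y * g⁻¹) = bq x y := by
  rw [bq, conj_mul, L2.qq_conj, L2.qq_conj, L2.qq_conj, bq]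

theorem IsArk.bq_comm (h : IsArk A) (hx : x ∈ A) (hy : y ∈ A) : bq x y = bq y x := by
  rw [bq, bq, (h.comm hx hy).eq, add_right_comm]

theorem IsArk.bq_mul (h : IsArk A) (ha : a ∈ A) (hx : x ∈ A) (hy : y ∈ A) : bq a (x * y) = bq a x + bq a y := by
  obtain ⟨g, k⟩ := h.arkA_std
  obtain ⟨n, hD, -⟩ := arkA_ex_ten
  have m : ∀ {x}, x ∈ A → g * x * g⁻¹ ∈ AO o0 := fun hx => k ▸ cj_mem.2 hx
  have := hD.add_aux (m ha) _ (m hx) _ (m hy)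
  simp only [conj_mul, L2.qq_conj] at this
  simp only [bq]
  linear_combination this - z2_add_self (L2.qq zz a)

theorem IsArk.nondeg (h : IsArk A) (hx : x ∈ A) (H : ∀ y ∈ A, bq x y = 0) : x = 1 := by
  obtain ⟨g, k⟩ := h.arkA_std
  obtain ⟨n, hD, -⟩ := arkA_ex_ten
  have := hD.nondeg.1 (GT.EAV.mk hD.ea _ (k ▸ cj_mem.2 hx : g * x * g⁻¹ ∈ AO o0)) fun y => by
    have t := H _ (mem_cj.1 (k.ge y.val_mem))
    rw [← arkA_bq_conj g, show g * (g⁻¹ * y.val * g) * g⁻¹ = y.val by group, bq] at t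
    simp only [QuadraticMap.polarBilin_apply_apply, QuadraticMap.polar, L2.TenD.qf_apply, GT.EAV.val_add,
      GT.EAV.val_mk]
    linear_combination t - z2_add_self (L2.qq zz (g * x * g⁻¹)) - z2_add_self (L2.qq zz y.val)
  exact conj_eq_one_iff.1 (GT.EAV.val_eq_one_iff.2 this)

theorem arkA_orb0 {n : K} (hD : L2.TenD QK (AO o0) zz n) (hx : x ∈ AO o0) (zx : x ∈ ZC) (nx : x ∉ QK) :
    ∃ b ∈ QK, x = b * (n * zz * n⁻¹) * b⁻¹ := by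
  obtain ⟨b, hb, t | t⟩ := hD.orb x hx nx
  · exact ⟨b, hb, t⟩
  · refine (hD.zt ((conj_mem_ZC b).1 ?_)).elim
    rwa [show b * (zz * (n * zz * n⁻¹)) * b⁻¹ = b * zz * (n * zz * n⁻¹) * b⁻¹ by group, ← hD.es.z_comm b hb,
      mul_assoc zz, mul_assoc zz, ← t]

theorem arkA_std0 (hw : w ∈ AO o0) (zw : w ∈ ZC) : ∃ g ∈ normalizer (AO o0 : Set K), g * w * g⁻¹ = zz := by
  obtain ⟨n, hD, -⟩ := arkA_ex_ten
  by_cases h2 : w = zz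
  · exact ⟨1, one_mem _, by simp [h2]⟩
  obtain ⟨g, hg, k⟩ : ∃ g ∈ normalizer (AO o0 : Set K), g * w * g⁻¹ ∉ QK := by
    by_contra! k
    have k1 : w ∈ QK := by simpa using k 1 (one_mem _)
    obtain ⟨q, hq, t⟩ := hD.es.exists_not_comm k1 (fun t => by
      obtain ⟨g, s⟩ := mem_ZC.1 zw
      exact zz_ne_one (by simpa [t] using s.symm)) h2
    have := mul_mem (k (n⁻¹ * q) (mul_mem (inv_mem hD.nN) (hD.QN hq))) (inv_mem (k _ (inv_mem hD.nN)))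
    rw [show n⁻¹ * q * w * (n⁻¹ * q)⁻¹ = n⁻¹ * (q * w * q⁻¹) * n by group,
      hD.es.aes.conj_of_ne hq k1 (Ne.symm t)] at this
    exact hD.zQ (by convert this using 1; group)
  obtain ⟨b, hb, t⟩ := arkA_orb0 hD (L2.TenD.cj hg hw) ((conj_mem_ZC g).2 zw) k
  refine ⟨n⁻¹ * b⁻¹ * g, mul_mem (mul_mem (inv_mem hD.nN) (inv_mem (hD.QN hb))) hg, ?_⟩
  calc _ = n⁻¹ * b⁻¹ * (g * w * g⁻¹) * b * n := by group
    _ = _ := by rw [t]; group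

theorem Pnt.std (h : Pnt A w) : ∃ g : K, cj g A = AO o0 ∧ g * w * g⁻¹ = zz := by
  obtain ⟨g, k⟩ := h.ark.arkA_std
  obtain ⟨n, hn, t⟩ := arkA_std0 (k ▸ cj_mem.2 h.mem : g * w * g⁻¹ ∈ AO o0) ((conj_mem_ZC g).2 h.zc)
  exact ⟨n * g, by rw [← cj_cj, k, cj_eq_iff.2 hn], by rw [← t]; group⟩

theorem Pnt.bq_iff (h : Pnt A w) (hx : x ∈ A) : bq w x = 0 ↔ x ∈ QQ w := by
  obtain ⟨g, k, t⟩ := h.std
  obtain ⟨n, hD, -⟩ := arkA_ex_ten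
  rw [← arkA_bq_conj g, ← cj_mem_QQ g, t, QQ_zz, bq, hD.qq_mul (k ▸ cj_mem.2 hx), L2.qq_self, add_zero, add_right_comm,
    z2_add_self, zero_add]
  split_ifs with s
  exacts [iff_of_true rfl s, iff_of_false one_ne_zero s]

theorem Pnt.le_norm (h : Pnt A w) : QQ w ≤ normalizer (A : Set K) := fun b hb => by
  obtain ⟨g, k, t⟩ := h.std
  obtain ⟨n, hD, -⟩ := arkA_ex_ten
  have := congrArg (cj g⁻¹) (cj_eq_iff.2 (hD.QN (hb g t)))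
  rw [← k, cj_cj, cj_cj, cj_cj, inv_mul_cancel, cj_one] at this
  exact cj_eq_iff.1 (by convert this using 2; group)

theorem Pnt.orb (h : Pnt A w) (hx : x ∈ A) (hy : y ∈ A) (zx : x ∈ ZC) (zy : y ∈ ZC) (nx : x ∉ QQ w)
    (ny : y ∉ QQ w) : ∃ b ∈ QQ w, b * x * b⁻¹ = y := by
  obtain ⟨g, k, t⟩ := h.std
  obtain ⟨n, hD, -⟩ := arkA_ex_ten
  rw [← cj_mem_QQ g, t, QQ_zz] at nx ny
  obtain ⟨b1, h1, t1⟩ := arkA_orb0 hD (k ▸ cj_mem.2 hx : g * x * g⁻¹ ∈ AO o0) ((conj_mem_ZC g).2 zx) nx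
  obtain ⟨b2, h2, t2⟩ := arkA_orb0 hD (k ▸ cj_mem.2 hy : g * y * g⁻¹ ∈ AO o0) ((conj_mem_ZC g).2 zy) ny
  refine ⟨g⁻¹ * (b2 * b1⁻¹) * g, ?_, ?_⟩
  · rw [← cj_mem_QQ g, t, QQ_zz]
    convert mul_mem h2 (inv_mem h1) using 1
    group
  · calc _ = g⁻¹ * (b2 * (b1⁻¹ * (g * x * g⁻¹) * b1) * b2⁻¹) * g := by group
      _ = g⁻¹ * (b2 * (n * zz * n⁻¹) * b2⁻¹) * g := by rw [t1]; group
      _ = _ := by rw [← t2]; group

theorem ex_five : ∃ W ≤ AO o0 ⊓ QK, Nat.card W = 32 ∧ ∀ x ∈ W, x ≠ 1 → x ∈ ZC := by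
  have := finite_K
  exact ⟨L2.E5 mdata, le_inf (AO_eq ▸ fun _ ⟨n, hn, e⟩ => L2.E0_le_EE mdata ⟨_, L2.uv_mem hn, e⟩) (L2.E5_le mdata),
    L2.card_E5 mdata, fun _ => L2.isConj_E5 mdata
      ⟨tau, tau_conj_zz ▸ ⟨_, _, rfl⟩, tau_conj_zz ▸ ZH.adj_zs.2.1⟩⟩

end Cfsg.Agent.Gr.M2
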