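import Mathlib
import Cfsg.Agent.Gr.M2.ArkA

/-! Geometry of the arks. -/

set_option autoImplicit false

namespace Cfsg.Agent.Gr.M2

open Subgroup Cfsg.Agent.Spor Cfsg.Agent.Gr.Rk Cfsg.Agent.Gr.Am

attribute [local irreducible] sgC cls twoC csm pc tq act

variable {a g u w x y : K} {A A' W : Subgroup K}

theorem qq_eq_zero : L2.qq zz x = 0 ↔ x = 1 ∨ x ∈ ZC := L2.qq_zero

theorem z2_one {c : ZMod 2} (h : c ≠ 0) : c = 1 := (z2_cases c).resolve_left h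

theorem IsArk.qq_DD (h : IsArk A) (hx : x ∈ A) : L2.qq zz x = 1 ↔ x ∈ DD := by
  constructor
  · intro e
    have : ¬ (x = 1 ∨ x ∈ ZC) := fun k => by rw [qq_eq_zero.2 k] at e; exact absurd e (by decide)
    exact (ZC_or_DD (h.sq hx) fun k => this (Or.inl k)).resolve_left fun k => this (Or.inr k)
  · refine fun k => z2_one fun e => ?_
    rcases qq_eq_zero.1 e with rfl | e
    · have := DD_mul zz_mem_ZC k (one_mem _)
      rw [one_mul] at this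
      exact ZH.not_DD zz_mem_ZC this
    · exact ZH.not_DD e k

theorem Pnt.bq_one (h : Pnt A w) (hx : x ∈ A) : bq w x = 1 ↔ x ∉ QQ w := by
  rw [← h.bq_iff hx]
  exact ⟨fun e k => by rw [k] at e; exact absurd e (by decide), z2_one⟩

theorem IsArk.bq_mul' (h : IsArk A) (ha : a ∈ A) (hx : x ∈ A) (hy : y ∈ A) : bq (x * y) a = bq x a + bq y a := by
  rw [h.bq_comm (mul_mem hx hy) ha, h.bq_mul ha hx hy, h.bq_comm ha hx, h.bq_comm ha hy]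

theorem Pnt.two (h : Pnt A w) (hx : x ∈ A) (hy : y ∈ A) (nx : x ∉ QQ w) (ny : y ∉ QQ w) : x * y ∈ QQ w := by
  rw [← h.bq_iff (mul_mem hx hy), h.ark.bq_mul h.mem hx hy, (h.bq_one hx).2 nx, (h.bq_one hy).2 ny]; rfl

theorem Lin.pnt (h : Lin A w u) : Pnt A u := ⟨h.ark, h.mem', h.zc'⟩

theorem Lin.mul (h : Lin A w u) : Lin A w (w * u) :=
  { h.toPnt with
    mem' := mul_mem h.mem h.mem'
    zc' := mul_ZC h.zc h.zc' h.adj h.ne
    adj := mul_mem (self_mem h.zc) h.adj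
    ne := fun e => ZH.ne_one h.zc' (mul_eq_left.1 e) }

theorem Lin.lin (h : Lin A w u) (hx : x ∈ A) (n1 : x ∉ QQ w) (n2 : x ∉ QQ u) : x ∈ QQ (w * u) := by
  rw [← h.mul.pnt.bq_iff hx, h.ark.bq_mul' hx h.mem h.mem', (h.toPnt.bq_one hx).2 n1, (h.pnt.bq_one hx).2 n2]; rfl

theorem Pnt.flip (h : Pnt A w) (hx : x ∈ A) (nx : x ∉ QQ w) : (x ∈ ZC ∧ w * x ∈ DD) ∨ (x ∈ DD ∧ w * x ∈ ZC) := by
  have e := (h.bq_one hx).2 nx
  rw [bq, qq_eq_zero.2 (Or.inr h.zc), add_zero] at e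
  rcases z2_cases (L2.qq zz x) with k | k <;> rw [k] at e
  · rw [add_zero] at e
    exact Or.inl ⟨(qq_eq_zero.1 k).resolve_left fun k => nx (k ▸ one_mem _), (h.ark.qq_DD (mul_mem h.mem hx)).1 e⟩
  · refine Or.inr ⟨(h.ark.qq_DD hx).1 k, (qq_eq_zero.1 (add_eq_right.1 e)).resolve_left fun k => nx ?_⟩
    rw [eq_inv_of_mul_eq_one_right k]
    exact inv_mem (self_mem h.zc)

theorem Pnt.ex_not (h : Pnt A w) : ∃ a ∈ A, a ∉ QQ w := by
  by_contra! k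
  exact ZH.ne_one h.zc (h.ark.nondeg h.mem fun y hy => (h.bq_iff hy).2 (k y hy))

theorem Pnt.sep (h : Pnt A w) (h' : Pnt A u) (ne : u ≠ w) : ∃ a ∈ A, a ∈ QQ w ∧ a ∉ QQ u := by
  have : ∃ a ∈ A, bq (w * u) a ≠ 0 := by
    by_contra! k
    have := h.ark.nondeg (mul_mem h.mem h'.mem) k
    exact ne (by rw [eq_inv_of_mul_eq_one_right this, inv_eq_of_mul_eq_one_right (ZH.sq h.zc)])
  obtain ⟨a, ha, k⟩ := this
  rw [h.ark.bq_mul' ha h.mem h'.mem] at k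
  by_cases h1 : a ∈ QQ w
  · exact ⟨a, ha, h1, fun h2 => k (by rw [(h.bq_iff ha).2 h1, (h'.bq_iff ha).2 h2]; rfl)⟩
  have h2 : a ∈ QQ u := by_contra fun h2 => k (by rw [(h.bq_one ha).2 h1, (h'.bq_one ha).2 h2]; rfl)
  obtain ⟨b, hb, h3⟩ := h'.ex_not
  by_cases h4 : b ∈ QQ w
  · exact ⟨b, hb, h4, h3⟩
  · exact ⟨a * b, mul_mem ha hb, h.two ha hb h1 h4, fun k => h3 ((mul_mem_cancel_left h2).1 k)⟩

/-- A point cuts a subgroup of the ark in a subgroup of index at most two. -/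
theorem Pnt.half (h : Pnt A w) (hW : W ≤ A) : Nat.card W ≤ 2 * Nat.card ↥(W ⊓ QQ w) := by
  by_cases k : W ≤ QQ w
  · rw [inf_eq_left.2 k]; omega
  obtain ⟨a, ha, k⟩ := SetLike.not_le_iff_exists.1 k
  refine card_le_two_mul inf_le_left ha fun b hb => ?_
  by_cases hb' : b ∈ QQ w
  · exact Or.inr ⟨hb, hb'⟩
  · exact Or.inl ⟨mul_mem hb ha, h.two (hW hb) (hW ha) hb' k⟩

theorem Pnt.half_eq (h : Pnt A w) (hW : W ≤ A) (ha : a ∈ W) (hn : a ∉ QQ w) : Nat.card W = 2 * Nat.card ↥(W ⊓ QQ w) := by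
  refine le_antisymm (h.half hW) ?_
  obtain ⟨k, hk⟩ := card_dvd_of_le (show W ⊓ QQ w ≤ W from inf_le_left)
  have k0 : k ≠ 0 := fun e => by rw [e, mul_zero] at hk; exact Nat.card_pos.ne' hk
  have k1 : k ≠ 1 := fun e => hn ((eq_of_le_of_card_ge (show W ⊓ QQ w ≤ W from inf_le_left)
    (by rw [hk, e, mul_one])).ge ha).2
  rw [hk, mul_comm]
  exact Nat.mul_le_mul_left _ (by omega)

theorem Pnt.card_inf (h : Pnt A w) : Nat.card ↥(A ⊓ QQ w) = 2 ^ 9 := by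
  obtain ⟨a, ha, hn⟩ := h.ex_not
  have := h.half_eq le_rfl ha hn
  rw [h.ark.card] at this
  omega

theorem bq_sing (H : ∀ x ∈ W, x ≠ 1 → x ∈ ZC) (hx : x ∈ W) (hy : y ∈ W) : bq x y = 0 := by
  have k : ∀ t ∈ W, L2.qq zz t = 0 := fun t ht => qq_eq_zero.2 (or_iff_not_imp_left.2 (H t ht))
  rw [bq, k _ hx, k _ hy, k _ (mul_mem hx hy)]; rfl

theorem IsArk.sing_le (h : IsArk A) (hW : W ≤ A) (H : ∀ x ∈ W, x ≠ 1 → x ∈ ZC) : Nat.card W ≤ 32 := by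
  have ea : IsElementaryAbelian 2 A :=
    ⟨⟨⟨fun a b => Subtype.ext (h.comm a.2 b.2)⟩⟩, fun a ha => by rw [pow_two, h.sq ha]⟩
  have z : ∀ y ∈ A, bq 1 y = 0 := fun y hy => by rw [bq, one_mul, L2.qq_unit, add_zero, z2_add_self]
  let β : LinearMap.BilinForm (ZMod 2) (GT.EAV ea) := LinearMap.mk₂ (ZMod 2) (fun a b => bq a.val b.val)
    (fun a b c => by rw [GT.EAV.val_add, h.bq_mul' c.val_mem a.val_mem b.val_mem])
    (fun c a b => by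
      rcases z2_cases c with rfl | rfl
      · rw [zero_smul, zero_smul, GT.EAV.val_zero, z _ b.val_mem]
      · rw [one_smul, one_smul])
    (fun a b c => by rw [GT.EAV.val_add, h.bq_mul a.val_mem b.val_mem c.val_mem])
    (fun c a b => by
      rcases z2_cases c with rfl | rfl
      · rw [zero_smul, zero_smul, GT.EAV.val_zero, h.bq_comm a.val_mem (one_mem _), z _ a.val_mem]
      · rw [one_smul, one_smul])
  have h0 : ∀ a, (∀ b, β a b = 0) → a = 0 := fun a k =>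
    GT.EAV.val_eq_one_iff.1 (h.nondeg a.val_mem fun y hy => k (GT.EAV.mk ea y hy))
  have nd : β.Nondegenerate := ⟨h0, fun a k => h0 a fun b => (h.bq_comm a.val_mem b.val_mem).trans (k b)⟩
  have c := card_perp nd (GT.EAV.sub ea W).toAddSubgroup
  have c1 : Nat.card (GT.EAV.sub ea W).toAddSubgroup = Nat.card W := by
    have := GT.EAV.card_grp (GT.EAV.sub ea W)
    rw [GT.EAV.grp_sub_of_le hW] at this
    exact this.symm
  have c2 := AddSubgroup.card_le_of_le (show (GT.EAV.sub ea W).toAddSubgroup ≤ perp β (GT.EAV.sub ea W).toAddSubgroup from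
    fun a ha b hb => bq_sing H (GT.EAV.mem_sub.1 hb) (GT.EAV.mem_sub.1 ha))
  rw [GT.EAV.card_eq, h.card, c1] at c
  rw [c1] at c2
  nlinarith

theorem IsArk.five (h : IsArk A) : ∃ W ≤ A, Nat.card W = 32 ∧ ∀ x ∈ W, x ≠ 1 → x ∈ ZC := by
  obtain ⟨g, rfl⟩ := h
  obtain ⟨W, h1, h2, h3⟩ := ex_five
  refine ⟨cj g W, map_mono (h1.trans inf_le_left), by rw [card_cj, h2], fun x hx hn => ?_⟩
  have := h3 _ (mem_cj.1 hx) fun e => hn (by rw [show x = g * (g⁻¹ * x * g) * g⁻¹ by group, e]; group)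
  rwa [← conj_mem_ZC g, show g * (g⁻¹ * x * g) * g⁻¹ = x by group] at this

theorem ex_ne_two (h : 3 ≤ Nat.card W) (a b : K) : ∃ p ∈ W, p ≠ a ∧ p ≠ b := by
  by_contra! k
  have : (W : Set K) ⊆ {a, b} := fun p hp => or_iff_not_imp_left.2 (k p hp)
  have := (Set.ncard_le_ncard this).trans (Set.ncard_insert_le a {b})
  rw [Set.ncard_singleton, ← Nat.card_coe_set_eq] at this
  exact absurd (h.trans this) (by decide)

theorem cj_inj (h : cj g A = cj g A') : A = A' := map_injective (MulAut.conj g).injective h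

theorem Lin.step {u' : K} (h : Lin A w u) (h' : Lin A w u') (k : u' ∈ QQ u) :
    ∃ b : K, cj b A = A ∧ b * w * b⁻¹ = w ∧ b * u * b⁻¹ = u' := by
  have : ∃ x ∈ A, x ∈ QQ w ∧ x ∉ QQ u ∧ x ∉ QQ u' := by
    obtain ⟨a, ha, a1, a2⟩ := h.toPnt.sep h.pnt h.ne
    obtain ⟨b, hb, b1, b2⟩ := h.toPnt.sep h'.pnt h'.ne
    by_cases a3 : a ∉ QQ u'
    · exact ⟨a, ha, a1, a2, a3⟩
    by_cases b3 : b ∉ QQ u
    · exact ⟨b, hb, b1, b3, b2⟩
    rw [not_not] at a3 b3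
    exact ⟨a * b, mul_mem ha hb, mul_mem a1 b1, fun e => a2 ((mul_mem_cancel_right b3).1 e),
      fun e => b2 ((mul_mem_cancel_left a3).1 e)⟩
  obtain ⟨x, hx, x1, x2, x3⟩ := this
  have : ∃ f ∈ A, f ∈ ZC ∧ f ∈ QQ w ∧ f ∉ QQ u ∧ f ∉ QQ u' := by
    rcases h.pnt.flip hx x2 with e | e
    · exact ⟨x, hx, e.1, x1, x2, x3⟩
    · exact ⟨u * x, mul_mem h.mem' hx, e.2, mul_mem h.adj x1, fun e => x2 ((mul_mem_cancel_left (self_mem h.zc')).1 e),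
        fun e => x3 ((mul_mem_cancel_left (QQ_symm h.zc' h'.zc' k)).1 e)⟩
  obtain ⟨f, hf, zf, f1, f2, f3⟩ := this
  have pf : Pnt A f := ⟨h.ark, hf, zf⟩
  have n2 : u ∉ QQ f := fun e => f2 (QQ_symm zf h.zc' e)
  have n3 : u' ∉ QQ f := fun e => f3 (QQ_symm zf h'.zc' e)
  obtain ⟨b, hb, e⟩ := pf.orb h.mem' h'.mem' h.zc' h'.zc' n2 n3
  have hA : cj b A = A := cj_eq_iff.2 (pf.le_norm hb)
  refine ⟨b, hA, ?_, e⟩
  refine ((es_QQ zf).1.aes.conj_eq hb (QQ_symm h.zc zf f1)).resolve_right fun e' => ?_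
  have p' := h.toPnt.map b
  have m := (cj_mem_QQ b).2 h.adj
  rw [hA, e'] at p'
  rw [e, e', ← p'.bq_iff h'.mem', h.ark.bq_mul' h'.mem' hf h.mem, (pf.bq_one h'.mem').2 n3,
    (h.toPnt.bq_iff h'.mem').2 h'.adj] at m
  exact absurd m (by decide)

theorem Lin.trans {u' : K} (h : Lin A w u) (h' : Lin A w u') :
    ∃ b : K, cj b A = A ∧ b * w * b⁻¹ = w ∧ b * u * b⁻¹ = u' := by
  obtain ⟨W, h1, h2, h3⟩ := h.ark.five
  have c1 := h.toPnt.half h1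
  have c2 := h.pnt.half (W := W ⊓ QQ w) (inf_le_left.trans h1)
  have c3 := h'.pnt.half (W := W ⊓ QQ w ⊓ QQ u) (inf_le_left.trans (inf_le_left.trans h1))
  obtain ⟨p, ⟨⟨⟨p1, p2⟩, p3⟩, p4⟩, n1, n2⟩ := ex_ne_two (W := W ⊓ QQ w ⊓ QQ u ⊓ QQ u') (by omega) 1 w
  have hp : Lin A w p := { h.toPnt with mem' := h1 p1, zc' := h3 p p1 n1, adj := p2, ne := n2 }
  obtain ⟨b, b1, b2, b3⟩ := h.step hp p3
  obtain ⟨c, c1, c2, c3⟩ := hp.step h' (QQ_symm h'.zc' hp.zc' p4)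
  refine ⟨c * b, by rw [← cj_cj, b1, c1], ?_, ?_⟩
  · rw [show c * b * w * (c * b)⁻¹ = c * (b * w * b⁻¹) * c⁻¹ by group, b2, c2]
  · rw [← c3, ← b3]; group

theorem Lin.std (h : Lin A w u) (e : ZMod 2) :
    ∃ g : K, cj g A = AO o0 ∧ g * w * g⁻¹ = zz ∧ g * u * g⁻¹ = tq e v0 := by
  obtain ⟨g, h1, h2⟩ := h.toPnt.std
  have k := h.map g
  rw [h1, h2] at k
  obtain ⟨b, b1, b2, b3⟩ := k.trans (lin_v0 e)
  refine ⟨b * g, by rw [← cj_cj, h1, b1], ?_, ?_⟩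
  · rw [← b2, ← h2]; group
  · rw [← b3]; group

theorem Pnt.ex_lin (h : Pnt A w) : ∃ u, Lin A w u := by
  obtain ⟨W, h1, h2, h3⟩ := h.ark.five
  have c1 := h.half h1
  obtain ⟨p, ⟨p1, p2⟩, n1, n2⟩ := ex_ne_two (W := W ⊓ QQ w) (by omega) 1 w
  exact ⟨p, { h with mem' := h1 p1, zc' := h3 p p1 n1, adj := p2, ne := n2 }⟩

theorem Pnt.cent_iff (h : Pnt A w) (ha : a ∈ A) (hn : a ∉ QQ w) (hx : x ∈ QQ w) :
    x ∈ centralizer (A : Set K) ↔ x * a * x⁻¹ = a ∨ x * a * x⁻¹ = w * a := by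
  refine ⟨fun k => Or.inl (by rw [← k a ha, mul_inv_cancel_right]), fun k => ?_⟩
  obtain ⟨g, h1, h2⟩ := h.std
  rw [← cj_mem_QQ g, h2, QQ_zz] at hn hx
  obtain ⟨e, c, hc⟩ := hx
  obtain ⟨f, hf⟩ := frK.comm_mem (AO_gk (h1 ▸ cj_mem.2 ha) hn) e c
  rw [← cj_mem_cent (g := g), h1, hc, tq_cent_AO o0_oct, mem_Fix]
  rw [← hc, show g * a * g⁻¹ * (g * x * g⁻¹) * (g * a * g⁻¹)⁻¹ * (g * x * g⁻¹)⁻¹ = g * (a * (x * a * x⁻¹)⁻¹) * g⁻¹ by group] at hf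
  have : csm (sgC o0) c + c = 0 := by
    rcases k with k | k <;> rw [k] at hf
    · rw [mul_inv_cancel, mul_one, mul_inv_cancel, ← frK.zero] at hf
      exact (frK.inj hf).2.symm
    · rw [show a * (w * a)⁻¹ = w⁻¹ by group, inv_eq_of_mul_eq_one_right (ZH.sq h.zc), h2] at hf
      exact (frK.inj hf).2.symm
  rw [eq_neg_of_add_eq_zero_left this, ll_neg]

theorem Pnt.cent_cent (h : Pnt A w) : centralizer ((QQ w ⊓ centralizer (A : Set K) : Subgroup K) : Set K) = A := by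
  obtain ⟨g, h1, h2⟩ := h.std
  refine cj_inj (g := g) ?_
  rw [cj_cent, cj_inf, ← QQ_cj, cj_cent, h1, h2, QQ_zz]
  have : QK ⊓ centralizer (AO o0 : Set K) = frK.lf (Fix (sgC o0)) := by
    refine le_antisymm ?_ ?_
    · rintro _ ⟨⟨e, c, rfl⟩, k⟩
      exact frK.mem_lf.2 ((tq_cent_AO o0_oct).1 k)
    · rintro _ ⟨e, c, k, rfl⟩
      exact ⟨⟨e, c, rfl⟩, (tq_cent_AO o0_oct).2 k⟩
  rw [this]
  rfl

theorem Pnt.inf_le (h : Pnt A w) (h' : Pnt A y) (hn : y ∉ QQ w) : QQ w ⊓ QQ y ≤ A := fun x hx => by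
  rw [← h.cent_cent]
  exact fun p hp => (comm_of_inf h.zc h'.zc hn hx.1 hx.2 hp.1 (show Commute y p from hp.2 y h'.mem).symm).symm

theorem Pnt.uniq (h : Pnt A w) (h' : Pnt A' w) (hy : y ∈ A) (hy' : y ∈ A') (hn : y ∉ QQ w) : A = A' := by
  rw [← h.cent_cent, ← h'.cent_cent]
  congr 2
  ext x
  exact and_congr_right fun hx => (h.cent_iff hy hn hx).trans (h'.cent_iff hy' hn hx).symm

theorem Pnt.odd (h : Pnt A w) (h' : Pnt A y) (hn : y ∉ QQ w) :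
    Odd {u | u ∈ ZC ∧ u ∈ QQ w ∧ u ∈ QQ y}.ncard := by
  classical
  have le := h.inf_le h' hn
  have cO : Nat.card ↥(QQ w ⊓ QQ y) = 256 := by
    obtain ⟨a, ha, a1, a2⟩ := h.sep h' fun e => hn (e ▸ self_mem h'.zc)
    have := h'.half_eq (W := A ⊓ QQ w) inf_le_left ⟨ha, a1⟩ a2
    rw [h.card_inf, inf_assoc, inf_eq_right.2 le] at this
    omega
  obtain ⟨W, h1, h2, h3⟩ := h.ark.five
  have c1 := h.half h1
  have c2 := h'.half (W := W ⊓ QQ w) (inf_le_left.trans h1)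
  obtain ⟨s1, m1, n1, -⟩ := ex_ne_two (W := W ⊓ QQ w ⊓ QQ y) (by omega) 1 1
  obtain ⟨s2, m2, n2, n3⟩ := ex_ne_two (W := W ⊓ QQ w ⊓ QQ y) (by omega) 1 s1⁻¹
  let s : K → K := fun t => if bq s1 t = 0 then s1 else if bq s2 t = 0 then s2 else s1 * s2
  have ms : ∀ t, s t ∈ W ⊓ QQ w ⊓ QQ y ∧ s t ≠ 1 := fun t => by
    simp only [s]
    split_ifs
    exacts [⟨m1, n1⟩, ⟨m2, n2⟩, ⟨mul_mem m1 m2, fun e => n3 (eq_inv_of_mul_eq_one_right e)⟩]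
  have bs : ∀ t ∈ A, bq (s t) t = 0 := fun t ht => by
    simp only [s]
    split_ifs with k1 k2
    exacts [k1, k2, by rw [h.ark.bq_mul' ht (h1 m1.1.1) (h1 m2.1.1), z2_one k1, z2_one k2]; rfl]
  have ss : ∀ t ∈ A, s (s t * t) = s t := fun t ht => by
    have k : ∀ r ∈ W, bq r (s t * t) = bq r t := fun r hr => by
      rw [h.ark.bq_mul (h1 hr) (h1 (ms t).1.1.1) ht, bq_sing h3 hr (ms t).1.1.1, zero_add]
    conv_lhs => simp only [s]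
    rw [k _ m1.1.1, k _ m2.1.1]
  set Δ : Set K := {t | t ∈ DD ∧ t ∈ QQ w ∧ t ∈ QQ y} with hΔ
  have ev : Even Δ.ncard := by
    rw [Set.ncard_eq_toFinset_card Δ, ← ZMod.natCast_eq_zero_iff_even, Finset.card_eq_sum_ones, Nat.cast_sum]
    have mA : ∀ t ∈ Δ.toFinite.toFinset, t ∈ A := fun t ht => le ((Set.Finite.mem_toFinset _).1 ht).2
    refine Finset.sum_involution (fun t _ => s t * t) (fun _ _ => rfl) (fun t _ _ e => (ms t).2 (mul_eq_right.1 e))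
      (fun t ht => ?_) fun t ht => ?_
    · obtain ⟨k1, k2, k3⟩ := (Set.Finite.mem_toFinset _).1 ht
      refine (Set.Finite.mem_toFinset _).2 ⟨(h.ark.qq_DD (mul_mem (h1 (ms t).1.1.1) (mA t ht))).1 ?_,
        mul_mem (ms t).1.1.2 k2, mul_mem (ms t).1.2 k3⟩
      have := bs t (mA t ht)
      rw [bq, qq_eq_zero.2 (Or.inr (h3 _ (ms t).1.1.1 (ms t).2)), (h.ark.qq_DD (mA t ht)).2 k1, add_zero] at this
      exact z2_one fun e => by rw [e] at this; exact absurd this (by decide)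
    · rw [ss t (mA t ht), ← mul_assoc, h.ark.sq (h1 (ms t).1.1.1), one_mul]
  have e : ((QQ w ⊓ QQ y : Subgroup K) : Set K) = insert 1 ({u | u ∈ ZC ∧ u ∈ QQ w ∧ u ∈ QQ y} ∪ Δ) := by
    refine Set.Subset.antisymm (fun t ht => or_iff_not_imp_left.2 fun k => ?_) ?_
    · exact (ZC_or_DD (h.ark.sq (le ht)) k).imp (fun z => ⟨z, ht⟩) fun z => ⟨z, ht⟩
    · rintro t (rfl | k | k)
      exacts [one_mem _, k.2, k.2]
  have n : (1 : K) ∉ {u | u ∈ ZC ∧ u ∈ QQ w ∧ u ∈ QQ y} ∪ Δ := by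
    rintro (k | k)
    · exact ZH.ne_one k.1 rfl
    · have := (h.ark.qq_DD (one_mem _)).2 k.1
      rw [L2.qq_unit] at this
      exact absurd this (by decide)
  have cO' : ((QQ w ⊓ QQ y : Subgroup K) : Set K).ncard = 256 := by rw [← Nat.card_coe_set_eq]; exact cO
  rw [e, Set.ncard_insert_of_notMem n, Set.ncard_union_eq (Set.disjoint_left.2 fun t k k' => ZH.not_DD k.1 k'.1)] at cO'
  obtain ⟨m, hm⟩ := ev
  exact Nat.odd_iff.2 (by omega)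

theorem Oc.ark (h : Oc w y) (h2 : y * y = 1) :
    ∃ A, Pnt A w ∧ y ∈ centralizer (A : Set K) ∧ Sg A w y ∧ y ∉ QQ w := by
  obtain ⟨g, h1, hy⟩ := h
  obtain ⟨a, ha, -, hn⟩ := ex_a0
  have ga := AO_gk ha hn
  obtain ⟨e, c, hc⟩ := frK.eq_mul ga hy
  have a2 := pnt_zz.ark.sq ha
  have hf : c ∈ Fix (sgC o0) := by
    obtain ⟨f, hf⟩ := frK.act _ _ ga e c
    have : a * tq e c * (a * tq e c) = 1 := by rw [← hc, show g * y * g⁻¹ * (g * y * g⁻¹) = g * (y * y) * g⁻¹ by group, h2]; group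
    rw [inv_eq_of_mul_eq_one_right a2, eq_inv_of_mul_eq_one_left (a := a * tq e c * a) (b := tq e c) (by rw [← this]; group),
      frK.inv] at hf
    exact mem_Fix.2 (frK.inj hf).2.symm
  have cq := (tq_cent_AO (e := e) o0_oct).2 hf
  have w' : g⁻¹ * zz * g⁻¹⁻¹ = w := by rw [← h1]; group
  have y' : g⁻¹ * (a * tq e c) * g⁻¹⁻¹ = y := by rw [← hc]; group
  refine ⟨cj g⁻¹ (AO o0), w' ▸ pnt_zz.map g⁻¹, ?_, ?_, ?_⟩
  · rw [← y', cj_mem_cent]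
    exact mul_mem (fun b hb => pnt_zz.ark.comm hb ha) cq
  · rw [← y', ← w', sg_cj]
    refine ⟨a, ha, ?_⟩
    rw [cq a ha, mul_assoc, a2, mul_one, QQ_zz]
    exact ⟨e, c, rfl⟩
  · rw [← y', ← w', cj_mem_QQ, QQ_zz]
    exact fun k => hn ((mul_mem_cancel_right (mem_QK.2 ⟨e, c, rfl⟩)).1 k)

theorem IsArk.eq_AO (h : IsArk A) (h1 : zz ∈ A) (h2 : zs ∈ A) : ∃ o ∈ Oct, A = AO o := by
  have l := lin_v0 1
  obtain ⟨g, g1, g2, g3⟩ := Lin.std (A := A) ⟨⟨h, h1, zz_mem_ZC⟩, h2, l.zc', l.adj, l.ne⟩ 1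
  have m : g⁻¹ ∈ H0 GK tq := inv_mem (mem_H0K.2 ⟨(mul_inv_eq_iff_eq_mul.1 g2).symm, (mul_inv_eq_iff_eq_mul.1 g3).symm⟩)
  obtain ⟨γ, hγ⟩ := (mem_H0.1 m).1
  obtain ⟨e, σ, rfl⟩ := exists_mon (frK.mon_of m hγ)
  refine ⟨pc σ o0, pc_oct σ o0_oct, ?_⟩
  rw [← cj_AO hγ (mon_conj e o0 σ), ← g1, cj_cj, inv_mul_cancel, cj_one]

theorem Sg.of_mem (hx : x ∈ QQ u) : Sg A u x := ⟨1, one_mem _, by rwa [mul_one]⟩
theorem Sg.of_ark (hx : x ∈ A) : Sg A u x := ⟨x⁻¹, inv_mem hx, by rw [mul_inv_cancel]; exact one_mem _⟩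
theorem Sg.mul (h1 : Sg A u x) (h2 : Sg A u y) (hy : y ∈ centralizer (A : Set K)) : Sg A u (x * y) := by
  obtain ⟨a, ha, k⟩ := h1
  obtain ⟨b, hb, k'⟩ := h2
  refine ⟨a * b, mul_mem ha hb, ?_⟩
  rw [show x * y * (a * b) = x * (y * a) * b by group, ← hy a ha, show x * (a * y) * b = x * a * (y * b) by group]
  exact mul_mem k k'
/-- The subgroup `C(A) ∩ Q_u A`. -/
def SG (A : Subgroup K) (u : K) : Subgroup K where
  carrier := {x | x ∈ centralizer (A : Set K) ∧ Sg A u x}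
  one_mem' := ⟨one_mem _, Sg.of_mem (one_mem _)⟩
  mul_mem' := fun h k => ⟨mul_mem h.1 k.1, h.2.mul k.2 k.1⟩
  inv_mem' := fun {x} ⟨h, a, ha, k⟩ => ⟨inv_mem h, a⁻¹, inv_mem ha, by
    rw [← mul_inv_rev, h a ha]; exact inv_mem k⟩
theorem mem_SG : x ∈ SG A u ↔ x ∈ centralizer (A : Set K) ∧ Sg A u x := Iff.rfl

theorem Pnt.sg_two (h : Pnt A u) (hx : x ∈ SG A u) (hy : y ∈ SG A u) (nx : x ∉ QQ u) (ny : y ∉ QQ u) :
    x * y ∈ QQ u := by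
  obtain ⟨-, a, ha, k⟩ := hx
  obtain ⟨hy, b, hb, k'⟩ := hy
  have := mul_mem k k'
  rw [show x * a * (y * b) = x * (a * y) * b by group, hy a ha, show x * (y * a) * b = x * y * (a * b) by group] at this
  exact (mul_mem_cancel_right (h.two ha hb (fun e => nx ((mul_mem_cancel_right e).1 k))
    fun e => ny ((mul_mem_cancel_right e).1 k'))).1 this

theorem Lin.sg_both (h : Lin A w u) (h1 : Sg A w x) (h2 : Sg A u x) : ∃ a ∈ A, x * a ∈ QQ w ∧ x * a ∈ QQ u := by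
  obtain ⟨a, ha, k⟩ := h1
  obtain ⟨b, hb, k'⟩ := h2
  by_cases e : x * a ∈ QQ u
  · exact ⟨a, ha, k, e⟩
  obtain ⟨s, hs, s1, s2⟩ := h.toPnt.sep h.pnt h.ne
  refine ⟨a * s, mul_mem ha hs, by rw [← mul_assoc]; exact mul_mem k s1, ?_⟩
  rw [show x * (a * s) = x * b * (b⁻¹ * a * s) by group]
  refine mul_mem k' (h.pnt.two (mul_mem (inv_mem hb) ha) hs (fun e' => e ?_) s2)
  rw [show x * a = x * b * (b⁻¹ * a) by group]
  exact mul_mem k' e'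

theorem Lin.sg_mul (h : Lin A w u) (h1 : Sg A w x) (h2 : Sg A u x) : Sg A (w * u) x :=
  let ⟨a, ha, k⟩ := h.sg_both h1 h2
  ⟨a, ha, inf_le_mul h.zc h.zc' h.adj h.ne k⟩

/-- `sg_both` in coordinates. -/
theorem sg_coord {e : ZMod 2} {c : LL} (hv : Lin (AO o0) zz u) (h : Sg (AO o0) u (tq e c)) :
    ∃ n ∈ NO o0, ∃ f, tq f (c + n) ∈ QQ u := by
  have m : tq e c ∈ QQ zz := by rw [QQ_zz]; exact ⟨e, c, rfl⟩
  obtain ⟨a, ha, k1, k2⟩ := hv.sg_both (Sg.of_mem m) h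
  have := (mul_mem_cancel_left m).1 k1
  rw [QQ_zz] at this
  obtain ⟨f, n, rfl⟩ := this
  exact ⟨n, tq_mem_AO.1 ha, _, frK.mul _ _ _ _ ▸ k2⟩

theorem sg_std {e f : ZMod 2} {c : LL} (hc : c ∈ Fix (sgC o0)) : Sg (AO o0) (tq f v0) (tq e c) ↔ D4 o0 c.1 := by
  constructor
  · intro h
    obtain ⟨n, hn, f', k⟩ := sg_coord (lin_v0 f) h
    have := D4.add (o := o0) (Or.inl (tq_mem_v0.1 k).1) (NO_d4 o0_oct hn)
    rwa [← Prod.fst_add, add_assoc, ll_add_self, add_zero] at this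
  · intro h
    obtain ⟨b, hb, k⟩ := d4_split o0_oct hc h
    refine ⟨tq 0 (c + b), tq_mem_AO.2 k, ?_⟩
    rw [frK.mul, ll_cancel]
    exact tq_mem_v0.2 hb

theorem sg_short {e f : ZMod 2} {c v s : LL} (hv : tq f v ∈ ZC) (hs : s ∈ ShS) (h : s + v ∈ ShS)
    (hc : c + s ∈ NO o0) : Sg (AO o0) (tq f v) (tq e c) := by
  refine ⟨tq 0 (c + s), tq_mem_AO.2 hc, ?_⟩
  rw [frK.mul, ll_cancel]
  exact short_mem hv hs h

theorem pol_of_sg {e e' f : ZMod 2} {c v s : LL} (hv : Lin (AO o0) zz (tq f v)) (h : Sg (AO o0) (tq f v) (tq e c))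
    (hs : tq e' s ∈ QQ (tq f v)) (hf : s ∈ Fix (sgC o0)) : pol c s = 0 := by
  obtain ⟨n, hn, f', k⟩ := sg_coord hv h
  have v0 : v ≠ 0 := by
    rintro rfl
    rcases z2_cases f with rfl | rfl
    exacts [ZH.ne_one hv.zc' frK.zero, hv.ne rfl]
  have := pol_of_mem hv.zc' v0 k hs
  rwa [pol_add_left, pol_comm n, mem_perp_pB.1 hn s hf, add_zero] at this

end Cfsg.Agent.Gr.M2
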