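import Mathlib
import Cfsg.Agent.Gr.M2.ArkB

/-! Singular subspaces of an ark in coordinates. -/

set_option autoImplicit false

namespace Cfsg.Agent.Gr.M2

open Subgroup Cfsg.Agent.Spor Cfsg.Agent.Gr.Rk Cfsg.Agent.Gr.Am

attribute [local irreducible] sgC cls twoC csm tq act

namespace EA

theorem two_mul_le {G : Type*} [Group G] [Finite G] {C D : Subgroup G} (h : C ≤ D) {x : G} (hx : x ∈ D) (n : x ∉ C) :
    2 * Nat.card C ≤ Nat.card D := by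
  obtain ⟨m, hm⟩ := card_dvd_of_le h
  have h0 : 0 < Nat.card D := Nat.card_pos
  rcases m with _ | _ | m
  · omega
  · exact absurd (eq_of_le_of_card_ge h (by omega) ▸ hx) n
  · rw [hm]; nlinarith

theorem gen2 {G : Type*} [Group G] [Finite G] {C D : Subgroup G} (h : C ≤ D) (hc : Nat.card D ≤ 4 * Nat.card C) :
    ∃ x ∈ D, ∃ y ∈ D, ∀ E : Subgroup G, C ≤ E → x ∈ E → y ∈ E → D ≤ E := by
  by_cases k : D ≤ C
  · exact ⟨1, one_mem _, 1, one_mem _, fun E h _ _ => k.trans h⟩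
  obtain ⟨x, hx, n⟩ := SetLike.not_le_iff_exists.1 k
  by_cases k' : D ≤ C ⊔ zpowers x
  · exact ⟨x, hx, 1, one_mem _, fun E h h' _ => k'.trans (sup_le h (zpowers_le.2 h'))⟩
  obtain ⟨y, hy, n'⟩ := SetLike.not_le_iff_exists.1 k'
  have h1 := two_mul_le le_sup_left (mem_sup_right (mem_zpowers x)) n
  have h2 := two_mul_le le_sup_left (mem_sup_right (mem_zpowers y)) n'
  have h3 := eq_of_le_of_card_ge (sup_le (sup_le h (zpowers_le.2 hx)) (zpowers_le.2 hy)) (by omega)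
  exact ⟨x, hx, y, hy, fun E a b c => h3 ▸ sup_le (sup_le a (zpowers_le.2 b)) (zpowers_le.2 c)⟩

variable {k u w x : K} {A : Subgroup K} {e f α : ZMod 2} {c v : LL} {δ : Wd} {p p' : Pt} {o H : Cd}

theorem std (h : Lin A w u) : ∃ k, A = cj k (AO o0) ∧ w = k * zz * k⁻¹ ∧ u = k * tq 0 v0 * k⁻¹ := by
  obtain ⟨g, h1, h2, h3⟩ := h.std 0
  exact ⟨g⁻¹, by rw [← h1, cj_cj, inv_mul_cancel, cj_one], by rw [← h2]; group, by rw [← h3]; group⟩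

theorem coord (hx : x ∈ QQ (k * zz * k⁻¹)) : ∃ e c, x = k * tq e c * k⁻¹ := by
  rw [show x = k * (k⁻¹ * x * k) * k⁻¹ by group, cj_mem_QQ, QQ_zz] at hx
  obtain ⟨e, c, h⟩ := hx
  exact ⟨e, c, by rw [← h]; group⟩

theorem lin_of (h : Lin (cj k A) (k * w * k⁻¹) (k * u * k⁻¹)) : Lin A w u := by
  simpa [cj_cj, cj_one, mul_assoc] using h.map k⁻¹

theorem cj_inj {y : K} : k * x * k⁻¹ = k * y * k⁻¹ ↔ x = y := by rw [mul_left_inj, mul_right_inj]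

theorem sgc (h : k * tq e c * k⁻¹ ∈ SG (cj k (AO o0)) (k * tq 0 v0 * k⁻¹)) : c ∈ Fix (sgC o0) ∧ D4 o0 c.1 := by
  rw [mem_SG, cj_mem_cent, tq_cent_AO o0_oct, sg_cj] at h
  exact ⟨h.1, (sg_std h.1).1 h.2⟩

theorem out_iff : wd (o + om) p = 1 ↔ wd o p = 0 := by
  rw [map_add, wd_om, Pi.add_apply, Pi.one_apply, add_eq_right]

theorem out_mul (o : Cd) : wd (o + om) * wd o = 0 := by
  rw [map_add, wd_om, add_mul, wd_mul_self, one_mul, wd_add_self]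

theorem ex_out : ∃ p, wd o0 p = 0 := by
  have h1 := wt_wd_add_om o0
  rw [mem_Oct.1 o0_oct] at h1
  obtain ⟨p, hp, -⟩ := exists_pt (δ := wd (o0 + om)) [] (by rw [List.length_nil]; omega)
  exact ⟨p, out_iff.1 hp⟩

theorem zz_mul (e : ZMod 2) (c : LL) : zz * tq e c = tq (e + 1) c := frK.z_mul e c

theorem snd_eq {a b : LL} (h : tq e a = tq f b) : a.2 = b.2 := congrArg Prod.snd (tq_inj.1 h).2

theorem clB_self (p : Pt) : clB p p = 0 := by rw [clB, e2, wd_add_self, map_zero]; rfl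

theorem v12_tet (h : wt δ = 4) (α : ZMod 2) : V12 (α • om, sy δ) :=
  v12_smul α (by rw [sy_dot_om, even_wt, h]; decide)

theorem lin_tet (h : wt δ = 4) (hr : Rf o0 (sy δ)) (e α : ZMod 2) : Lin (AO o0) zz (tq e (α • om, sy δ)) :=
  ⟨pnt_zz, tq_mem_AO.2 ((v12_NO o0_oct (v12_tet h α)).2 hr), (four_ZC h e α).1, QQ_zz.ge ⟨_, _, rfl⟩,
    fun k => (four_ZC h e α).2 (snd_eq (f := 1) (b := 0) k :)⟩

theorem short_tet (h : wt δ = 4) (hp : δ p = 1) (hp' : δ p' = 1) (ne : p ≠ p') (hc : V12 c)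
    (h2 : c.2 = sy (e2 p p')) (α : ZMod 2) : c + (α • om, sy δ) ∈ ShS :=
  du_short (hc.add (v12_tet h α)) (by rw [Prod.snd_add, h2, add_comm]; exact du_sub h hp hp' ne)

theorem sg_tet (h : wt δ = 4) (hp : δ p = 1) (hp' : δ p' = 1) (hc : c + clB p p' ∈ NO o0) (e f α : ZMod 2) :
    Sg (AO o0) (tq f (α • om, sy δ)) (tq e c) := by
  by_cases ne : p = p'
  · rw [ne, clB_self, add_zero] at hc
    exact Sg.of_ark (tq_mem_AO.2 hc)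
  · exact sg_short (four_ZC h f α).1 (clB_mem ne) (short_tet h hp hp' ne (v12_clB _ _) rfl α) hc

theorem pol_duad (hH : H ∈ Oct) {ε : Wd} (hε : ε ∈ Ev H) (hd : wd H * wd o0 = 0) (hc : c + clB p p' ∈ NO o0) :
    pol c (clT H ε) = wd H p + wd H p' := by
  have := mem_perp_pB.1 hc _ (clT_fix hH hd hε)
  rw [pol_comm, pol_add_left, pol_clT (v12_clB p p') hH hε] at this
  rw [z2_eq_of_add this, clB, sy_dot, e2_dot]

theorem mem_tet (h : wt δ = 4) (hr : Rf o0 (sy δ)) (hp : δ p = 1) (o1 : wd o0 p = 0) (o2 : wd o0 p' = 0)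
    (hc : c + clB p p' ∈ NO o0) (s : Sg (AO o0) (tq f (α • om, sy δ)) (tq e c)) : δ p' = 1 := by
  refine (z2_cases _).resolve_left fun n => ?_
  obtain ⟨H, hH, hd, h1, h2⟩ := sep_oct o0_oct h hr (special_out o0_oct h hr hp o1) o2 n
  obtain ⟨ε, hε, h3⟩ := ex_clT hH h h1 α
  have h4 := pol_of_sg (lin_tet h hr f α) s (short_mem (e := 0) (four_ZC h f α).1 (clT_mem hH hε) h3)
    (clT_fix hH hd hε)
  have h5 := congrFun h1 p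
  rw [Pi.mul_apply, hp, one_mul] at h5
  rw [pol_duad hH hε hd hc, h2, h5] at h4
  exact absurd h4 (by decide)

theorem tet_of (h : Lin (AO o0) zz (tq f v)) (a : tq f v ∈ QQ (tq 0 v0)) (n1 : tq f v ≠ tq 0 v0)
    (n2 : tq f v ≠ zz * tq 0 v0) (p : Pt) : ∃ (δ : Wd) (α : ZMod 2), wt δ = 4 ∧ Rf o0 (sy δ) ∧ δ p = 1 ∧ v = (α • om, sy δ) := by
  have hv := tq_mem_v0.1 a
  have hr := (v12_NO o0_oct hv).1 (tq_mem_AO.1 h.mem')
  have k0 : v ≠ 0 := by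
    rintro rfl
    rcases z2_cases f with rfl | rfl
    exacts [(es_QQ h.zc').1.z_ne frK.zero, h.ne rfl]
  have k1 : v ≠ v0 := by
    rintro rfl
    rcases z2_cases f with rfl | rfl
    exacts [n1 rfl, n2 (zz_mul 0 v0).symm]
  obtain ⟨δ0, h1, -, h2⟩ := hr.tet o0_oct (fun e => (t0_iff.2 ⟨hv.1, e⟩).elim k0 k1)
    fun d => ((tq_ZC k0).1 h.zc').2 (du_short hv d)
  obtain ⟨δ, h3, h4, h5⟩ := ex_tet h1 p
  rw [← h4] at h2
  rcases hv.1 with e | e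
  · exact ⟨δ, 0, h3, h2 ▸ hr, h5, Prod.ext (by rw [e, zero_smul]) h2⟩
  · exact ⟨δ, 1, h3, h2 ▸ hr, h5, Prod.ext (by rw [e, one_smul]) h2⟩

theorem ex_pair (hc : c ∈ Fix (sgC o0)) (h4 : D4 o0 c.1) : ∃ p p', wd o0 p = 0 ∧ wd o0 p' = 0 ∧
    c + clB p p' ∈ NO o0 ∧ (c ∈ ShS → V12 c → c ∉ NO o0 → p ≠ p' ∧ c.2 = sy (e2 p p')) := by
  by_cases H : c ∈ ShS ∧ V12 c ∧ c ∉ NO o0
  · obtain ⟨i, j, ne, e⟩ := H.2.1.short H.1
    have h1 := (v12_fix H.2.1).1 hc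
    rw [e, sy_dot, e2_dot] at h1
    have h2 : wd o0 i = 0 := (z2_cases _).resolve_right fun k =>
      H.2.2 ((v12_NO o0_oct H.2.1).2 ⟨_, e2_mem_Ev k (z2_eq_of_add h1 ▸ k), e⟩)
    refine ⟨i, j, h2, z2_eq_of_add h1 ▸ h2, (v12_NO o0_oct (H.2.1.add (v12_clB i j))).2 ?_, fun _ _ _ => ⟨ne, e⟩⟩
    rw [Prod.snd_add, e, clB, cd_add_self]
    exact Rf.zero _
  · obtain ⟨p, hp⟩ := ex_out
    obtain ⟨p', hp', k⟩ := ex_duad o0_oct hc h4 hp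
    exact ⟨p, p', hp, hp', k, fun a b d => absurd ⟨a, b, d⟩ H⟩

theorem step {e1 e2 : ZMod 2} {c1 c2 : LL} (hc : c ∈ Fix (sgC o0)) (hn : ¬ D4 o0 c.1) (hq : qL c = 0)
    (h1 : c1 ∈ Fix (sgC o0) ∧ D4 o0 c1.1) (h2 : c2 ∈ Fix (sgC o0) ∧ D4 o0 c2.1) (k1 : pol c1 c = 0)
    (k2 : pol c2 c = 0) :
    ∃ u, Lin (AO o0) zz u ∧ Sg (AO o0) u (tq e c) ∧ Sg (AO o0) u (tq e1 c1) ∧ Sg (AO o0) u (tq e2 c2) := by
  obtain ⟨H, hH, hd, h4⟩ := ex_oct o0_oct (fix_co o0_oct hc).2 hn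
  obtain ⟨ε, hε, hs⟩ := ex_short o0_oct hH hd hc hq h4
  obtain ⟨p, hp, -⟩ := exists_pt (δ := wd H) [] (by simp [mem_Oct.1 hH])
  have ho : wd o0 p = 0 := by simpa [hp] using congrFun hd p
  have key : ∀ c', c' ∈ Fix (sgC o0) ∧ D4 o0 c'.1 → pol c' c = 0 → ∃ p', wd H p' = 1 ∧ c' + clB p p' ∈ NO o0 :=
    fun c' h k => by
      obtain ⟨p', -, a⟩ := ex_duad o0_oct h.1 h.2 ho
      have := mem_perp_pB.1 hs _ h.1
      rw [pol_add_right, k, zero_add, pol_duad hH hε hd a, hp] at this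
      exact ⟨p', (z2_eq_of_add this).symm, a⟩
  obtain ⟨p1, a1, b1⟩ := key c1 h1 k1
  obtain ⟨p2, a2, b2⟩ := key c2 h2 k2
  obtain ⟨δ, d1, d2, d3, d4, d5, d6⟩ := ex_special o0_oct hd hp a1 a2
  obtain ⟨α, hα⟩ := clT_add_tet hH d1 d2 hε
  exact ⟨_, lin_tet d1 d3 0 α, sg_short (four_ZC d1 0 α).1 (clT_mem hH hε) hα hs, sg_tet d1 d4 d5 b1 _ _ _,
    sg_tet d1 d4 d6 b2 _ _ _⟩

end EA

variable {u u1 u2 w x x1 x2 : K} {A B : Subgroup K}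

theorem E1 (h : Pnt A w) (hB : B ≤ QQ w ⊓ centralizer (A : Set K)) (sq : ∀ b ∈ B, b * b = 1)
    (hc : Nat.card B ≤ 8 * Nat.card ↥(B ⊓ A)) : ∃ u, Lin A w u ∧ ∀ b ∈ B, Sg A u b := by
  have := finite_K
  obtain ⟨u, hu, mx⟩ := Set.exists_max_image {u | Lin A w u} (fun u => Nat.card ↥(B ⊓ SG A u)) (Set.toFinite _) h.ex_lin
  refine ⟨u, hu, fun b hb => by_contra fun n => ?_⟩
  have hA : ∀ u, B ⊓ A ≤ SG A u := fun u x hx => ⟨(hB hx.1).2, Sg.of_ark hx.2⟩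
  have h1 := EA.two_mul_le (inf_le_left (b := SG A u)) hb fun k => n k.2.2
  obtain ⟨x1, m1, x2, m2, gen⟩ := EA.gen2 (le_inf inf_le_left (hA u)) (by omega)
  have cm : ∀ x ∈ B, Commute x b := fun x hx => by
    rw [Commute, SemiconjBy, ← inv_eq_of_mul_eq_one_right (sq _ (mul_mem hx hb)), mul_inv_rev,
      inv_eq_of_mul_eq_one_right (sq _ hx), inv_eq_of_mul_eq_one_right (sq _ hb)]
  obtain ⟨k, rfl, rfl, rfl⟩ := EA.std hu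
  obtain ⟨e, c, rfl⟩ := EA.coord (hB hb).1
  obtain ⟨e1, c1, rfl⟩ := EA.coord (hB m1.1).1
  obtain ⟨e2, c2, rfl⟩ := EA.coord (hB m2.1).1
  have hf : c ∈ Fix (sgC o0) := (tq_cent_AO o0_oct).1 (cj_mem_cent.1 (hB hb).2)
  have hq : qL c = 0 := by
    have := sq _ hb
    rw [conj_mul, frK.sq, mul_inv_eq_one, mul_eq_left, ← frK.zero] at this
    exact (frK.inj this).1
  obtain ⟨u', l, s0, s1, s2⟩ := EA.step (e := e) (e1 := e1) (e2 := e2) hf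
    (fun d => n ((sg_cj k).2 ((sg_std hf).2 d))) hq (EA.sgc m1.2) (EA.sgc m2.2)
    (frK.comm_iff.1 (cj_comm.1 (cm _ m1.1))) (frK.comm_iff.1 (cj_comm.1 (cm _ m2.1)))
  have h2 := mx _ (l.map k)
  have h3 := EA.two_mul_le (le_inf inf_le_left (gen _ (hA _) ⟨m1.2.1, (sg_cj k).2 s1⟩ ⟨m2.2.1, (sg_cj k).2 s2⟩))
    ⟨hb, (hB hb).2, (sg_cj k).2 s0⟩ fun k => n k.2.2
  have h4 : 0 < Nat.card ↥(B ⊓ SG (cj k (AO o0)) (k * tq 0 v0 * k⁻¹)) := Nat.card_pos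
  omega

theorem E2 (h : Lin A w u) (q1 : x1 ∈ QQ w) (q2 : x2 ∈ QQ w) (s1 : x1 ∈ SG A u) (s2 : x2 ∈ SG A u) :
    ∃ u', Lin A w u' ∧ u' ∈ QQ u ∧ u' ≠ u ∧ u' ≠ w * u ∧ Sg A u' x1 ∧ Sg A u' x2 ∧
      (x1 ∈ DD → x1 ∈ QQ u → x1 ∉ A → x1 ∈ QQ u') := by
  obtain ⟨k, rfl, rfl, rfl⟩ := EA.std h
  obtain ⟨e1, c1, rfl⟩ := EA.coord q1
  obtain ⟨e2, c2, rfl⟩ := EA.coord q2
  obtain ⟨p, p1, hp, hp1, a1, b1⟩ := EA.ex_pair (EA.sgc s1).1 (EA.sgc s1).2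
  obtain ⟨p2, hp2, a2⟩ := ex_duad o0_oct (EA.sgc s2).1 (EA.sgc s2).2 hp
  obtain ⟨δ, d1, -, d3, d4, d5, d6⟩ := ex_special o0_oct (EA.out_mul o0) (EA.out_iff.2 hp) (EA.out_iff.2 hp1)
    (EA.out_iff.2 hp2)
  refine ⟨_, (EA.lin_tet d1 d3 0 0).map k, (cj_mem_QQ k).2 (tq_mem_v0.2 (EA.v12_tet d1 0)), fun e => ?_, fun e => ?_,
    (sg_cj k).2 (EA.sg_tet d1 d4 d5 a1 _ _ _), (sg_cj k).2 (EA.sg_tet d1 d4 d6 a2 _ _ _), fun k1 k2 k3 => ?_⟩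
  · exact (four_ZC d1 0 0).2 (EA.snd_eq (EA.cj_inj.1 e) :)
  · rw [conj_mul, EA.zz_mul] at e
    exact (four_ZC d1 0 0).2 (EA.snd_eq (EA.cj_inj.1 e) :)
  · have hs : c1 ∈ ShS := tq_DD.1 (IsConj.trans k1 (isConj_iff.2 ⟨k, rfl⟩).symm)
    have hv := tq_mem_v0.1 ((cj_mem_QQ k).1 k2)
    obtain ⟨ne, e⟩ := b1 hs hv fun n => k3 (cj_mem.2 (tq_mem_AO.2 n))
    exact (cj_mem_QQ k).2 (short_mem (four_ZC d1 0 0).1 hs (EA.short_tet d1 d4 d5 ne hv e 0))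

theorem E3 (h : Lin A w u) (h1 : Lin A w u1) (h2 : Lin A w u2) (a1 : u1 ∈ QQ u) (a2 : u2 ∈ QQ u)
    (n1 : u1 ≠ u) (n2 : u1 ≠ w * u) (n3 : u2 ≠ u) (n4 : u2 ≠ w * u) (q1 : x1 ∈ QQ w) (q2 : x2 ∈ QQ w)
    (s1 : x1 ∈ SG A u) (s2 : x2 ∈ SG A u) (m1 : x1 ∉ A) (m2 : x2 ∉ A) (m3 : x1 * x2 ∉ A)
    (t1 : Sg A u1 x1) (t2 : Sg A u1 x2) (t3 : Sg A u2 x1) (t4 : Sg A u2 x2) :
    u2 = u1 ∨ u2 = w * u1 ∨ u2 = u * u1 ∨ u2 = w * u * u1 := by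
  obtain ⟨k, rfl, rfl, rfl⟩ := EA.std h
  obtain ⟨e1, c1, rfl⟩ := EA.coord q1
  obtain ⟨e2, c2, rfl⟩ := EA.coord q2
  obtain ⟨f1, v1, rfl⟩ := EA.coord h1.adj
  obtain ⟨f2, v2, rfl⟩ := EA.coord h2.adj
  simp only [conj_mul, ne_eq, EA.cj_inj, cj_mem, cj_mem_QQ, sg_cj, tq_mem_AO] at *
  obtain ⟨p, hp⟩ := EA.ex_out
  obtain ⟨p1, hp1, b1⟩ := ex_duad o0_oct (EA.sgc s1).1 (EA.sgc s1).2 hp
  obtain ⟨p2, hp2, b2⟩ := ex_duad o0_oct (EA.sgc s2).1 (EA.sgc s2).2 hp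
  obtain ⟨δ, α, d1, d2, d3, rfl⟩ := EA.tet_of (EA.lin_of h1) a1 n1 n2 p
  obtain ⟨δ', α', d1', d2', d3', rfl⟩ := EA.tet_of (EA.lin_of h2) a2 n3 n4 p
  obtain rfl : δ = δ' := special_uniq o0_oct d1 d1' d2 d2' hp
    (fun e => m1 (by rwa [← e, EA.clB_self, add_zero] at b1)) (fun e => m2 (by rwa [← e, EA.clB_self, add_zero] at b2))
    (fun e => m3 (by
      have := add_mem b1 b2
      rw [e, add_add_add_comm, ll_add_self, add_zero] at this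
      rwa [frK.mul, tq_mem_AO])) d3 (EA.mem_tet d1 d2 d3 hp hp1 b1 t1) (EA.mem_tet d1 d2 d3 hp hp2 b2 t2)
    d3' (EA.mem_tet d1' d2' d3' hp hp1 b1 t3) (EA.mem_tet d1' d2' d3' hp hp2 b2 t4)
  have key : tq f2 (α' • om, sy δ) * (tq f1 (α • om, sy δ))⁻¹ ∈ frK.lf T0S := by
    rw [frK.inv, frK.mul, frK.mem_lf, Prod.mk_add_mk, cd_add_self, ← add_smul]
    exact t0_smul _
  rcases frK.mem_V.1 key with e | e | e | e <;> rw [mul_inv_eq_iff_eq_mul] at e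
  · exact .inl (e.trans (one_mul _))
  · exact .inr (.inl e)
  · exact .inr (.inr (.inr (e.trans (congrArg (· * _) (EA.zz_mul 0 v0).symm))))
  · exact .inr (.inr (.inl e))

theorem E4 (h : Lin A w u) (q : x ∈ QQ w) (s : x ∈ SG A u) (m : x ∉ A) : ∃ S : Finset K, 15 ≤ S.card ∧
    (∀ s ∈ S, Lin A w s ∧ Sg A s x) ∧ ∀ s ∈ S, ∀ s' ∈ S, s' ≠ w * s := by
  classical
  obtain ⟨k, rfl, rfl, rfl⟩ := EA.std h
  obtain ⟨e, c, rfl⟩ := EA.coord q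
  obtain ⟨p, hp⟩ := EA.ex_out
  obtain ⟨p', hp', b⟩ := ex_duad o0_oct (EA.sgc s).1 (EA.sgc s).2 hp
  obtain ⟨Ψ, c7, hΨ⟩ := seven o0_oct hp hp' fun e =>
    m (cj_mem.2 (tq_mem_AO.2 (by rwa [← e, EA.clB_self, add_zero] at b)))
  refine ⟨(insert v0 ((Finset.univ ×ˢ Ψ).image fun y : ZMod 2 × Cd => (y.1 • om, y.2))).image
    fun v => k * tq 0 v * k⁻¹, ?_, fun t ht => ?_, fun t ht t' ht' => ?_⟩
  · rw [Finset.card_image_of_injective _ fun v v' e => (tq_inj.1 (EA.cj_inj.1 e)).2, Finset.card_insert_of_notMem,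
      Finset.card_image_of_injective, Finset.card_product, Finset.card_univ, ZMod.card]
    · omega
    · intro y y' e
      exact Prod.ext (smul_left_injective _ om_ne_zero (congrArg Prod.fst e :)) (congrArg Prod.snd e :)
    · intro k
      obtain ⟨y, hy, e⟩ := Finset.mem_image.1 k
      obtain ⟨-, δ, d1, d2, -⟩ := hΨ _ (Finset.mem_product.1 hy).2
      exact (four_ZC d1 0 0).2 (d2 ▸ congrArg Prod.snd e)
  · obtain ⟨v, hv, rfl⟩ := Finset.mem_image.1 ht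
    rcases Finset.mem_insert.1 hv with rfl | hv
    · exact ⟨h, s.2⟩
    obtain ⟨⟨α, ψ⟩, hy, rfl⟩ := Finset.mem_image.1 hv
    obtain ⟨r, δ, d1, rfl, d3, d4⟩ := hΨ ψ (Finset.mem_product.1 hy).2
    exact ⟨(EA.lin_tet d1 r 0 α).map k, (sg_cj k).2 (EA.sg_tet d1 d3 d4 b _ _ _)⟩
  · obtain ⟨v, -, rfl⟩ := Finset.mem_image.1 ht
    obtain ⟨v', -, rfl⟩ := Finset.mem_image.1 ht'
    rw [conj_mul, EA.zz_mul]
    exact fun e => absurd (tq_inj.1 (EA.cj_inj.1 e)).1 (by decide)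

end Cfsg.Agent.Gr.M2
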