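import Mathlib
import Cfsg.Agent.Gr.M2.E

/-! Pairs of octad type outside their ark: the common points. -/

set_option autoImplicit false

namespace Cfsg.Agent.Gr.M2

open Subgroup Cfsg.Agent.Spor Cfsg.Agent.Gr.Rk Cfsg.Agent.Gr.Am

attribute [local irreducible] sgC csm tq

variable {a u w x y : K} {A : Subgroup K}

/-- Adjoining a commuting involution to an elementary abelian group. -/
theorem b1a_adjoin {G : Type*} [Group G] {P H : Subgroup G} (hP : H ≤ P) (sq : ∀ x ∈ H, x * x = 1) {t : G}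
    (ht : t ∈ P) (t2 : t * t = 1) (hc : ∀ x ∈ P, Commute x t) :
    ∃ B : Subgroup G, H ≤ B ∧ t ∈ B ∧ B ≤ P ∧ (∀ x ∈ B, x * x = 1) ∧ Nat.card B ≤ 2 * Nat.card H := by
  have ti : t⁻¹ = t := inv_eq_self_of_sq t2
  let B : Subgroup G :=
    { carrier := {x | x ∈ P ∧ (x * t ∈ H ∨ x ∈ H)}
      one_mem' := ⟨one_mem _, Or.inr (one_mem _)⟩
      mul_mem' := by
        rintro x z ⟨hx, h1⟩ ⟨hz, h2⟩
        refine ⟨mul_mem hx hz, ?_⟩
        have c := (hc z hz).eq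
        rcases h1 with h1 | h1 <;> rcases h2 with h2 | h2
        · right
          have e : x * z = (x * t) * (z * t) := by
            calc x * z = x * (t * t) * z := by rw [t2, mul_one]
              _ = (x * t) * (t * z) := by group
              _ = _ := by rw [c]
          rw [e]; exact mul_mem h1 h2
        · left
          have e : x * z * t = (x * t) * z := by rw [mul_assoc, c, mul_assoc]
          rw [e]; exact mul_mem h1 h2
        · left; rw [mul_assoc]; exact mul_mem h1 h2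
        · right; exact mul_mem h1 h2
      inv_mem' := by
        rintro x ⟨hx, h1⟩
        refine ⟨inv_mem hx, ?_⟩
        rcases h1 with h1 | h1
        · left
          have e : x⁻¹ * t = (x * t)⁻¹ := by rw [(hc x hx).eq, mul_inv_rev, ti]
          rw [e]; exact inv_mem h1
        · right; exact inv_mem h1 }
  have hB : H ≤ B := fun x hx => ⟨hP hx, Or.inr hx⟩
  have tB : t ∈ B := ⟨ht, Or.inl (by rw [t2]; exact one_mem _)⟩
  refine ⟨B, hB, tB, fun x hx => hx.1, ?_, card_le_two_mul hB tB fun b hb => hb.2⟩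
  rintro x ⟨hx, h1 | h1⟩
  · have e := sq _ h1
    calc x * x = x * x * (t * t) := by rw [t2, mul_one]
      _ = x * (x * t) * t := by group
      _ = x * (t * x) * t := by rw [(hc x hx).eq]
      _ = (x * t) * (x * t) := by group
      _ = 1 := e
  · exact sq _ h1

namespace B1

theorem yc (h : B1 A w y) (ha : a ∈ A) : Commute a y := mem_centralizer_iff.1 h.cen a ha

theorem ysq (h : B1 A w y) : y * y = 1 := ZH.sq h.yz

theorem comm (h : B1 A w y) : Commute w y := h.yc h.mem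

theorem nQ' (h : B1 A w y) : w ∉ QQ y := fun k => h.nQ (QQ_symm h.yz h.zc k)

theorem aes (h : B1 A w y) : AES (QQ w) w := (es_QQ h.zc).1.aes

theorem le_cent (h : B1 A w y) (ha : a ∈ A) : a ∈ centralizer (A : Set K) :=
  mem_centralizer_iff.2 fun _ hb => (h.ark.comm hb ha).eq

/-- The decomposition `y = q a0`. -/
theorem base (h : B1 A w y) : ∃ a0 q : K, a0 ∈ A ∧ a0 ∉ QQ w ∧ q ∈ QQ w ∧ q ∈ centralizer (A : Set K) ∧
    q ∉ A ∧ q * q = 1 ∧ y * a0 = q ∧ q * a0 = y := by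
  obtain ⟨a0, ha, hq⟩ := h.sg
  have a2 := h.ark.sq ha
  refine ⟨a0, y * a0, ha, fun k => h.nQ ?_, hq, mul_mem h.cen (h.le_cent ha), fun k => h.nA ?_, ?_, rfl, ?_⟩
  · exact (mul_mem_cancel_right k).1 hq
  · exact (mul_mem_cancel_right ha).1 k
  · calc y * a0 * (y * a0) = y * (a0 * y) * a0 := by group
      _ = (y * y) * (a0 * a0) := by rw [(h.yc ha).eq]; group
      _ = 1 := by rw [h.ysq, a2, mul_one]
  · rw [mul_assoc, a2, mul_one]

theorem ex_ncomm (h : B1 A w y) (hx : x ∉ A) :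
    ∃ p ∈ QQ w, p ∈ centralizer (A : Set K) ∧ p * x ≠ x * p := by
  by_contra k
  push Not at k
  refine hx ?_
  rw [← h.toPnt.cent_cent]
  exact mem_centralizer_iff.2 fun p hp => k p hp.1 hp.2

theorem ex_flip (h : B1 A w y) : ∃ p : K, p ∈ centralizer (A : Set K) ∧ p * y * p⁻¹ = w * y := by
  obtain ⟨a0, q, ha, -, hq, -, nq, -, -, e⟩ := h.base
  obtain ⟨p, hp, hc, ne⟩ := h.ex_ncomm nq
  refine ⟨p, hc, ?_⟩
  have c : a0 * p = p * a0 := mem_centralizer_iff.1 hc a0 ha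
  have k := h.aes.conj_of_ne hp hq ne
  calc p * y * p⁻¹ = p * q * p⁻¹ * (p * a0) * p⁻¹ := by rw [← e]; group
    _ = w * q * (a0 * p) * p⁻¹ := by rw [k, c]
    _ = w * y := by rw [← e]; group

theorem conj_std (h : B1 (AO o0) zz y) (ha : a ∈ AO o0) (hq : a ∈ QQ zz) : ∃ g : K, g * y * g⁻¹ = y * a := by
  obtain ⟨a0, q, ha0, n0, hq0, -, -, -, -, e⟩ := h.base
  rw [QQ_zz] at n0 hq0 hq
  obtain ⟨e0, c0, rfl⟩ := mem_QK.1 hq0
  obtain ⟨e1, n, rfl⟩ := mem_QK.1 hq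
  have g1 : (y, sgC o0) ∈ GK := by
    have := GK.mul_mem (frK.mem e0 c0) (AO_gk ha0 n0)
    rwa [Prod.mk_mul_mk, one_mul, e] at this
  obtain ⟨v, rfl⟩ := (mem_perp_fix (sgC_mul_self o0)).1 (tq_mem_AO.1 ha)
  obtain ⟨f, hf⟩ := frK.comm_mem g1 0 v
  have yi : y⁻¹ = y := inv_eq_self_of_sq h.ysq
  have k : tq 0 v * y * (tq 0 v)⁻¹ = y * tq f (csm (sgC o0) v + v) := by
    rw [← hf, yi]
    calc tq 0 v * y * (tq 0 v)⁻¹ = (y * y) * (tq 0 v * y * (tq 0 v)⁻¹) := by rw [h.ysq, one_mul]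
      _ = _ := by group
  by_cases fe : f = e1
  · exact ⟨tq 0 v, by rw [k, fe]⟩
  obtain ⟨p, hc, hp⟩ := h.ex_flip
  have k2 : tq f (csm (sgC o0) v + v) = zz * tq e1 (csm (sgC o0) v + v) := by
    rw [z2_ne fe]; exact (frK.z_mul _ _).symm
  have c : zz * tq e1 (csm (sgC o0) v + v) * p = p * (zz * tq e1 (csm (sgC o0) v + v)) :=
    mem_centralizer_iff.1 hc _ (mul_mem h.mem ha)
  refine ⟨p * tq 0 v, ?_⟩
  generalize tq e1 (csm (sgC o0) v + v) = a at *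
  calc p * tq 0 v * y * (p * tq 0 v)⁻¹ = p * (tq 0 v * y * (tq 0 v)⁻¹) * p⁻¹ := by group
    _ = (p * y * p⁻¹) * (p * (zz * a)) * p⁻¹ := by rw [k, k2]; group
    _ = (zz * y) * (zz * a) := by rw [hp, ← c]; group
    _ = y * (zz * zz) * a := by rw [h.comm.eq]; group
    _ = y * a := by rw [ZH.sq zz_mem_ZC, mul_one]

theorem conj (h : B1 A w y) (ha : a ∈ A) (hq : a ∈ QQ w) : ∃ g : K, g * y * g⁻¹ = y * a := by
  obtain ⟨g, e1, e2⟩ := h.toPnt.std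
  have h' := h.map g
  have ha' : g * a * g⁻¹ ∈ cj g A := cj_mem.2 ha
  have hq' := (cj_mem_QQ g).2 hq
  rw [e1] at h' ha'
  rw [e2] at h' hq'
  obtain ⟨k, hk⟩ := h'.conj_std ha' hq'
  refine ⟨g⁻¹ * k * g, ?_⟩
  calc g⁻¹ * k * g * y * (g⁻¹ * k * g)⁻¹ = g⁻¹ * (k * (g * y * g⁻¹) * k⁻¹) * g := by group
    _ = y * a := by rw [hk]; group

theorem pp (h : B1 A w y) (hx : x ∈ QQ w) (hc : Commute x y) : x ∈ centralizer (A : Set K) := by
  obtain ⟨a0, q, ha, n0, hq, -, -, -, e, -⟩ := h.base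
  have e' : a0 = y * q := by rw [← e, ← mul_assoc, h.ysq, one_mul]
  have k : x * a0 * x⁻¹ = y * (x * q * x⁻¹) := by
    rw [e', ← mul_assoc x, hc.eq]; group
  refine (h.toPnt.cent_iff ha n0 hx).2 ?_
  rcases h.aes.conj_eq hx hq with r | r
  · left; rw [k, r, ← e']
  · right; rw [k, r, ← mul_assoc, ← h.comm.eq, mul_assoc, ← e']

theorem inf_cases (h : B1 A w y) (h1 : x ∈ QQ w) (h2 : x ∈ QQ y) : x ∈ A ∨ x * y ∈ A := by
  obtain ⟨a0, q, ha, -, hq, -, -, -, e, e'⟩ := h.base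
  have key : ∀ p ∈ QQ w, p ∈ centralizer (A : Set K) → p * q = q * p → x * p = p * x := by
    intro p hp hc k
    have c : Commute p a0 := (mem_centralizer_iff.1 hc a0 ha).symm
    refine (comm_of_inf h.zc h.yz h.nQ h1 h2 hp ?_).eq
    rw [← e']
    exact Commute.mul_right k c
  refine or_iff_not_imp_left.2 fun hx => ?_
  obtain ⟨p0, hp0, hc0, ne⟩ := h.ex_ncomm hx
  have ne' : p0 * q ≠ q * p0 := fun k => ne (key p0 hp0 hc0 k).symm
  have m : x * q ∈ A := by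
    rw [← h.toPnt.cent_cent]
    refine mem_centralizer_iff.2 fun p hp => ?_
    by_cases k : p * q = q * p
    · exact (Commute.mul_right (key p hp.1 hp.2 k).symm k).eq
    · have k1 := key _ (mul_mem hp.1 hp0) (mul_mem hp.2 hc0) (h.aes.comm_mul_of_ne hp.1 hp0 hq k ne')
      have k2 : x * p ≠ p * x := by
        intro r
        apply ne
        have : p * (p0 * x) = p * (x * p0) := by
          rw [← mul_assoc, ← k1, ← mul_assoc, r, mul_assoc]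
        exact mul_left_cancel this
      exact (h.aes.comm_mul_of_ne h1 hq hp.1 k2 fun r => k r.symm).symm
  rw [← e', ← mul_assoc]
  exact mul_mem m ha

theorem zc_mem (h : B1 A w y) (hu : u ∈ ZC) (h1 : u ∈ QQ w) (h2 : u ∈ QQ y) : u ∈ A := by
  rcases h.inf_cases h1 h2 with k | k
  · exact k
  have ne : u ≠ y := fun e => h.nQ (e ▸ h1)
  rw [← (QQ_comm h.yz h2).eq] at k
  have hn : y * u ∉ QQ w := fun r => h.nQ ((mul_mem_cancel_right h1).1 r)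
  exact h.toPnt.inf_le ⟨h.ark, k, mul_ZC h.yz hu h2 ne⟩ hn
    ⟨h1, inf_le_mul h.yz hu h2 ne ⟨h2, self_mem hu⟩⟩

theorem mem_zc (h : B1 A w y) (hx : x ∈ A ⊓ QQ w ⊓ QQ y) (h1 : x ≠ 1) : x ∈ ZC := by
  rcases ZC_or_DD (h.ark.sq hx.1.1) h1 with k | k
  · exact k
  obtain ⟨g, hg⟩ := h.conj hx.1.1 hx.1.2
  have := (conj_mem_ZC g).2 h.yz
  rw [hg, ← (h.yc hx.1.1).eq] at this
  exact (ZH.not_DD this (DD_mul h.yz k hx.2)).elim

theorem lin (h : B1 A w y) (hx : u ∈ A ⊓ QQ w ⊓ QQ y) (h1 : u ≠ 1) : Lin A w u ∧ y ∈ QQ u :=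
  ⟨⟨h.toPnt, hx.1.1, h.mem_zc hx h1, hx.1.2, fun e => h.nQ' (e ▸ hx.2)⟩,
    QQ_symm h.yz (h.mem_zc hx h1) hx.2⟩

theorem inf_le (h : B1 A w y) (hu : u ∈ ZC) (h1 : u ∈ QQ w) (h2 : u ∈ QQ y) : QQ w ⊓ QQ y ≤ QQ u := by
  rintro x ⟨x1, x2⟩
  have uA := h.zc_mem hu h1 h2
  have pu : Pnt A u := ⟨h.ark, uA, hu⟩
  by_contra nx
  have nx : x ∉ QQ u := nx
  rcases h.inf_cases x1 x2 with k | k
  · have z1 : x ∈ ZC := h.mem_zc ⟨⟨k, x1⟩, x2⟩ fun e => nx (e ▸ one_mem _)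
    have z2 : u * x ∈ ZC := h.mem_zc ⟨⟨mul_mem uA k, mul_mem h1 x1⟩, mul_mem h2 x2⟩ fun e =>
      nx ((mul_mem_cancel_left (self_mem hu)).1 (e ▸ one_mem _))
    rcases pu.flip k nx with r | r
    · exact ZH.not_DD z2 r.2
    · exact ZH.not_DD z1 r.1
  · have yu : y ∈ QQ u := QQ_symm h.yz hu h2
    have na : x * y ∉ QQ u := fun r => nx ((mul_mem_cancel_right yu).1 r)
    have fin : ∀ t, t ∈ QQ w → t ∈ QQ y → t * y ∈ A → t * y ∈ ZC → False := by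
      intro t t1 t2 t3 t4
      have e : y * (t * y) = t := by
        rw [← mul_assoc, (QQ_comm h.yz t2).eq, mul_assoc, h.ysq, mul_one]
      have z := mul_ZC h.yz t4 (mul_mem t2 (self_mem h.yz)) fun r => h.nA (r ▸ t3)
      rw [e] at z
      exact h.nA ((mul_mem_cancel_left (h.zc_mem z t1 t2)).1 t3)
    rcases pu.flip k na with r | r
    · exact fin x x1 x2 k r.1
    · refine fin (u * x) (mul_mem h1 x1) (mul_mem h2 x2) ?_ ?_ <;> rw [mul_assoc]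
      · exact mul_mem uA k
      · exact r.2

theorem lift (h : B1 A w y) (hu : Lin A w u) (hs : Sg A u y) : u ∈ QQ y ∨ w * u ∈ QQ y := by
  obtain ⟨a, ha, k1, k2⟩ := hu.sg_both h.sg hs
  have n1 : a ∉ QQ w := fun r => h.nQ ((mul_mem_cancel_right r).1 k1)
  by_cases n2 : a ∈ QQ u
  · exact Or.inl (QQ_symm hu.zc' h.yz ((mul_mem_cancel_right n2).1 k2))
  · have k3 := inf_le_mul h.zc hu.zc' hu.adj hu.ne ⟨k1, k2⟩
    exact Or.inr (QQ_symm hu.mul.zc' h.yz ((mul_mem_cancel_right (hu.lin ha n1 n2)).1 k3))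

/-- `E1` for subgroups of `C_{Q_w}(y)`, with the point chosen in `U0`. -/
theorem ex_pt (h : B1 A w y) {X : Subgroup K} (hX : ∀ x ∈ X, x ∈ QQ w ∧ x * x = 1 ∧ Commute x y)
    (hc : ∃ a b : K, a ∈ X ∧ b ∈ X ∧ ∀ x ∈ X, ∃ z ∈ ({1, a, b, a * b} : Set K), x * z ∈ A ∨ x * z * y ∈ A) :
    ∃ u ∈ A ⊓ QQ w ⊓ QQ y, u ≠ 1 ∧ ∀ x ∈ X, Sg A u x := by
  have := finite_K
  obtain ⟨a, b, ha, hb, hc⟩ := hc
  obtain ⟨a0, q, ha0, -, hq, cq, -, q2, e, e'⟩ := h.base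
  have xc : ∀ x ∈ X, x ∈ centralizer (A : Set K) := fun x hx => h.pp (hX x hx).1 (hX x hx).2.2
  have xq : ∀ x ∈ X, Commute x q := fun x hx => by
    rw [← e]; exact (hX x hx).2.2.mul_right (mem_centralizer_iff.1 (xc x hx) a0 ha0).symm
  have ab : Commute a b := by
    have r := (hX _ (mul_mem ha hb)).2.1
    have := inv_eq_self_of_sq r
    rw [mul_inv_rev, inv_eq_self_of_sq (hX a ha).2.1, inv_eq_self_of_sq (hX b hb).2.1] at this
    exact this.symm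
  let P : Subgroup K := (QQ w ⊓ centralizer (A : Set K)) ⊓ centralizer ({q, a, b} : Set K)
  have mP : ∀ t, t ∈ QQ w → t ∈ centralizer (A : Set K) → Commute t q → Commute t a → Commute t b → t ∈ P := by
    intro t t1 t2 t3 t4 t5
    refine ⟨⟨t1, t2⟩, mem_centralizer_iff.2 ?_⟩
    rintro s (rfl | rfl | rfl)
    exacts [t3.eq.symm, t4.eq.symm, t5.eq.symm]
  have h0 : A ⊓ QQ w ≤ P := fun t ht => mP t ht.2 (h.le_cent ht.1) (mem_centralizer_iff.1 cq t ht.1)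
    (mem_centralizer_iff.1 (xc a ha) t ht.1) (mem_centralizer_iff.1 (xc b hb) t ht.1)
  obtain ⟨B1, l1, m1, p1, s1, c1⟩ := b1a_adjoin h0 (fun t ht => h.ark.sq ht.1)
    (mP q hq cq (Commute.refl q) (xq a ha).symm (xq b hb).symm) q2
    fun t ht => (mem_centralizer_iff.1 ht.2 q (by simp)).symm
  obtain ⟨B2, l2, m2, p2, s2, c2⟩ := b1a_adjoin p1 s1
    (mP a (hX a ha).1 (xc a ha) (xq a ha) (Commute.refl a) ab) (hX a ha).2.1
    fun t ht => (mem_centralizer_iff.1 ht.2 a (by simp)).symm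
  obtain ⟨B, l3, m3, p3, s3, c3⟩ := b1a_adjoin p2 s2
    (mP b (hX b hb).1 (xc b hb) (xq b hb) ab.symm (Commute.refl b)) (hX b hb).2.1
    fun t ht => (mem_centralizer_iff.1 ht.2 b (by simp)).symm
  have l0 : A ⊓ QQ w ≤ B := l1.trans (l2.trans l3)
  have c4 : Nat.card ↥(A ⊓ QQ w) ≤ Nat.card ↥(B ⊓ A) := card_le_of_le fun t ht => ⟨l0 ht, ht.1⟩
  have qB : q ∈ B := l3 (l2 m1)
  obtain ⟨u, hu, hs⟩ := E1 h.toPnt (B := B) (fun t ht => (p3 ht).1) s3 (by omega)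
  have XB : ∀ x ∈ X, x ∈ B := by
    intro x hx
    obtain ⟨z, hz, k⟩ := hc x hx
    have zB : z ∈ B := by
      rcases hz with rfl | rfl | rfl | rfl
      exacts [one_mem _, l3 m2, m3, mul_mem (l3 m2) m3]
    have xz : x * z ∈ QQ w := mul_mem (hX x hx).1 (p3 zB).1.1
    refine (mul_mem_cancel_right zB).1 ?_
    rcases k with k | k
    · exact l0 ⟨k, xz⟩
    · refine (mul_mem_cancel_right qB).1 (l0 ⟨?_, mul_mem xz hq⟩)
      rw [← e, ← mul_assoc]; exact mul_mem k ha0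
  have sy : Sg A u y := by
    obtain ⟨t, ht, k⟩ := hs q qB
    exact ⟨a0 * t, mul_mem ha0 ht, by rwa [← mul_assoc, e]⟩
  rcases h.lift hu sy with k | k
  · exact ⟨u, ⟨⟨hu.mem', hu.adj⟩, k⟩, ZH.ne_one hu.zc', fun x hx => hs x (XB x hx)⟩
  · exact ⟨w * u, ⟨⟨hu.mul.mem', hu.mul.adj⟩, k⟩, ZH.ne_one hu.mul.zc',
      fun x hx => hu.sg_mul (Sg.of_mem (hX x hx).1) (hs x (XB x hx))⟩

theorem card_ge (h : B1 A w y) : 16 ≤ Nat.card ↥(A ⊓ QQ w ⊓ QQ y) := by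
  classical
  have := finite_K
  obtain ⟨u, hu, u1, -⟩ := h.ex_pt (X := ⊥)
    (fun x hx => by rw [mem_bot.1 hx]; exact ⟨one_mem _, mul_one _, Commute.one_left _⟩)
    ⟨1, 1, one_mem _, one_mem _, fun x hx => ⟨1, by simp, Or.inl (by rw [mem_bot.1 hx, mul_one]; exact one_mem _)⟩⟩
  obtain ⟨a0, q, ha0, -, hq, cq, nq, -, e, e'⟩ := h.base
  obtain ⟨hl, yu⟩ := h.lin hu u1
  obtain ⟨S, cS, h1, h2⟩ := E4 hl hq (mem_SG.2 ⟨cq, a0, ha0, e' ▸ yu⟩) nq
  let f : K → K := fun s => if s ∈ QQ y then s else w * s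
  have inj : Set.InjOn f S := by
    intro s hs s' hs' r
    simp only [f] at r
    split_ifs at r
    · exact r
    · exact (h2 s' hs' s hs r).elim
    · exact (h2 s hs s' hs' r.symm).elim
    · exact mul_left_cancel r
  have fm : ∀ s ∈ S, f s ∈ A ⊓ QQ w ⊓ QQ y ∧ f s ≠ 1 := by
    intro s hs
    obtain ⟨l, t, ht, k⟩ := h1 s hs
    have sy : Sg A s y := ⟨a0 * t, mul_mem ha0 ht, by rwa [← mul_assoc, e]⟩
    simp only [f]
    split_ifs with r
    · exact ⟨⟨⟨l.mem', l.adj⟩, r⟩, ZH.ne_one l.zc'⟩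
    · exact ⟨⟨⟨l.mul.mem', l.mul.adj⟩, (h.lift l sy).resolve_left r⟩, ZH.ne_one l.mul.zc'⟩
  have n1 : (1 : K) ∉ S.image f := by
    intro r
    obtain ⟨s, hs, r⟩ := Finset.mem_image.1 r
    exact (fm s hs).2 r
  have sub : ((insert 1 (S.image f) : Finset K) : Set K) ⊆ (A ⊓ QQ w ⊓ QQ y : Subgroup K) := by
    intro t ht
    rcases Finset.mem_insert.1 ht with rfl | r
    · exact one_mem (A ⊓ QQ w ⊓ QQ y)
    · obtain ⟨s, hs, rfl⟩ := Finset.mem_image.1 r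
      exact (fm s hs).1
  have := Set.ncard_le_ncard sub
  rw [Set.ncard_coe_finset, Finset.card_insert_of_notMem n1, Finset.card_image_of_injOn inj] at this
  exact le_trans (by omega) this

theorem card_le (h : B1 A w y) : Nat.card ↥(A ⊓ QQ w ⊓ QQ y) ≤ 32 :=
  h.ark.sing_le (fun _ hx => hx.1.1) fun _ hx => h.mem_zc hx

theorem lin_N (h : B1 A w y) {u' : K} (hu : u ∈ A ⊓ QQ w ⊓ QQ y) (hu' : u' ∈ A ⊓ QQ w ⊓ QQ y) (n1 : u ≠ 1)
    (n2 : u' ≠ 1) (n3 : u ≠ u') (ha : a ∈ A ∨ a * y ∈ A) : a ∈ QQ u ∨ a ∈ QQ u' ∨ a ∈ QQ (u * u') := by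
  obtain ⟨l1, y1⟩ := h.lin hu n1
  obtain ⟨l2, y2⟩ := h.lin hu' n2
  have l : Lin A u u' := ⟨l1.pnt, l2.mem', l2.zc', h.inf_le l1.zc' hu.1.2 hu.2 ⟨hu'.1.2, hu'.2⟩, n3.symm⟩
  have key : ∀ t ∈ A, t ∈ QQ u ∨ t ∈ QQ u' ∨ t ∈ QQ (u * u') := fun t ht =>
    or_iff_not_imp_left.2 fun r1 => or_iff_not_imp_left.2 fun r2 => l.lin ht r1 r2
  rcases ha with k | k
  · exact key a k
  have y3 : y ∈ QQ (u * u') := inf_le_mul l1.zc' l2.zc' l.adj l.ne ⟨y1, y2⟩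
  rcases key _ k with r | r | r
  · exact Or.inl ((mul_mem_cancel_right y1).1 r)
  · exact Or.inr (Or.inl ((mul_mem_cancel_right y2).1 r))
  · exact Or.inr (Or.inr ((mul_mem_cancel_right y3).1 r))

theorem two_N (h : B1 A w y) {b : K} (hu : u ∈ A ⊓ QQ w ⊓ QQ y) (n1 : u ≠ 1) (ha : a ∈ A ∨ a * y ∈ A)
    (hb : b ∈ A ∨ b * y ∈ A) : a ∈ QQ u ∨ b ∈ QQ u ∨ a * b ∈ QQ u := by
  obtain ⟨l, y1⟩ := h.lin hu n1
  have nrm : ∀ t : K, t ∈ A ∨ t * y ∈ A → ∃ s ∈ A, ∃ r ∈ QQ u, r ∈ centralizer (A : Set K) ∧ t = s * r := by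
    rintro t (k | k)
    · exact ⟨t, k, 1, one_mem _, one_mem _, (mul_one _).symm⟩
    · exact ⟨t * y, k, y, y1, h.cen, by rw [mul_assoc, h.ysq, mul_one]⟩
  obtain ⟨s, hs, r, hr, cr, rfl⟩ := nrm a ha
  obtain ⟨s', hs', r', hr', -, rfl⟩ := nrm b hb
  refine or_iff_not_imp_left.2 fun k1 => or_iff_not_imp_left.2 fun k2 => ?_
  have k := l.pnt.two hs hs' (fun t => k1 (mul_mem t hr)) fun t => k2 (mul_mem t hr')
  have c : s' * r = r * s' := mem_centralizer_iff.1 cr s' hs'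
  have e : s * r * (s' * r') = (s * s') * (r * r') := by
    calc s * r * (s' * r') = s * (r * s') * r' := by group
      _ = _ := by rw [← c]; group
  rw [e]
  exact mul_mem k (mul_mem hr hr')

end B1

end Cfsg.Agent.Gr.M2
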