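import Mathlib
import Cfsg.Agent.Gr.M2.GolA

/-! Sextets that refine a common octad. -/

set_option autoImplicit false

namespace Cfsg.Agent.Gr.M2

open Subgroup Cfsg.Agent.Spor Cfsg.Agent.Gr.Rk Cfsg.Agent.Gr.Am
open Cfsg.Agent.Spor.Golay (maskWord popc popcK isCode ptIdx)

namespace Sex

/-- The standard sextet. -/
def sx0 : List ℕ := [8388615, 147496, 268544, 1082880, 2621632, 4268048]
/-- The octads refined by the standard sextet. -/
def O15 : List ℕ := [8536111, 8657159, 9471495, 11010247, 12656663, 416040, 1230376, 2769128, 4415544, 1351424,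
  2890176, 4536592, 3704512, 5350928, 6889680]
/-- The sextets that are even on these octads. -/
def L : List (List ℕ) :=
  [[8388615, 147496, 268544, 1082880, 2621632, 4268048], [8388649, 147462, 274448, 557632, 3146880, 4262144],
  [8405001, 7680, 131110, 1343744, 2695168, 4194512], [8519689, 16422, 99344, 528768, 2361408, 5251584],
  [8396817, 149760, 266280, 525952, 3178560, 4259846], [8454161, 164872, 786752, 1065504, 2103424, 4202502],
  [12582929, 16584, 73734, 297472, 1053952, 2752544], [8405025, 131086, 788608, 1114640, 2101568, 4236288],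
  [8519713, 16398, 73920, 263936, 1087488, 6815760], [8388801, 204832, 300032, 1051392, 2621446, 4210712],
  [8912961, 33320, 327952, 1197056, 2097286, 4208640], [10485825, 20768, 395272, 524422, 1089552, 4261376],
  [8913025, 9744, 135432, 280608, 2097222, 5341184], [10485889, 71696, 180736, 524358, 1049640, 4464896],
  [8390913, 155664, 266246, 1049280, 2655232, 4259880], [8392961, 107008, 264198, 655496, 2113632, 5243920],
  [8651009, 6150, 132640, 589904, 1097736, 6299776], [8390145, 22536, 393504, 532624, 1081350, 6357056],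
  [8421889, 78080, 524392, 1049606, 2244736, 4458512], [9437697, 2496, 33798, 81968, 2887680, 4333576],
  [8422401, 196632, 266432, 1049094, 2623744, 4218912], [9438209, 33286, 337920, 671808, 2097320, 4198672],
  [8394753, 17928, 262406, 1212448, 2162832, 4726848], [8652801, 4358, 540832, 1123328, 2228296, 4227600],
  [8654849, 2310, 8248, 33984, 3670528, 4407296], [8462337, 37632, 131296, 1313792, 2637832, 4194326],
  [12591105, 50208, 65558, 530496, 1180168, 2359680], [8536065, 46, 10512, 1573952, 2130560, 4526080],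
  [9469953, 1542, 137248, 278792, 2105424, 4784256], [12648449, 2344, 8214, 413696, 1605760, 2098752],
  [11010049, 198, 36096, 90120, 1315328, 4325424], [8388650, 6336, 147461, 1155072, 2883840, 4195856],
  [8405002, 69904, 131109, 558208, 3146304, 4466688], [8519690, 16421, 35584, 1315840, 2105488, 4784192],
  [8396818, 39936, 540768, 1311488, 2228360, 4259845], [8454162, 20744, 395296, 1049792, 2654720, 4202501],
  [12582930, 1576, 73733, 790656, 1228800, 2099520], [8405026, 131085, 299520, 532560, 1051904, 6357120],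
  [8519714, 16397, 329744, 1573504, 2131008, 4206848], [8388802, 6184, 409856, 1115152, 2621445, 4235776],
  [8912962, 24624, 265728, 1085696, 2097285, 4390920], [10485826, 164896, 339968, 524421, 1065480, 4196624],
  [8913026, 50184, 76032, 1180192, 2097221, 4460560], [10485890, 5888, 139288, 524357, 1345536, 4276256],
  [8390914, 164360, 266245, 598144, 1066016, 6291536], [8392962, 81944, 264197, 1605696, 2098816, 4333600],
  [8651010, 6149, 147648, 1057296, 2621480, 4293632], [8390146, 221184, 788544, 1081349, 2101632, 4194360],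
  [8421890, 133384, 282656, 1049605, 2686992, 4202688], [9437698, 33797, 270608, 655520, 2113608, 4265984],
  [8422402, 14352, 540808, 1049093, 2228320, 4522240], [9438210, 18720, 33285, 65744, 397320, 6823936],
  [8394754, 232, 42000, 262405, 2768896, 5308928], [8652802, 4357, 196656, 525888, 3178624, 4218888],
  [8654850, 2309, 49696, 1180680, 2170944, 4718736], [8462338, 148992, 526720, 1081384, 2363456, 4194325],
  [12591106, 33472, 65557, 135456, 280584, 3671040], [8536066, 45, 75264, 262592, 2627584, 5275664],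
  [9469954, 1541, 73768, 528704, 2361472, 4341776], [12648450, 8213, 296192, 655432, 1055232, 2113696],
  [11010050, 197, 98832, 153600, 262440, 5252096], [8388652, 38144, 147459, 589968, 1313280, 6299712],
  [8405004, 131107, 526656, 1057808, 2363520, 4293120], [8519692, 1728, 16419, 336128, 3702784, 4200464],
  [8396820, 4544, 164384, 1065992, 2885632, 4259843], [8454164, 267776, 524456, 1083648, 2244672, 4202499],
  [12582932, 73731, 137224, 278816, 1573440, 2131072], [8405028, 79872, 131083, 1081536, 2622976, 4456720],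
  [8519716, 16395, 41488, 790592, 2099584, 5309440], [8388804, 12560, 132616, 1097760, 2621443, 4524032],
  [8912964, 18696, 107520, 397344, 2097283, 5243408], [10485828, 39424, 213008, 524419, 1312000, 4202536],
  [8913028, 65592, 295680, 1055744, 2097219, 4349952], [10485892, 133408, 282632, 524355, 1122816, 4228112],
  [8390916, 266243, 540744, 1146896, 2228384, 4204032], [8392964, 8400, 33832, 264195, 1196544, 6881280],
  [8651012, 6147, 204808, 557696, 3146816, 4210736], [8390148, 131272, 331792, 1081347, 2637856, 4204800],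
  [8421892, 139312, 786816, 1049603, 2103360, 4276232], [9437700, 33795, 151808, 264232, 2171008, 4718672],
  [8422404, 4392, 411648, 598080, 1049091, 6291600], [9438212, 24600, 33283, 530560, 2359616, 4390944],
  [8394756, 90144, 262403, 1574016, 2130496, 4325400], [8652804, 4355, 181248, 1049128, 2629648, 4260032],
  [8654852, 2307, 67088, 655456, 2113672, 5283840], [8462340, 22560, 393480, 558144, 3146368, 4194323],
  [12591108, 3840, 65555, 671872, 1347584, 2097256], [8536068, 43, 297984, 1053440, 2162768, 4726912],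
  [9469956, 1539, 16608, 67856, 2752520, 4468736], [12648452, 8211, 49672, 264384, 1180704, 2625792],
  [11010052, 195, 17952, 272400, 1212424, 4264192]]

def hd (s : List ℕ) : ℕ := s.headD 0
def fo (k m : ℕ) : ℕ := Nat.xor m (Nat.shiftRight m k)
def pb (s : List ℕ) (m : ℕ) : Bool :=
  s.all fun t => Nat.beq (popcK (fo 3 (fo 6 (fo 12 (Nat.land m (Nat.xor t (hd s)))))) 3 % 2) 0
def rb (o : ℕ) (s : List ℕ) : Bool := s.any fun t => Nat.beq (Nat.land t o) t
def mk (i j k : ℕ) : ℕ := 2 ^ 23 ||| (2 ^ i ||| (2 ^ j ||| 2 ^ k))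
def chk (T : List ℕ) (M : List (List ℕ)) : Bool :=
  T.length == 3 && M.all fun s => M.all fun s' => (T.any fun o => rb o s && rb o s') || !pb s (hd s')

theorem L_ok : ∀ s ∈ L, popc (hd s) = 4 ∧ ∀ t ∈ s, isCode (t ^^^ hd s) = true ∧ popc t = 4 := by decide +kernel
theorem O_ok : ∀ o ∈ O15, isCode o = true ∧ popc o = 8 := by decide +kernel
theorem L_all : ∀ i < 24, ∀ j < 24, ∀ k < 24, pb sx0 (mk i j k) = true → popc (mk i j k) = 4 →
    ∃ s ∈ L, hd s = mk i j k := by decide +kernel
theorem L_trio : ∀ s ∈ L, hd s = 8388615 ∨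
    chk (O15.filter (rb · s)) (L.filter fun s' => pb s (hd s')) = true := by decide +kernel
theorem sx0_mem : sx0 ∈ L := List.mem_cons_self
theorem d0_eq : d0 = maskWord 8388615 := funext (by decide +kernel)

theorem fo_par (k m : ℕ) : popcK (fo k m) k % 2 = popcK m (k + k) % 2 := by
  rw [Golay.popcK_eq, Golay.popcK_eq, Finset.sum_range_add, ← Finset.sum_add_distrib, Finset.sum_nat_mod,
    Finset.sum_nat_mod _ _ (fun i => _ + _)]
  refine congrArg (· % 2) (Finset.sum_congr rfl fun i _ => ?_)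
  rw [show fo k m = m ^^^ m >>> k from rfl, Nat.testBit_xor, Nat.testBit_shiftRight]
  cases m.testBit i <;> cases m.testBit (k + i) <;> rfl

theorem wt_mask (m : ℕ) : wt (maskWord m) = popc m := Golay.hammingNorm_maskWord m

theorem mask_and (a b : ℕ) : maskWord (a &&& b) = maskWord a * maskWord b :=
  support_inj (by rw [support_mul, Golay.support_maskWord, Golay.support_maskWord, Golay.support_maskWord,
    Golay.maskSet_and])

theorem ex_wd {m : ℕ} (h : isCode m = true) : ∃ o, wd o = maskWord m := exists_wd ((Golay.maskWord_mem_iff m).2 h)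

/-- The syndrome of a sextet. -/
def ps (s : List ℕ) : Cd := sy (maskWord (hd s))

variable {s : List ℕ}

theorem sy_mem (hs : s ∈ L) {t : ℕ} (ht : t ∈ s) : sy (maskWord t) = ps s :=
  sy_eq_iff.2 (Golay.maskWord_xor _ _ ▸ ex_wd ((L_ok s hs).2 t ht).1)

theorem pb_of (hs : s ∈ L) {m : ℕ} (h : Pp (ps s) (sy (maskWord m))) : pb s m = true := by
  refine List.all_eq_true.2 fun t ht => Nat.beq_eq.mpr (((fo_par 3 _).trans ((fo_par 6 _).trans (fo_par 12 _))).trans
    ((Golay.dot_maskWord_eq_zero_iff m (t ^^^ hd s)).1 ?_))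
  obtain ⟨o, ho⟩ := ex_wd ((L_ok s hs).2 t ht).1
  change maskWord m ⬝ᵥ _ = 0
  rw [← ho, ← sy_dot]
  rw [Golay.maskWord_xor] at ho
  have e := wt_add (maskWord t) (maskWord (hd s))
  rw [wt_mask, wt_mask, (L_ok s hs).1, ((L_ok s hs).2 t ht).2, ← ho] at e
  by_cases h0 : wt (wd o) = 0
  · rw [wt_wd_eq_zero.1 h0, dotProduct_zero]
  have := wt_wd o
  refine h o (mem_Oct.2 (by omega)) _ ((wt_mask _).trans (L_ok s hs).1) ?_ rfl
  rw [ho, mul_add, wd_mul_self, mul_comm, wt_eq_zero.1 (by omega : wt (maskWord t * maskWord (hd s)) = 0), zero_add]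

theorem rf_of (hs : s ∈ L) {m : ℕ} {o : Cd} (ho : wd o = maskWord m) (h : rb m s = true) : Rf o (ps s) := by
  obtain ⟨t, ht, e⟩ := List.any_eq_true.1 h
  exact ⟨maskWord t, mem_Ev.2 ⟨by rw [ho, ← mask_and, show t &&& m = t from Nat.beq_eq.mp e],
    even_wt.2 (by rw [wt_mask, ((L_ok s hs).2 t ht).2]; decide)⟩, (sy_mem hs ht).symm⟩

theorem ex_mk {δ : Wd} (h : wt δ = 4) (h0 : δ none = 1) : ∃ i < 24, ∃ j < 24, ∃ k < 24, δ = maskWord (mk i j k) := by
  have hm : none ∈ support₂ δ := by simp [BinCode.mem_support₂, h0]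
  obtain ⟨a, b, c, -, -, -, e⟩ := Finset.card_eq_three.1
    (show ((support₂ δ).erase none).card = 3 by rw [Finset.card_erase_of_mem hm, ← wt_eq_card, h])
  refine ⟨_, Golay.ptIdx_lt a, _, Golay.ptIdx_lt b, _, Golay.ptIdx_lt c, support_inj ?_⟩
  rw [← Finset.insert_erase hm, e, Golay.support_maskWord]
  ext p
  simp only [Finset.mem_insert, Finset.mem_singleton, Golay.mem_maskSet, mk, Nat.testBit_or, Nat.testBit_two_pow,
    Bool.or_eq_true, decide_eq_true_eq, show 23 = ptIdx none from rfl, Golay.ptIdx_injective.eq_iff, @eq_comm _ p]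

end Sex

open Sex

theorem wt_d0 : wt d0 = 4 := by rw [d0_eq, wt_mask, ← (L_ok sx0 sx0_mem).1]; rfl

theorem card_const : Nat.card {c : Cd // ∀ δ, wt δ = 4 → sy δ = sy d0 → ∀ p q, δ p = 1 → δ q = 1 →
    wd c p = wd c q} ≤ 32 := by
  let t : Fin 5 → ℕ := ![147496, 268544, 1082880, 2621632, 4268048]
  let r : Fin 5 → Pt := ![some 3, some 8, some 9, some 6, some 4]
  have k : ∀ p, maskWord 8388615 p = 1 ∨ ∃ i, t i ∈ sx0 ∧ maskWord (t i) p = 1 ∧ maskWord (t i) (r i) = 1 := by
    decide +kernel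
  refine (Nat.card_le_card_of_injective (β := Fin 5 → ZMod 2) (fun c i => wd c.1 (r i)) fun c c' e => ?_).trans
    (by simp)
  have e1 : wd (c.1 + c'.1) * maskWord 8388615 = wd (c.1 + c'.1) := funext fun p => by
    rcases k p with h | ⟨i, hi, h, h'⟩
    · rw [Pi.mul_apply, h, mul_one]
    have w : wt (maskWord (t i)) = 4 := (wt_mask _).trans ((L_ok sx0 sx0_mem).2 _ hi).2
    have y : sy (maskWord (t i)) = sy d0 := (sy_mem sx0_mem hi).trans (by rw [d0_eq]; rfl)
    rw [Pi.mul_apply, map_add, Pi.add_apply, c.2 _ w y _ _ h h', c'.2 _ w y _ _ h h',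
      show wd c.1 (r i) = wd c'.1 (r i) from congrFun e i, z2_add_self, zero_mul]
  have e2 := wt_mul_le (wd (c.1 + c'.1)) (maskWord 8388615)
  have := wt_wd (c.1 + c'.1)
  rw [e1, ← d0_eq, wt_d0] at e2
  exact Subtype.ext (cd_eq_of_add (wt_wd_eq_zero.1 (by omega)))

theorem ex_common (U : AddSubgroup Cd) (h0 : sy d0 ∈ U) (ev : ∀ ψ ∈ U, ψ ⬝ᵥ om = 0) (nd : ∀ ψ ∈ U, ¬ Du ψ)
    (pp : ∀ ψ ∈ U, ∀ φ ∈ U, Pp ψ φ) : ∃ o ∈ Oct, ∀ ψ ∈ U, Rf o ψ := by
  have e0 : sy d0 = ps sx0 := by rw [d0_eq]; rfl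
  have rp : ∀ ψ ∈ U, ψ = 0 ∨ ∃ s ∈ L, ψ = ps s := fun ψ hψ =>
    (coc_cases (ev ψ hψ)).imp_right fun h => by
      obtain ⟨δ, h1, rfl⟩ := h.resolve_left (nd ψ hψ)
      obtain ⟨ε, h2, h3, h4⟩ := ex_tet h1 none
      obtain ⟨i, hi, j, hj, k, hk, rfl⟩ := ex_mk h2 h4
      obtain ⟨s, hs, e⟩ := L_all i hi j hj k hk (pb_of sx0_mem (by rw [← e0, h3]; exact pp _ h0 _ hψ))
        ((wt_mask _).symm.trans h2)
      exact ⟨s, hs, by rw [ps, e, h3]⟩
  have oc : ∀ m ∈ O15, ∃ o ∈ Oct, wd o = maskWord m := fun m hm =>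
    (ex_wd (O_ok m hm).1).imp fun o ho => ⟨mem_Oct.2 (by rw [ho, wt_mask, (O_ok m hm).2]), ho⟩
  by_contra! hn
  obtain ⟨s, hs, hU, n⟩ : ∃ s ∈ L, ps s ∈ U ∧ hd s ≠ 8388615 := by
    obtain ⟨o, ho, e⟩ := oc _ List.mem_cons_self
    obtain ⟨ψ, hψ, h⟩ := hn o ho
    obtain ⟨s, hs, rfl⟩ := (rp ψ hψ).resolve_left fun e => h (e ▸ Rf.zero o)
    exact ⟨s, hs, hψ, fun e' => h (by rw [ps, e']; exact rf_of sx0_mem e (by decide))⟩
  obtain ⟨l3, ck⟩ := Bool.and_eq_true_iff.1 ((L_trio s hs).resolve_left n)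
  obtain ⟨a, b, c, eT⟩ := List.length_eq_three.1 (beq_iff_eq.1 l3)
  have mT : ∀ m ∈ [a, b, c], m ∈ O15 := fun m hm => (List.mem_filter.1 (eT ▸ hm)).1
  obtain ⟨oa, ha, ea⟩ := oc a (mT a (by simp))
  obtain ⟨ob, hb, eb⟩ := oc b (mT b (by simp))
  obtain ⟨oc, hc, ec⟩ := oc c (mT c (by simp))
  have rp' : ∀ x ∈ U, ∃ s' ∈ L, ps s' ∈ U ∧ ∀ o, Rf o (ps s') → Rf o x := fun x hx =>
    (rp x hx).elim (fun e => ⟨s, hs, hU, fun o _ => e ▸ Rf.zero o⟩) fun ⟨s', hs', e⟩ =>
      ⟨s', hs', e ▸ hx, fun _ h => e ▸ h⟩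
  have key : ∀ x ∈ U, ∀ y ∈ U, Rf oa x ∧ Rf oa y ∨ Rf ob x ∧ Rf ob y ∨ Rf oc x ∧ Rf oc y := fun x hx y hy => by
    obtain ⟨s1, m1, u1, r1⟩ := rp' x hx
    obtain ⟨s2, m2, u2, r2⟩ := rp' y hy
    have := List.all_eq_true.1 (List.all_eq_true.1 ck s1 (List.mem_filter.2 ⟨m1, pb_of hs (pp _ hU _ u1)⟩)) s2
      (List.mem_filter.2 ⟨m2, pb_of hs (pp _ hU _ u2)⟩)
    simp only [eT, pb_of m1 (pp _ u1 _ u2), Bool.not_true, Bool.or_false, List.any_cons, List.any_nil,
      Bool.or_eq_true, Bool.and_eq_true] at this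
    exact this.imp (And.imp (r1 _ <| rf_of m1 ea ·) (r2 _ <| rf_of m2 ea ·)) (Or.imp
      (And.imp (r1 _ <| rf_of m1 eb ·) (r2 _ <| rf_of m2 eb ·)) (And.imp (r1 _ <| rf_of m1 ec ·) (r2 _ <| rf_of m2 ec ·)))
  obtain ⟨x, hx, nx⟩ := hn oa ha
  obtain ⟨y, hy, ny⟩ := hn ob hb
  obtain ⟨z, hz, nz⟩ := hn oc hc
  have k1 : Rf oa y := (key y hy z hz).elim And.left fun h => h.elim (absurd ·.1 ny) (absurd ·.2 nz)
  have k2 : Rf ob x := (key x hx z hz).elim (absurd ·.1 nx) fun h => h.elim And.left (absurd ·.2 nz)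
  rcases key _ (add_mem hx hy) z hz with h | h | h
  · exact nx (by simpa only [add_assoc, cd_add_self, add_zero] using h.1.add k1)
  · exact ny (by simpa only [← add_assoc, cd_add_self, zero_add] using k2.add h.1)
  · exact nz h.2

end Cfsg.Agent.Gr.M2
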