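import Mathlib
import Cfsg.Agent.Gr.M2.Bas
import Cfsg.Agent.Gr.M2.GolB
import Cfsg.Agent.Gr.M2.Sex

/-! The Lagrangian inequality. -/

set_option autoImplicit false

namespace Cfsg.Agent.Gr.M2

open Subgroup Cfsg.Agent.Spor Cfsg.Agent.Gr.Rk Cfsg.Agent.Gr.Am

attribute [local irreducible] sgC csm tq act pc

theorem Lag.card_inf {G : Type*} [Group G] (H L : Subgroup G) :
    Nat.card L = Nat.card ↥(L ⊓ H) * H.relIndex L := by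
  rw [← relIndex_bot_left, ← relIndex_bot_left, ← inf_relIndex_left L H,
    relIndex_mul_relIndex _ _ _ bot_le inf_le_left]

theorem Lag.card_le {M : Type*} [AddGroup M] {H L : AddSubgroup M} (h : H ≤ L) :
    Nat.card L = Nat.card H * H.relIndex L := by
  rw [← AddSubgroup.relIndex_bot_left, ← AddSubgroup.relIndex_bot_left,
    AddSubgroup.relIndex_mul_relIndex _ _ _ bot_le h]

theorem Lag.lin {X V A B : AddSubgroup LL} (hX : Iso X) (hV : Iso V) (cV : 2 ^ 12 ≤ Nat.card V)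
    (cI : 2 ^ 8 ≤ Nat.card ↥(X ⊓ V)) (hA : A ≤ V) (hB : B ≤ X) (h : ∀ a ∈ A, ∀ b ∈ B, pol a b = 0) :
    X.relIndex A * V.relIndex B ≤ 16 := by
  have le : A ⊔ X ⊓ V ≤ perp pB (B ⊔ V) := by
    refine sup_le (fun a ha => mem_perp_pB.2 fun w hw => ?_) fun a ha => mem_perp_pB.2 fun w hw => ?_
    · obtain ⟨b, hb, v, hv, rfl⟩ := AddSubgroup.mem_sup.1 hw
      rw [pol_add_left, pol_comm, h a ha b hb, hV v hv a (hA ha), add_zero]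
    · obtain ⟨b, hb, v, hv, rfl⟩ := AddSubgroup.mem_sup.1 hw
      rw [pol_add_left, hX b (hB hb) a ha.1, hV v hv a ha.2, add_zero]
  have e1 := Lag.card_le (le_sup_right : X ⊓ V ≤ A ⊔ X ⊓ V)
  have e2 := Lag.card_le (le_sup_right : V ≤ B ⊔ V)
  have e3 := card_perp_pB (B ⊔ V)
  have e4 := AddSubgroup.card_le_of_le le
  have e5 : (X ⊓ V).relIndex A = X.relIndex A := by
    rw [← AddSubgroup.inf_relIndex_right, inf_assoc, inf_eq_right.2 hA, AddSubgroup.inf_relIndex_right]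
  rw [AddSubgroup.relIndex_sup_right, e5] at e1
  rw [AddSubgroup.relIndex_sup_right] at e2
  refine Nat.le_of_mul_le_mul_left (c := 2 ^ 20) ?_ (by norm_num)
  calc 2 ^ 20 * (X.relIndex A * V.relIndex B) = 2 ^ 8 * X.relIndex A * (2 ^ 12 * V.relIndex B) := by ring
    _ ≤ Nat.card ↥(A ⊔ X ⊓ V) * Nat.card ↥(B ⊔ V) := by rw [e1, e2]; gcongr
    _ ≤ Nat.card (perp pB (B ⊔ V)) * Nat.card ↥(B ⊔ V) := by gcongr
    _ = 2 ^ 20 * 16 := by rw [e3]; norm_num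

/-- The image modulo `zz` of the part in `QK`. -/
noncomputable def Lag.bar (R : Subgroup K) : AddSubgroup LL := aS (fun c => ∃ e, tq e c ∈ R) ⟨0, frK.zero ▸ R.one_mem⟩
  fun _ _ ⟨_, h⟩ ⟨_, k⟩ => ⟨_, frK.mul _ _ _ _ ▸ R.mul_mem h k⟩

theorem Lag.mem_bar {T : Subgroup K} (hz : zz ∈ T) (e : ZMod 2) {c : LL} : c ∈ Lag.bar T ↔ tq e c ∈ T := by
  refine ⟨fun ⟨f, h⟩ => ?_, fun h => ⟨e, h⟩⟩
  by_cases k : e = f
  · exact k ▸ h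
  · rw [z2_ne k, ← frK.z_mul]; exact T.mul_mem hz h

theorem Lag.rel {R T : Subgroup K} (hR : R ≤ QK) (hz : zz ∈ T) :
    T.relIndex R = (Lag.bar T).relIndex (Lag.bar R) := by
  refine relIndex_eq (β := Lag.bar R ⧸ (Lag.bar T).addSubgroupOf (Lag.bar R))
    (fun k b => ∃ e, ∃ c : Lag.bar R, k = tq e c ∧ b = c) (fun a ha => ?_) (fun b => ?_) ?_
  · obtain ⟨e, c, rfl⟩ := hR ha
    exact ⟨_, e, ⟨c, e, ha⟩, rfl, rfl⟩
  · obtain ⟨⟨c, e, h⟩, rfl⟩ := QuotientAddGroup.mk_surjective b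
    exact ⟨_, h, e, _, rfl, rfl⟩
  · rintro _ - _ - _ _ ⟨e, c, rfl, rfl⟩ ⟨f, d, rfl, rfl⟩
    rw [QuotientAddGroup.eq, frK.inv, frK.mul, ← Lag.mem_bar hz, AddSubgroup.mem_addSubgroupOf,
      AddSubgroup.coe_add, AddSubgroup.coe_neg, ll_neg]

theorem Lag.card_V : 2 ^ 12 ≤ Nat.card V12S := by
  have := Nat.card_le_card_of_injective (fun t : D0S × {φ : Cd // φ ⬝ᵥ om = 0} =>
    (⟨(t.1.1, t.2.1), t.1.2, t.2.2⟩ : V12S)) fun s t h => by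
      obtain ⟨h1, h2⟩ := Prod.mk.inj (congrArg Subtype.val h)
      exact Prod.ext (Subtype.ext h1) (Subtype.ext h2)
  rwa [Nat.card_prod, card_D0S, card_even] at this

theorem Lag.card_sub {α β : Type*} [Finite β] {p : α → Prop} {q : β → Prop} (f : α → β)
    (h : ∀ a, p a → q (f a)) (k : Function.Injective f) : Nat.card {a // p a} ≤ Nat.card {b // q b} :=
  Nat.card_le_card_of_injective (Subtype.map f h) (Subtype.map_injective h k)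

theorem Lag.wt_pm (σ : M24) (δ : Wd) : wt (pm σ δ) = wt δ := by
  unfold wt hammingNorm
  exact Finset.card_equiv σ.1.symm fun p => ⟨fun h => Finset.mem_filter.2 ⟨Finset.mem_univ _, (Finset.mem_filter.1 h).2⟩,
    fun h => Finset.mem_filter.2 ⟨Finset.mem_univ _, (Finset.mem_filter.1 h).2⟩⟩

theorem Lag.pm_pm (σ : M24) (δ : Wd) : pm σ⁻¹ (pm σ δ) = δ := funext fun p => pm_apply σ δ p

theorem Lag.const {δ0 : Wd} (h : wt δ0 = 4) : Nat.card {c : Cd // ∀ δ, wt δ = 4 → sy δ = sy δ0 →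
    ∀ p q, δ p = 1 → δ q = 1 → wd c p = wd c q} ≤ 32 := by
  obtain ⟨σ, hσ⟩ := ex_pm_tet h
  refine le_trans (Lag.card_sub (pc σ) (fun c hc δ h1 h2 p q hp hq => ?_) fun c d k => wd_injective ?_) card_const
  · rw [wd_pc]
    refine hc (pm σ⁻¹ δ) ((Lag.wt_pm _ _).trans h1) ?_ _ _ ?_ ?_
    · obtain ⟨d, hd⟩ := sy_eq_iff.1 h2
      exact sy_eq_iff.2 ⟨pc σ⁻¹ d, by rw [wd_pc, hd, pm_add, ← hσ, Lag.pm_pm]⟩
    · exact (pm_apply σ⁻¹ δ p).trans hp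
    · exact (pm_apply σ⁻¹ δ q).trans hq
  · rw [← Lag.pm_pm σ (wd c), ← wd_pc, k, wd_pc, Lag.pm_pm]

theorem Lag.card_X {a : K} (ha : a ∈ ZC) (h : a ∈ QK) (ne : a ≠ zz) : 2 ^ 12 ≤ Nat.card (Lag.bar (QQ a)) := by
  obtain ⟨g, g1, g2⟩ := adj_std zz_mem_ZC ha (QQ_zz ▸ h) ne 0
  obtain ⟨γ, hγ⟩ := exists_GK.2 (mul_inv_eq_iff_eq_mul.1 g1).symm
  refine Lag.card_V.trans (Nat.card_le_card_of_injective (fun c => ⟨csm γ⁻¹ c.1, 0, ?_⟩) fun c d k =>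
    Subtype.ext (ActH.csm_injective γ⁻¹ (congrArg Subtype.val k)))
  obtain ⟨f, t⟩ := frK.act _ _ hγ 0 (csm γ⁻¹ c.1)
  rw [← cj_mem_QQ g, g2, t, ActH.csm_csm_inv]
  exact tq_mem_v0.2 c.2

theorem Lag.card_I {e : ZMod 2} {v : LL} (ha : tq e v ∈ ZC) (hv : V12 v) (n0 : v.2 ≠ 0) :
    2 ^ 8 ≤ Nat.card ↥(Lag.bar (QQ (tq e v)) ⊓ V12S) := by
  set X := Lag.bar (QQ (tq e v)) with hX
  have v0' : v ≠ 0 := fun k => n0 (by rw [k]; rfl)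
  have iso : Iso X := fun _ ⟨_, h⟩ _ ⟨_, k⟩ => pol_of_mem ha v0' h k
  have m0 : v0 ∈ X := ⟨0, QQ_symm (tq_v0_ZC 0) ha (tq_mem_v0.2 hv)⟩
  obtain ⟨δ0, w0, s0⟩ : ∃ δ, wt δ = 4 ∧ v.2 = sy δ :=
    ((coc_cases hv.2).resolve_left n0).resolve_left fun k => ZH.not_DD ha (tq_DD.2 (du_short hv k))
  have c1 := Lag.card_X ha ⟨_, _, rfl⟩ fun k => v0' (frK.inj k).2
  have c2 : Nat.card (X.map (AddMonoidHom.fst Cd Cd)) ≤ 32 := by
    refine le_trans (Lag.card_sub id ?_ Function.injective_id) (Lag.const w0)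
    rintro _ ⟨x, hx, rfl⟩ δ h1 h2 p q hp hq
    by_cases ne : p = q
    · rw [ne]
    have m : clB p q ∈ X := ⟨0, short_mem ha (clB_mem ne) (du_short ((v12_clB p q).add hv) (by
      rw [Prod.snd_add, s0, ← h2, add_comm]; exact du_sub h1 hp hq ne))⟩
    have := iso x hx _ m
    rw [pol_clB] at this
    exact (eq_neg_of_add_eq_zero_left this).trans (ZMod.neg_eq_self_mod_two _)
  have c3 := Lag.card_le (inf_le_right : (AddMonoidHom.fst Cd Cd).ker ⊓ X ≤ X)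
  rw [AddSubgroup.inf_relIndex_right, AddSubgroup.relIndex_ker] at c3
  have k0 : ∀ x ∈ (AddMonoidHom.fst Cd Cd).ker ⊓ X, x ∈ X ⊓ V12S := fun x hx =>
    ⟨hx.2, Or.inl hx.1, ev0_iff.2 (iso _ m0 _ hx.2)⟩
  have c4 := two_mul_card_le_adj (W := (AddMonoidHom.fst Cd Cd).ker ⊓ X) (x := v0) fun k => om_ne_zero k.1
  have c5 := AddSubgroup.card_le_of_le (H := adj ((AddMonoidHom.fst Cd Cd).ker ⊓ X) v0) (K := X ⊓ V12S)
    fun x hx => (mem_adj.1 hx).elim (k0 x) fun k => by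
      have := add_mem (k0 _ k) (show v0 ∈ X ⊓ V12S from ⟨m0, t0_v0.v12⟩)
      rwa [add_assoc, ll_add_self, add_zero] at this
  have c6 : ∀ n : ℕ, 2 ^ 12 ≤ n * 32 → 2 ^ 8 ≤ 2 * n := fun n h => by omega
  exact (c6 _ (c1.trans (c3.le.trans (Nat.mul_le_mul_left _ c2)))).trans (c4.trans c5)

theorem Lag.std {a : K} {R1 R2 : Subgroup K} (ha : a ∈ ZC) (h2 : a ∈ QK) (h3 : a ∈ QQ (tq 0 v0))
    (n2 : a ≠ zz) (n3 : a ≠ tq 0 v0) (n4 : a ≠ zz * tq 0 v0) (r1 : R1 ≤ QK ⊓ QQ (tq 0 v0)) (r2 : R2 ≤ QK ⊓ QQ a)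
    (hc : ∀ x ∈ R1, ∀ y ∈ R2, Commute x y) : (QQ a).relIndex R1 * (QQ (tq 0 v0)).relIndex R2 ≤ 16 := by
  obtain ⟨e, v, rfl⟩ := h2
  have hv := tq_mem_v0.1 h3
  have n0 : v.2 ≠ 0 := fun k => by
    rcases frK.mem_V.1 ((frK.mem_lf (e := e) (U := T0S)).2 (t0_iff.2 ⟨hv.1, k⟩)) with t | t | t | t
    exacts [(es_QQ ha).1.z_ne t, n2 t, n4 (t.trans (frK.z_mul 0 v0).symm), n3 t]
  have v0' : v ≠ 0 := fun k => n0 (by rw [k]; rfl)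
  have z1 : zz ∈ QQ (tq e v) := QQ_symm zz_mem_ZC ha (QQ_zz ▸ ⟨_, _, rfl⟩)
  have z2 : zz ∈ QQ (tq 0 v0) := tq_mem_v0.2 t0_zero.v12
  have bV : Lag.bar (QQ (tq 0 v0)) = V12S := AddSubgroup.ext fun c => (Lag.mem_bar z2 0).trans tq_mem_v0
  rw [Lag.rel (r1.trans inf_le_left) z1, Lag.rel (r2.trans inf_le_left) z2, bV]
  exact Lag.lin (fun _ ⟨_, h⟩ _ ⟨_, k⟩ => pol_of_mem ha v0' h k) (fun _ h _ k => V12.pol h k) Lag.card_V
    (Lag.card_I ha hv n0) (fun _ ⟨_, h⟩ => tq_mem_v0.1 (r1 h).2) (fun _ ⟨f, h⟩ => ⟨f, (r2 h).2⟩)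
    fun _ ⟨_, h⟩ _ ⟨_, k⟩ => frK.comm_iff.1 (hc _ h _ k).eq

theorem lag {u w a : K} {R1 R2 : Subgroup K} (hu : u ∈ ZC) (hw : w ∈ ZC) (ha : a ∈ ZC) (h1 : w ∈ QQ u)
    (h2 : a ∈ QQ u) (h3 : a ∈ QQ w) (n1 : w ≠ u) (n2 : a ≠ u) (n3 : a ≠ w) (n4 : a ≠ u * w)
    (r1 : R1 ≤ QQ u ⊓ QQ w) (r2 : R2 ≤ QQ u ⊓ QQ a) (hc : ∀ x ∈ R1, ∀ y ∈ R2, Commute x y) :
    Nat.card R1 * Nat.card R2 ≤ 16 * (Nat.card ↥(R1 ⊓ QQ a) * Nat.card ↥(R2 ⊓ QQ w)) := by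
  obtain ⟨g, g1, g2⟩ := adj_std hu hw h1 n1 0
  have cj_ne : ∀ {x y : K}, x ≠ y → g * x * g⁻¹ ≠ g * y * g⁻¹ := fun h k =>
    h (mul_left_cancel (mul_right_cancel k))
  have key := Lag.std (a := g * a * g⁻¹) (R1 := cj g R1) (R2 := cj g R2) ((conj_mem_ZC g).2 ha)
    (by rw [← QQ_zz, ← g1]; exact (cj_mem_QQ g).2 h2) (by rw [← g2]; exact (cj_mem_QQ g).2 h3)
    (g1 ▸ cj_ne n2) (g2 ▸ cj_ne n3) (by rw [← g1, ← g2, ← conj_mul']; exact cj_ne n4)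
    (by rw [← QQ_zz, ← g1, ← g2, QQ_cj, QQ_cj, ← cj_inf]; exact map_mono r1)
    (by rw [← QQ_zz, ← g1, QQ_cj, QQ_cj, ← cj_inf]; exact map_mono r2)
    (by rintro _ ⟨x, hx, rfl⟩ _ ⟨y, hy, rfl⟩; exact cj_comm.2 (hc x hx y hy))
  rw [← g2, QQ_cj, QQ_cj, relIndex_map_map_of_injective _ _ (MulAut.conj g).injective,
    relIndex_map_map_of_injective _ _ (MulAut.conj g).injective] at key
  rw [Lag.card_inf (QQ a) R1, Lag.card_inf (QQ w) R2, mul_mul_mul_comm, mul_comm 16]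
  exact Nat.mul_le_mul_left _ key

end Cfsg.Agent.Gr.M2
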