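import Mathlib
import Cfsg.Agent.Gr.M2.B1a
import Cfsg.Agent.Gr.M2.Lag

/-! Pairs of octad type outside their ark: the points of `U0` whose extraspecial group contains a given element. -/

set_option autoImplicit false

namespace Cfsg.Agent.Gr.M2

open Subgroup Cfsg.Agent.Spor Cfsg.Agent.Gr.Rk Cfsg.Agent.Gr.Am

variable {a u w y : K} {A : Subgroup K}

namespace B1bAux

theorem half {G : Type*} [Group G] (B C : Subgroup G) (H : ∀ x ∈ B, ∀ z ∈ B, x ∉ C → z ∉ C → x * z ∈ C) :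
    Nat.card B ≤ 2 * Nat.card ↥(B ⊓ C) := by
  by_cases hb : B ≤ C
  · rw [inf_eq_left.2 hb]; omega
  · obtain ⟨t, ht, nt⟩ := SetLike.not_le_iff_exists.1 hb
    refine Rk.card_le_two_mul inf_le_left ht fun b hb => ?_
    by_cases hc : b ∈ C
    · exact Or.inr ⟨hb, hc⟩
    · exact Or.inl ⟨mul_mem hb ht, H b hb t ht hc nt⟩

theorem card_le_two {G : Type*} [Group G] {B : Subgroup G} {t : G} (H : ∀ x ∈ B, x = 1 ∨ x = t) :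
    Nat.card B ≤ 2 := by
  have h1 : (B : Set G) ⊆ {1, t} := fun x hx => H x hx
  have h2 : (B : Set G).ncard ≤ ({1, t} : Set G).ncard := Set.ncard_le_ncard h1 (Set.toFinite _)
  have h3 : ({1, t} : Set G).ncard ≤ 2 := by
    simpa using Set.ncard_insert_le (1 : G) {t}
  exact (Nat.card_coe_set_eq (B : Set G)).trans_le (h2.trans h3)

theorem ark_cent (h : IsArk A) (ha : a ∈ A) : a ∈ centralizer (A : Set K) :=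
  mem_centralizer_iff.2 fun _ hb => (h.comm hb ha).eq

theorem lin_adj (h : B1 A w y) {u' : K} (hu : u ∈ A ⊓ QQ w ⊓ QQ y) (hu' : u' ∈ A ⊓ QQ w ⊓ QQ y) (k : u ≠ 1) :
    u' ∈ QQ u := h.inf_le (h.mem_zc hu k) hu.1.2 hu.2 ⟨hu'.1.2, hu'.2⟩

theorem ne_w (h : B1 A w y) {u' : K} (hu : u ∈ QQ y) (hu' : u' ∈ QQ y) : u' ≠ w * u := fun e =>
  h.nQ' (by rw [eq_mul_inv_of_mul_eq e.symm]; exact mul_mem hu' (inv_mem hu))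

/-- The element `q` of `Q_w ∩ y A`. -/
theorem ex_q (h : B1 A w y) : ∃ a0 ∈ A, y * a0 ∈ QQ w ∧ y * a0 ∈ centralizer (A : Set K) ∧ y * a0 ∉ A ∧
    ∀ v : K, Sg A v (y * a0) ↔ Sg A v y := by
  obtain ⟨a0, h0, hq⟩ := h.sg
  refine ⟨a0, h0, hq, mul_mem h.cen (ark_cent h.ark h0), fun k => h.nA ((mul_mem_cancel_right h0).1 k),
    fun v => ⟨fun ⟨b, hb, k⟩ => ⟨a0 * b, mul_mem h0 hb, by rwa [← mul_assoc]⟩,
      fun ⟨b, hb, k⟩ => ⟨a0⁻¹ * b, mul_mem (inv_mem h0) hb, by rwa [← mul_assoc, mul_inv_cancel_right]⟩⟩⟩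

/-- A second point. -/
theorem second (h : B1 A w y) (hq : a ∈ QQ w) (hc : Commute a y) (hu : u ∈ A ⊓ QQ w ⊓ QQ y) (k : u ≠ 1)
    (s : Sg A u a) : ∃ v ∈ A ⊓ QQ w ⊓ QQ y, v ≠ 1 ∧ v ≠ u ∧ Sg A v a ∧ (a ∈ DD → a ∈ QQ u → a ∉ A → a ∈ QQ v) := by
  obtain ⟨a0, -, q1, q2, -, q4⟩ := ex_q h
  obtain ⟨l, hy⟩ := h.lin hu k
  obtain ⟨v, lv, -, n1, n2, s1, s2, s3⟩ := E2 l hq q1 ⟨h.pp hq hc, s⟩ ⟨q2, (q4 u).2 (Sg.of_mem hy)⟩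
  rcases h.lift lv ((q4 v).1 s2) with e | e
  · exact ⟨v, ⟨⟨lv.mem', lv.adj⟩, e⟩, ZH.ne_one lv.zc', n1, s1, s3⟩
  · refine ⟨w * v, ⟨⟨lv.mul.mem', lv.mul.adj⟩, e⟩, ZH.ne_one lv.mul.zc', fun e' => n2 ?_,
      lv.sg_mul (Sg.of_mem hq) s1, fun d1 d2 d3 => inf_le_mul h.zc lv.zc' lv.adj lv.ne ⟨hq, s3 d1 d2 d3⟩⟩
    rw [← e', ← mul_assoc, ZH.sq h.zc, one_mul]

/-- On a line of `U0` all of whose points are `Sg`, one point has `a` in its extraspecial group. -/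
theorem pair (h : B1 A w y) {v : K} (hu : u ∈ A ⊓ QQ w ⊓ QQ y) (hv : v ∈ A ⊓ QQ w ⊓ QQ y) (k : u ≠ 1)
    (k' : v ≠ 1) (ne : v ≠ u) (s : Sg A u a) (s' : Sg A v a) : a ∈ QQ u ∨ a ∈ QQ v ∨ a ∈ QQ (u * v) := by
  have l : Lin A u v := ⟨(h.lin hu k).1.pnt, hv.1.1, h.mem_zc hv k', lin_adj h hu hv k, ne⟩
  obtain ⟨n, hn, m1, m2⟩ := l.sg_both s s'
  have m3 : a * n ∈ QQ (u * v) := inf_le_mul l.zc l.zc' l.adj l.ne ⟨m1, m2⟩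
  by_cases c1 : n ∈ QQ u
  · exact Or.inl ((mul_mem_cancel_right c1).1 m1)
  by_cases c2 : n ∈ QQ v
  · exact Or.inr (Or.inl ((mul_mem_cancel_right c2).1 m2))
  · exact Or.inr (Or.inr ((mul_mem_cancel_right (l.lin hn c1 c2)).1 m3))

/-- The consequence of the Lagrangian inequality. -/
theorem lag' (h : B1 A w y) (hq : a ∈ QQ w) (za : a ∈ ZC) (n1 : a ∉ A) (hu : u ∈ A ⊓ QQ w ⊓ QQ y) (k : u ≠ 1)
    (ha : a ∈ QQ u) (H : ∀ x ∈ A ⊓ QQ w ⊓ QQ y ⊓ QQ a, x = 1 ∨ x = u) {R : Subgroup K}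
    (hR : R ≤ QQ u ⊓ QQ a ⊓ QQ y) : Nat.card R ≤ 2 * Nat.card ↥(R ⊓ QQ w) := by
  obtain ⟨l, hy⟩ := h.lin hu k
  have r0 : ∀ x ∈ A ⊓ QQ w ⊓ QQ y, x ∈ QQ u := fun x hx => lin_adj h hu hx k
  have key := lag (R1 := A ⊓ QQ w ⊓ QQ y) (R2 := R) l.zc' h.zc za (QQ_symm h.zc l.zc' l.adj) ha hq l.ne.symm
    (fun e => n1 (e ▸ l.mem')) (fun e => n1 (e ▸ h.mem)) (fun e => n1 (e ▸ mul_mem l.mem' h.mem))
    (fun x hx => ⟨r0 x hx, hx.1.2⟩) (fun x hx => (hR hx).1)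
    fun x hx z hz => inf_comm l.zc' h.yz hy (fun e => h.nA (e ▸ l.mem')) ⟨r0 x hx, hx.2⟩ ⟨(hR hz).1.1, (hR hz).2⟩
  have c1 := h.card_ge
  have c2 := card_le_two H
  have c3 : 16 * Nat.card R ≤ 16 * (2 * Nat.card ↥(R ⊓ QQ w)) :=
    (Nat.mul_le_mul_right _ c1).trans (key.trans (Nat.mul_le_mul_left _ (Nat.mul_le_mul_right _ c2)))
  omega

theorem not_single (h : B1 A w y) (hq : a ∈ QQ w) (za : a ∈ ZC) (n1 : a ∉ A) (ho : Oc y a)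
    (hu : u ∈ A ⊓ QQ w ⊓ QQ y) (k : u ≠ 1) (ha : a ∈ QQ u)
    (H : ∀ x ∈ A ⊓ QQ w ⊓ QQ y ⊓ QQ a, x = 1 ∨ x = u) : False := by
  obtain ⟨A', p, cen, sg, nq⟩ := ho.ark (ZH.sq za)
  have zu : u ∈ ZC := h.mem_zc hu k
  have ua : u ∈ QQ a := QQ_symm zu za ha
  by_cases m : a ∈ A'
  · have pa : Pnt A' a := ⟨p.ark, m, za⟩
    have pu : Pnt A' u := ⟨p.ark, p.inf_le pa nq ⟨hu.2, ua⟩, zu⟩
    have c1 := p.card_inf
    have c2 := half (A' ⊓ QQ y) (QQ a) fun x hx z hz => pa.two hx.1 hz.1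
    have c3 := half (A' ⊓ QQ y ⊓ QQ a) (QQ u) fun x hx z hz => pu.two hx.1.1 hz.1.1
    have c4 := lag' h hq za n1 hu k ha H (R := A' ⊓ QQ y ⊓ QQ a ⊓ QQ u) fun x hx => ⟨⟨hx.2, hx.1.2⟩, hx.1.1.2⟩
    have c5 := half (A' ⊓ QQ y ⊓ QQ a ⊓ QQ u ⊓ QQ w) A fun x hx z hz nx nz => by
      have e1 := (h.inf_cases hx.2 hx.1.1.1.2).resolve_left nx
      have e2 := (h.inf_cases hz.2 hz.1.1.1.2).resolve_left nz
      have e3 : x * z = x * y * (z * y) := by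
        rw [← (QQ_comm h.yz hz.1.1.1.2).eq, mul_assoc, ← mul_assoc y, ZH.sq h.yz, one_mul]
      rw [e3]; exact mul_mem e1 e2
    have c6 : Nat.card ↥(A' ⊓ QQ y ⊓ QQ a ⊓ QQ u ⊓ QQ w ⊓ A) ≤ 2 :=
      card_le_two fun x hx => H x ⟨⟨⟨hx.2, hx.1.2⟩, hx.1.1.1.1.2⟩, hx.1.1.1.2⟩
    omega
  · have h' : B1 A' y a := ⟨p, za, cen, m, nq, sg⟩
    have c1 := h'.card_ge
    have c4 := lag' h hq za n1 hu k ha H (R := A' ⊓ QQ y ⊓ QQ a) fun x hx =>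
      ⟨⟨h'.inf_le zu hu.2 ua ⟨hx.1.2, hx.2⟩, hx.2⟩, hx.1.2⟩
    have c6 : Nat.card ↥(A' ⊓ QQ y ⊓ QQ a ⊓ QQ w) ≤ 2 := card_le_two (t := u) fun x hx => by
      by_cases e : x = 1
      · exact Or.inl e
      · exact H x ⟨⟨⟨h.zc_mem (h'.mem_zc hx.1 e) hx.2 hx.1.1.2, hx.2⟩, hx.1.1.2⟩, hx.1.2⟩
    omega

end B1bAux

open B1bAux

namespace B1

theorem ex_D (h : B1 A w y) (hq : a ∈ QQ w) (h2 : a * a = 1) (hc : Commute a y) :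
    ∃ u ∈ A ⊓ QQ w ⊓ QQ y, u ≠ 1 ∧ a ∈ QQ u := by
  let X : Subgroup K :=
    { carrier := {x | x = 1 ∨ x = a}
      one_mem' := Or.inl rfl
      mul_mem' := by
        rintro _ _ (rfl | rfl) (rfl | rfl)
        · exact Or.inl (one_mul _)
        · exact Or.inr (one_mul _)
        · exact Or.inr (mul_one _)
        · exact Or.inl h2
      inv_mem' := by
        rintro _ (rfl | rfl)
        · exact Or.inl inv_one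
        · exact Or.inr (inv_eq_of_mul_eq_one_right h2) }
  obtain ⟨u, hu, k, s⟩ := h.ex_pt (X := X)
    (by
      rintro _ (rfl | rfl)
      · exact ⟨one_mem _, one_mul _, Commute.one_left _⟩
      · exact ⟨hq, h2, hc⟩)
    ⟨a, a, Or.inr rfl, Or.inr rfl, by
      rintro _ (rfl | rfl)
      · exact ⟨1, Or.inl rfl, Or.inl (by rw [one_mul]; exact one_mem _)⟩
      · exact ⟨_, Or.inr (Or.inl rfl), Or.inl (by rw [h2]; exact one_mem _)⟩⟩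
  have s1 := s a (Or.inr rfl)
  obtain ⟨v, hv, k', ne, s2, -⟩ := second h hq hc hu k s1
  rcases pair h hu hv k k' ne s1 s2 with e | e | e
  · exact ⟨u, hu, k, e⟩
  · exact ⟨v, hv, k', e⟩
  · exact ⟨u * v, mul_mem hu hv,
      ZH.ne_one (mul_ZC (h.mem_zc hu k) (h.mem_zc hv k') (lin_adj h hu hv k) ne), e⟩

theorem two_D (h : B1 A w y) (hq : a ∈ QQ w) (h2 : a * a = 1) (hc : Commute a y) (n1 : a ∉ A) (n2 : a * y ∉ A)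
    (ho : a ∈ QQ y ∨ Oc y a) : ∃ u1 ∈ A ⊓ QQ w ⊓ QQ y, ∃ u2 ∈ A ⊓ QQ w ⊓ QQ y, u1 ≠ 1 ∧ u2 ≠ 1 ∧ u1 ≠ u2 ∧
      a ∈ QQ u1 ∧ a ∈ QQ u2 := by
  rcases ho with ho | ho
  · exact ((h.inf_cases hq ho).elim n1 n2).elim
  obtain ⟨u, hu, k, ha⟩ := h.ex_D hq h2 hc
  rcases ZC_or_DD h2 (fun e => n1 (e ▸ one_mem _)) with za | da
  · by_contra H
    refine not_single h hq za n1 ho hu k ha fun x hx => ?_
    by_contra H'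
    obtain ⟨e1, e2⟩ := not_or.1 H'
    exact H ⟨u, hu, x, hx.1, k, e1, fun e => e2 e.symm, ha, QQ_symm za (h.mem_zc hx.1 e1) hx.2⟩
  · obtain ⟨v, hv, k', ne, -, s⟩ := second h hq hc hu k (Sg.of_mem ha)
    exact ⟨u, hu, v, hv, k, k', ne.symm, ha, s da ha n1⟩

theorem three (h : B1 A w y) (hq : a ∈ QQ w) (hc : Commute a y) (n1 : a ∉ A) (n2 : a * y ∉ A) {u1 u2 u3 : K}
    (m1 : u1 ∈ A ⊓ QQ w ⊓ QQ y) (m2 : u2 ∈ A ⊓ QQ w ⊓ QQ y) (m3 : u3 ∈ A ⊓ QQ w ⊓ QQ y) (k1 : u1 ≠ 1)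
    (k2 : u2 ≠ 1) (k3 : u3 ≠ 1) (ne : u1 ≠ u2) (s1 : Sg A u1 a) (s2 : Sg A u2 a) (s3 : Sg A u3 a) :
    u3 = u1 ∨ u3 = u2 ∨ u3 = u1 * u2 := by
  by_cases e : u3 = u1
  · exact Or.inl e
  obtain ⟨a0, h0, q1, q2, q3, q4⟩ := ex_q h
  obtain ⟨l1, y1⟩ := h.lin m1 k1
  obtain ⟨l2, y2⟩ := h.lin m2 k2
  obtain ⟨l3, y3⟩ := h.lin m3 k3
  rcases E3 l1 l2 l3 (lin_adj h m1 m2 k1) (lin_adj h m1 m3 k1) ne.symm (ne_w h m1.2 m2.2) e (ne_w h m1.2 m3.2)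
    hq q1 ⟨h.pp hq hc, s1⟩ ⟨q2, (q4 u1).2 (Sg.of_mem y1)⟩ n1 q3
    (fun k => n2 ((mul_mem_cancel_right h0).1 (by rwa [mul_assoc]))) s2 ((q4 u2).2 (Sg.of_mem y2)) s3
    ((q4 u3).2 (Sg.of_mem y3)) with e | e | e | e
  · exact Or.inr (Or.inl e)
  · exact absurd e (ne_w h m2.2 m3.2)
  · exact Or.inr (Or.inr e)
  · exact absurd (e.trans (mul_assoc _ _ _)) (ne_w h (mul_mem m1.2 m2.2) m3.2)

theorem mem_of_sg (h : B1 A w y) (hq : a ∈ QQ w) (h2 : a * a = 1) (hc : Commute a y) (n1 : a ∉ A)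
    (n2 : a * y ∉ A) (ho : a ∈ QQ y ∨ Oc y a) (hu : u ∈ A ⊓ QQ w ⊓ QQ y) (k : u ≠ 1) (s : Sg A u a) :
    a ∈ QQ u := by
  obtain ⟨u1, m1, u2, m2, k1, k2, ne, a1, a2⟩ := h.two_D hq h2 hc n1 n2 ho
  rcases h.three hq hc n1 n2 m1 m2 hu k1 k2 k ne (Sg.of_mem a1) (Sg.of_mem a2) s with e | e | e <;> rw [e]
  · exact a1
  · exact a2
  · exact inf_le_mul (h.mem_zc m1 k1) (h.mem_zc m2 k2) (lin_adj h m1 m2 k1) ne.symm ⟨a1, a2⟩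

end B1

end Cfsg.Agent.Gr.M2
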