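import Mathlib
import Cfsg.Agent.Gr.M2.B1b
import Cfsg.Agent.GT.PiGroups

/-! The dichotomy for a pair of octad type outside its ark. -/

set_option autoImplicit false
set_option linter.unusedSectionVars false

namespace Cfsg.Agent.Gr.M2

open Subgroup Cfsg.Agent.Spor Cfsg.Agent.Gr.Rk Cfsg.Agent.Gr.Am

namespace B1c

section
variable {Γ : Type*} [Group Γ] {H P X X0 U : Subgroup Γ} {s t : Γ}

/-- Adjoining a commuting involution. -/
def adj (H : Subgroup Γ) (s : Γ) (h2 : s * s = 1) (hc : ∀ x ∈ H, x * s = s * x) : Subgroup Γ where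
  carrier := {x | x ∈ H ∨ x * s ∈ H}
  one_mem' := .inl (one_mem _)
  mul_mem' := by
    rintro x y (hx | hx) (hy | hy)
    · exact .inl (mul_mem hx hy)
    · exact .inr (mul_assoc x y s ▸ mul_mem hx hy)
    · exact .inr (by rw [mul_assoc, hc y hy, ← mul_assoc]; exact mul_mem hx hy)
    · refine .inl ?_
      have h := mul_mem hx hy
      rwa [mul_assoc, ← hc _ hy, mul_assoc y, h2, mul_one] at h
  inv_mem' := by
    rintro x (hx | hx)
    · exact .inl (inv_mem hx)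
    · refine .inr ?_
      have h : x * s = s * x := mul_right_cancel (b := s) (by rw [hc _ hx, mul_assoc])
      rw [h, ← inv_mem_iff, mul_inv_rev, inv_eq_of_mul_eq_one_right h2] at hx
      exact hx

variable {h2 : s * s = 1} {hc : ∀ x ∈ H, x * s = s * x}

theorem mem_adj {x : Γ} : x ∈ adj H s h2 hc ↔ x ∈ H ∨ x * s ∈ H := Iff.rfl
theorem le_adj : H ≤ adj H s h2 hc := fun _ h => .inl h
theorem self_adj : s ∈ adj H s h2 hc := .inr (h2.symm ▸ one_mem _)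
theorem adj_le (h : H ≤ P) (hs : s ∈ P) : adj H s h2 hc ≤ P := fun _ hx =>
  hx.elim (fun a => h a) fun a => (mul_mem_cancel_right hs).1 (h a)

variable [Finite Γ]

theorem two_le (h : H ≤ P) (hs : s ∈ P) (n : s ∉ H) : 2 * Nat.card H ≤ Nat.card P := by
  obtain ⟨c, hc⟩ := card_dvd_of_le h
  have h1 : c ≠ 1 := fun e => n ((eq_of_le_of_card_ge h (by rw [hc, e, mul_one])).ge hs)
  have h0 : c ≠ 0 := fun e => (Nat.card_pos (α := P)).ne' (by rw [hc, e, mul_zero])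
  rw [hc, mul_comm]
  exact Nat.mul_le_mul_left _ (by omega)

theorem four_le (sq : ∀ x ∈ P, x * x = 1) (h : H ≤ P) (hs : s ∈ P) (ht : t ∈ P) (n1 : s ∉ H) (n2 : t ∉ H)
    (n3 : t * s ∉ H) : 4 * Nat.card H ≤ Nat.card P := by
  have h1 := two_le (le_adj (h2 := sq s hs) (hc := fun x hx => comm_of_sq sq (h hx) hs)) self_adj n1
  have h3 := two_le (adj_le (h2 := sq s hs) (hc := fun x hx => comm_of_sq sq (h hx) hs) h hs) ht fun a => a.elim n2 n3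
  omega

theorem card_mul (sq : ∀ x ∈ X, x * x = 1) (h : H ≤ X) (h' : P ≤ X) :
    Nat.card (H ⊔ P : Subgroup Γ) * Nat.card (H ⊓ P : Subgroup Γ) = Nat.card H * Nat.card P :=
  GT.card_sup_mul_card_inf_of_le_normalizer fun _ hx =>
    centralizer_le_normalizer _ fun _ hy => comm_of_sq sq (h' hy) (h hx)

/-- The abstract situation. -/
structure Ab (X X0 U : Subgroup Γ) (Q : Γ → Subgroup Γ) : Prop where
  sq : ∀ x ∈ X, x * x = 1
  sqU : ∀ u ∈ U, u * u = 1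
  le : X0 ≤ X
  card : Nat.card X ≤ 8 * Nat.card X0
  nt : ∀ u ∈ U, u ≠ 1 → ¬ X ≤ Q u
  pt : ∀ a ∈ X, a ∉ X0 → ∀ b ∈ X, ∃ u ∈ U, u ≠ 1 ∧ X0 ≤ Q u ∧ a ∈ Q u ∧ b ∈ Q u
  three : ∀ t ∈ X, t ∉ X0 → ∀ u1 ∈ U, ∀ u2 ∈ U, ∀ u3 ∈ U, u1 ≠ 1 → u2 ≠ 1 → u3 ≠ 1 → u1 ≠ u2 → t ∈ Q u1 → t ∈ Q u2 →
    t ∈ Q u3 → u3 = u1 ∨ u3 = u2 ∨ u3 = u1 * u2

variable {Q : Γ → Subgroup Γ} (h : Ab X X0 U Q)
include h

theorem Ab.four {u : Γ} (h0 : X0 ≤ Q u) (hs : s ∈ X) (ht : t ∈ X) (q1 : s ∈ Q u) (q2 : t ∈ Q u) (n1 : s ∉ X0) (n2 : t ∉ X0)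
    (n3 : t * s ∉ X0) : Nat.card X ≤ 2 * Nat.card ↥(X ⊓ Q u) := by
  have h1 := four_le (P := X ⊓ Q u) (fun x hx => h.sq x hx.1) (le_inf h.le h0) ⟨hs, q1⟩ ⟨ht, q2⟩ n1 n2 n3
  have := h.card
  omega

/-- A basis through `t` and the points of three planes through `t`. -/
theorem Ab.basis (ht : t ∈ X) (n : t ∉ X0) : 8 * Nat.card X0 ≤ Nat.card X ∧ ∃ u1 u2 u3 u4 : Γ,
    (∀ u ∈ [u1, u2, u3, u4], u ∈ U ∧ u ≠ 1 ∧ Nat.card X ≤ 2 * Nat.card ↥(X ⊓ Q u)) ∧ [u1, u2, u3, u4].Nodup ∧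
      t ∈ Q u1 ∧ t ∈ Q u2 ∧ t ∈ Q u3 := by
  obtain ⟨u0, m0, k0, a0, t0, -⟩ := h.pt t ht n 1 (one_mem _)
  obtain ⟨b, hb, b0⟩ := SetLike.not_le_iff_exists.1 (h.nt u0 m0 k0)
  obtain ⟨u1, m1, k1, a1, t1, b1⟩ := h.pt t ht n b hb
  obtain ⟨c, hc, c1⟩ := SetLike.not_le_iff_exists.1 (h.nt u1 m1 k1)
  obtain ⟨u2, m2, k2, a2, t2, c2⟩ := h.pt t ht n c hc
  obtain ⟨u3, m3, k3, a3, t3, c3⟩ := h.pt t ht n _ (mul_mem hb hc)
  have n1 : b ∉ X0 := fun e => b0 (a0 e)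
  have n2 : b * t ∉ X0 := fun e => b0 ((mul_mem_cancel_right t0).1 (a0 e))
  obtain ⟨u4, m4, k4, a4, b4, c4⟩ := h.pt b hb n1 c hc
  have top : ∀ P : Subgroup Γ, X0 ≤ P → t ∈ P → b ∈ P → c ∈ P → 8 * Nat.card X0 ≤ Nat.card ↥(X ⊓ P) := fun P p0 p1 p2 p3 => by
    have e1 := four_le (P := X ⊓ P ⊓ Q u1) (fun x hx => h.sq x hx.1.1) (le_inf (le_inf h.le p0) a1) ⟨⟨ht, p1⟩, t1⟩
      ⟨⟨hb, p2⟩, b1⟩ n n1 n2
    have e2 := two_le (inf_le_left : X ⊓ P ⊓ Q u1 ≤ X ⊓ P) ⟨hc, p3⟩ fun e => c1 e.2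
    omega
  have top' : ∀ u ∈ U, u ≠ 1 → X0 ≤ Q u → t ∈ Q u → b ∈ Q u → c ∉ Q u := fun u m k p0 p1 p2 p3 =>
    h.nt u m k (inf_eq_left.1 (eq_of_le_of_card_ge inf_le_left (h.card.trans (top _ p0 p1 p2 p3))))
  have n3 : ∀ x ∈ Q u1, x * c ∉ X0 := fun x hx e => c1 ((mul_mem_cancel_left hx).1 (a1 e))
  have n4 : c ∉ X0 := fun e => c1 (a1 e)
  refine ⟨by simpa using top ⊤ le_top trivial trivial trivial, u1, u2, u3, u4, ?_, ?_, t1, t2, t3⟩
  · simp only [List.forall_mem_cons, List.not_mem_nil, false_imp_iff, implies_true, and_true]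
    refine ⟨⟨m1, k1, h.four a1 ht hb t1 b1 n n1 n2⟩, ⟨m2, k2, h.four a2 ht hc t2 c2 n n4 ?_⟩,
      ⟨m3, k3, h.four a3 ht (mul_mem hb hc) t3 c3 n (n3 b b1) ?_⟩, m4, k4, h.four a4 hb hc b4 c4 n1 n4 ?_⟩
    · rw [comm_of_sq h.sq hc ht]; exact n3 t t1
    · rw [comm_of_sq h.sq (mul_mem hb hc) ht, ← mul_assoc]; exact n3 _ (mul_mem t1 b1)
    · rw [comm_of_sq h.sq hc hb]; exact n3 b b1
  · simp only [List.nodup_cons, List.mem_cons, List.not_mem_nil, or_false, not_or, not_false_eq_true, List.nodup_nil,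
      and_true]
    refine ⟨⟨?_, ?_, ?_⟩, ⟨?_, ?_⟩, ?_⟩ <;> rintro rfl
    exacts [c1 c2, c1 ((mul_mem_cancel_left b1).1 c3), c1 c4, top' _ m2 k2 a2 t2 ((mul_mem_cancel_right c2).1 c3) c2,
      top' _ m2 k2 a2 t2 b4 c2, top' _ m3 k3 a3 t3 b4 c4]

theorem Ab.main (ht : t ∈ X) (n : t ∉ X0) :
    ∃ G ≤ U, 8 ≤ Nat.card G ∧ ∀ u ∈ G, u ≠ 1 → Nat.card X ≤ 2 * Nat.card ↥(X ⊓ Q u) := by
  obtain ⟨h8, u1, u2, u3, u4, h1, h2, -⟩ := h.basis ht n
  let G : Subgroup Γ :=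
    { carrier := {u | u ∈ U ∧ (u ≠ 1 → Nat.card X ≤ 2 * Nat.card ↥(X ⊓ Q u))}
      one_mem' := ⟨one_mem _, fun e => absurd rfl e⟩
      inv_mem' := fun {u} hu => (inv_eq_of_mul_eq_one_right (h.sqU u hu.1)).symm ▸ hu
      mul_mem' := fun {u v} hu hv => ⟨mul_mem hu.1 hv.1, fun e => by
        rcases eq_or_ne u 1 with rfl | k
        · rw [one_mul] at e ⊢; exact hv.2 e
        rcases eq_or_ne v 1 with rfl | k'
        · rw [mul_one]; exact hu.2 k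
        have ne : u ≠ v := fun a => e (a ▸ h.sqU u hu.1)
        obtain ⟨s, hs, n'⟩ : ∃ s ∈ X ⊓ Q u ⊓ (X ⊓ Q v), s ∉ X0 := SetLike.not_le_iff_exists.1 fun a => by
          have e1 := card_mul h.sq (inf_le_left : X ⊓ Q u ≤ X) (inf_le_left : X ⊓ Q v ≤ X)
          have e2 := card_le_of_le (sup_le inf_le_left inf_le_left : X ⊓ Q u ⊔ X ⊓ Q v ≤ X)
          have e3 := card_le_of_le a
          have e4 := Nat.mul_le_mul (hu.2 k) (hv.2 k')
          have e5 := Nat.mul_le_mul e2 e3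
          have e6 := Nat.card_pos (α := X)
          have e7 := Nat.mul_le_mul_left (Nat.card X) h8
          nlinarith
        obtain ⟨-, v1, v2, v3, v4, k1, k2, t1, t2, t3⟩ := h.basis hs.1.1 n'
        have a1 := k1 v1 (by simp)
        have a2 := k1 v2 (by simp)
        have a3 := k1 v3 (by simp)
        simp only [List.nodup_cons, List.mem_cons, not_or] at k2
        have key := fun x hx x1 => h.three s hs.1.1 n' u hu.1 v hv.1 x hx k k' x1 ne hs.1.2 hs.2.2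
        rcases key v1 a1.1 a1.2.1 t1 with c | c | c <;> rcases key v2 a2.1 a2.2.1 t2 with a | a | a <;>
          rcases key v3 a3.1 a3.2.1 t3 with b | b | b <;>
          first
            | exact absurd (c.trans a.symm) k2.1.1
            | exact absurd (c.trans b.symm) k2.1.2.1
            | exact absurd (a.trans b.symm) k2.2.1.1
            | (rw [← c]; exact a1.2.2)
            | (rw [← a]; exact a2.2.2)
            | (rw [← b]; exact a3.2.2)⟩ }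
  refine ⟨G, fun u hu => hu.1, ?_, fun u hu => hu.2⟩
  classical
  have h3 : (1 :: [u1, u2, u3, u4]).Nodup := List.nodup_cons.2 ⟨fun a => (h1 _ a).2.1 rfl, h2⟩
  have h4 := Set.ncard_le_ncard (s := ((1 :: [u1, u2, u3, u4]).toFinset : Set Γ)) (t := G) fun x hx =>
    (List.mem_cons.1 (List.mem_toFinset.1 hx)).elim (fun a => a ▸ one_mem G) fun a => ⟨(h1 x a).1, fun _ => (h1 x a).2.2⟩
  rw [Set.ncard_coe_finset, List.toFinset_card_of_nodup h3, ← Nat.card_coe_set_eq, SetLike.coe_sort_coe] at h4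
  obtain ⟨k, hk⟩ := IsPGroup.exists_card_eq (p := 2) (G := G) fun x => ⟨1, Subtype.ext (by
    simpa [pow_two] using h.sqU x x.2.1)⟩
  rw [hk] at h4 ⊢
  refine (Nat.pow_le_pow_right two_pos (not_lt.1 fun a => ?_) : 2 ^ 3 ≤ 2 ^ k)
  have := Nat.pow_le_pow_right two_pos (Nat.le_of_lt_succ a)
  simp at h4
  omega

end

end B1c

open B1c

theorem B1.dich {w y : K} {A X : Subgroup K} (h : B1 A w y) (hw : w ∈ X)
    (hX : ∀ x ∈ X, x ∈ QQ w ∧ x * x = 1 ∧ Commute x y ∧ (x ∈ QQ y ∨ Oc y x)) :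
    (∃ u ∈ A ⊓ QQ w ⊓ QQ y, u ≠ 1 ∧ X ≤ QQ u) ∨ (8 * Nat.card ↥(X ⊓ QQ y) ≤ Nat.card X ∧
      ∃ G ≤ A ⊓ QQ w ⊓ QQ y, 8 ≤ Nat.card G ∧ ∀ u ∈ G, u ≠ 1 → Nat.card X ≤ 2 * Nat.card ↥(X ⊓ QQ u)) := by
  have := finite_K
  refine or_iff_not_imp_left.2 fun H => ?_
  have nt : ∀ u ∈ A ⊓ QQ w ⊓ QQ y, u ≠ 1 → ¬ X ≤ QQ u := fun u hu k e => H ⟨u, hu, k, e⟩
  have sq : ∀ x ∈ X, x * x = 1 := fun x hx => (hX x hx).2.1
  have y2 : y * y = 1 := (es_QQ h.yz).1.z_sq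
  have cA : ∀ x ∈ A, x * y = y * x := h.cen
  refine ⟨?_, ?_⟩
  · have c1 : ∀ x ∈ X ⊓ QQ y, x * w = w * x := fun x hx => comm_of_sq sq hx.1 hw
    have h1 : ∀ u ∈ A ⊓ QQ w ⊓ QQ y, u ≠ 1 → adj _ w (sq w hw) c1 ≤ X ⊓ QQ u := fun u hu k =>
      adj_le (fun x hx => ⟨hx.1, h.inf_le (h.mem_zc hu k) hu.1.2 hu.2 ⟨(hX x hx.1).1, hx.2⟩⟩)
        ⟨hw, QQ_symm h.zc (h.mem_zc hu k) hu.1.2⟩
    obtain ⟨u0, m0, k0⟩ := (A ⊓ QQ w ⊓ QQ y).bot_or_exists_ne_one.resolve_left fun e => by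
      have := h.card_ge
      rw [e, card_bot] at this
      omega
    obtain ⟨a, ha, a0⟩ := SetLike.not_le_iff_exists.1 (nt u0 m0 k0)
    obtain ⟨u, m, k, a1⟩ := h.ex_D (hX a ha).1 (sq a ha) (hX a ha).2.2.1
    obtain ⟨b, hb, b1⟩ := SetLike.not_le_iff_exists.1 (nt u m k)
    have e1 := two_le (le_adj (h2 := sq w hw) (hc := c1)) self_adj fun e => h.nQ' e.2
    have e2 := two_le (h1 u m k) ⟨ha, a1⟩ fun e => a0 (h1 u0 m0 k0 e).2
    have e3 := two_le (inf_le_left : X ⊓ QQ u ≤ X) hb fun e => b1 e.2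
    omega
  by_cases h0 : X ≤ adj A y y2 cA
  · refine ⟨_, le_rfl, le_trans (by norm_num) h.card_ge, fun u hu k => ?_⟩
    obtain ⟨a, ha, a0⟩ := SetLike.not_le_iff_exists.1 (nt u hu k)
    exact card_le_two_mul inf_le_left ha fun b hb => ((h.two_N hu k (h0 hb) (h0 ha)).elim
      (fun e => .inr ⟨hb, e⟩) fun e => .inl ⟨mul_mem hb ha, e.resolve_left a0⟩)
  obtain ⟨t, ht, n⟩ := SetLike.not_le_iff_exists.1 h0
  refine Ab.main (X0 := X ⊓ adj A y y2 cA) ⟨sq, fun u hu => h.ark.sq hu.1.1, inf_le_left, ?_, nt,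
    fun a ha n b hb => ?_, fun a ha n u1 m1 u2 m2 u3 m3 k1 k2 k3 ne s1 s2 s3 => h.three (hX a ha).1 (hX a ha).2.2.1
      (fun e => n ⟨ha, .inl e⟩) (fun e => n ⟨ha, .inr e⟩) m1 m2 m3 k1 k2 k3 ne (.of_mem s1) (.of_mem s2) (.of_mem s3)⟩
    ht fun e => n e.2
  · have c1 : ∀ x ∈ X, ∀ z ∈ adj A y y2 cA, x * z = z * x := fun x hx z hz =>
      ((adj_le (P := centralizer {x}) (fun a ha => mem_centralizer_singleton_iff.2
        (h.pp (hX x hx).1 (hX x hx).2.2.1 a ha)) (mem_centralizer_singleton_iff.2 (hX x hx).2.2.1.symm) hz) x rfl)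
    have s1 : ∀ z ∈ adj A y y2 cA, z * z = 1 := fun z hz => hz.elim h.ark.sq fun e => by
      have e1 := h.ark.sq e
      have e2 : z * y = y * z := mul_right_cancel (b := y) (by rw [cA _ e, mul_assoc])
      rwa [mul_assoc, ← mul_assoc y, ← e2, mul_assoc z y, y2, mul_one] at e1
    have n1 : X ≤ normalizer ((adj A y y2 cA ⊓ QQ w : Subgroup K) : Set K) := fun x hx =>
      centralizer_le_normalizer _ fun z hz => (c1 x hx z hz.1).symm
    have e1 := GT.card_sup_mul_card_inf_of_le_normalizer n1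
    have e2 := card_ab h.zc (H := X ⊔ adj A y y2 cA ⊓ QQ w) (sup_le (fun x hx => (hX x hx).1) inf_le_right) fun x hx => by
      rw [← SetLike.mem_coe, coe_mul_of_left_le_normalizer_right _ _ n1] at hx
      obtain ⟨a, ha, z, hz, rfl⟩ := hx
      rw [mul_assoc, ← mul_assoc z, ← c1 a ha z hz.1, mul_assoc, s1 z hz.1, mul_one, sq a ha]
    obtain ⟨a, ha, q⟩ := h.sg
    have e3 := two_le (inf_le_inf_right (QQ w) (le_adj (h2 := y2) (hc := cA))) (s := y * a)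
      ⟨.inr (by rwa [mul_assoc, cA a ha, ← mul_assoc, y2, one_mul]), q⟩
      fun e => h.nA ((mul_mem_cancel_right ha).1 e.1)
    rw [h.card_inf] at e3
    have e4 := card_le_of_le (inf_le_inf_left X (inf_le_left : adj A y y2 cA ⊓ QQ w ≤ _))
    have e5 := Nat.mul_le_mul e2 e4
    have e6 := Nat.mul_le_mul_left (Nat.card X) e3
    omega
  · have c1 : ∀ x ∈ X ⊓ adj A y y2 cA, x * a = a * x := fun x hx => comm_of_sq sq hx.1 ha
    have l1 : adj _ a (sq a ha) c1 ≤ X := adj_le inf_le_left ha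
    have c2 : ∀ x ∈ adj _ a (sq a ha) c1, x * b = b * x := fun x hx => comm_of_sq sq (l1 hx) hb
    have l2 : adj _ b (sq b hb) c2 ≤ X := adj_le l1 hb
    obtain ⟨u, m, k, hu⟩ := h.ex_pt (X := adj _ b (sq b hb) c2)
      (fun x hx => ⟨(hX x (l2 hx)).1, (hX x (l2 hx)).2.1, (hX x (l2 hx)).2.2.1⟩)
      ⟨a, b, le_adj self_adj, self_adj, by
        rintro x ((e | e) | e | e)
        exacts [⟨1, by simp, by rw [mul_one]; exact e.2⟩, ⟨a, by simp, e.2⟩, ⟨b, by simp, e.2⟩,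
          ⟨a * b, by simp, by rw [comm_of_sq sq ha hb, ← mul_assoc]; exact e.2⟩]⟩
    have k1 : ∀ x ∈ adj _ b (sq b hb) c2, x ∉ adj A y y2 cA → x ∈ QQ u := fun x hx n' =>
      h.mem_of_sg (hX x (l2 hx)).1 (hX x (l2 hx)).2.1 (hX x (l2 hx)).2.2.1 (fun e => n' (.inl e)) (fun e => n' (.inr e))
        (hX x (l2 hx)).2.2.2 m k (hu x hx)
    have k2 := k1 a (le_adj self_adj) fun e => n ⟨ha, e⟩
    have k3 : adj _ b (sq b hb) c2 ≤ QQ u := fun x hx => by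
      by_cases e : x ∈ adj A y y2 cA
      · exact (mul_mem_cancel_right k2).1 (k1 _ (mul_mem hx (le_adj self_adj))
          fun e' => n ⟨ha, (mul_mem_cancel_left e).1 e'⟩)
      · exact k1 x hx e
    exact ⟨u, m, k, (le_adj.trans le_adj).trans k3, k2, k3 self_adj⟩

end Cfsg.Agent.Gr.M2
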