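import Mathlib
import Cfsg.Agent.Gr.M2.ArkB

set_option autoImplicit false

namespace Cfsg.Agent.Gr.M2

open Subgroup Cfsg.Agent.Spor Cfsg.Agent.Gr.Rk Cfsg.Agent.Gr.Am

variable {u w x x1 x2 y : K} {A : Subgroup K}

namespace FF

theorem qL_of_sq {e : ZMod 2} {c : LL} (h : tq e c * tq e c = 1) : qL c = 0 :=
  (frK.inj ((frK.sq e c).symm.trans (h.trans frK.zero.symm))).1

theorem d4_sub {a b c : Cd} (h : D4 o0 (a + c)) (h' : D4 o0 (b + c)) : D4 o0 (a + b) := by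
  have := h.add h'
  rwa [add_add_add_comm, show c + c = 0 from funext fun _ => CharTwo.add_self_eq_zero _, add_zero] at this

/-- The swapped coordinates of `y`. -/
theorem swap (hy : y ∈ QQ (tq 0 v0)) (hc : y ∈ centralizer (AO o0 : Set K)) (hn : ¬ Sg (AO o0) zz y) :
    ∃ s e c, y = s * tq e c * s⁻¹ ∧ cj s (AO o0) = AO o0 ∧ c ∈ Fix (sgC o0) ∧ ¬ D4 o0 c.1 ∧
      (∀ f b, b ∈ Fix (sgC o0) → Commute (tq f b) y → D4 o0 b.1 ∨ D4 o0 (b.1 + c.1)) ∧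
      ∀ (α β : ZMod 2) (ψ : Cd), ψ ⬝ᵥ om = 0 → ∃ e f, s * tq e (α • om, ψ) * s⁻¹ = tq f (β • om, ψ) := by
  obtain ⟨s, hs, h1, h2, h3, h4⟩ := exists_swap
  have n : cj s (AO o0) = AO o0 := cj_eq_iff.2 ((lin_v0 1).pnt.le_norm hs)
  obtain ⟨y, rfl⟩ : ∃ y', y = s * y' * s⁻¹ := ⟨s⁻¹ * y * s, by group⟩
  rw [← h1, cj_mem_QQ, QQ_zz] at hy
  obtain ⟨e, c, rfl⟩ := hy
  rw [← n, cj_mem_cent, tq_cent_AO o0_oct] at hc
  rw [← n, ← h2, sg_cj, sg_std hc] at hn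
  refine ⟨s, e, c, rfl, n, hc, hn, fun f b hb k => ?_, h4⟩
  have := co_three o0_oct (fix_co o0_oct hb).2 (fix_co o0_oct hc).2
    (co_of_fix (fix_of_comm (h3 e c (fix_co o0_oct hc).1) k.symm) (fix_co o0_oct hb).1)
  exact this.imp_right fun k => k.resolve_left hn

theorem coord (q : x ∈ QQ zz) (c : x ∈ centralizer (AO o0 : Set K)) : ∃ f b, x = tq f b ∧ b ∈ Fix (sgC o0) := by
  obtain ⟨f, b, rfl⟩ := QQ_zz ▸ q
  exact ⟨f, b, rfl, (tq_cent_AO o0_oct).1 c⟩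

end FF

open FF

theorem F1 (h : Lin A w u) (hy : y ∈ QQ u) (hc : y ∈ centralizer (A : Set K)) (hn : ¬ Sg A w y)
    (q1 : x1 ∈ QQ w) (q2 : x2 ∈ QQ w) (c1 : x1 ∈ centralizer (A : Set K)) (c2 : x2 ∈ centralizer (A : Set K))
    (k1 : Commute x1 y) (k2 : Commute x2 y) : Sg A u x1 ∨ Sg A u x2 ∨ Sg A u (x1 * x2) := by
  obtain ⟨g, e1, e2, e3⟩ := h.std 0
  rw [← cj_mem_QQ g] at hy q1 q2
  rw [← cj_mem_cent (g := g)] at hc c1 c2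
  rw [← cj_comm (g := g)] at k1 k2
  simp only [← sg_cj (A := A) g, conj_mul' g x1, e1, e2, e3] at *
  obtain ⟨s, e, c, -, -, -, -, H, -⟩ := swap hy hc hn
  obtain ⟨f1, b1, h1, m1⟩ := coord q1 c1
  obtain ⟨f2, b2, h2, m2⟩ := coord q2 c2
  rw [h1] at k1
  rw [h2] at k2
  rw [h1, h2, frK.mul, sg_std m1, sg_std m2, sg_std (add_mem m1 m2)]
  exact (H _ _ m1 k1).imp_right fun a => (H _ _ m2 k2).imp_right (d4_sub a)

theorem F2 (h : Lin A w u) (hy : y ∈ QQ u) (hc : y ∈ centralizer (A : Set K)) (hn : ¬ Sg A w y) (sy : y * y = 1)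
    (q : x ∈ QQ w) (c : x ∈ centralizer (A : Set K)) (k : Commute x y) (sx : x * x = 1) :
    ∃ u', Pnt A u' ∧ Sg A u' x ∧ Sg A u' y := by
  obtain ⟨g, e1, e2, e3⟩ := h.std 0
  suffices ∃ u', Pnt (AO o0) u' ∧ Sg (AO o0) u' (g * x * g⁻¹) ∧ Sg (AO o0) u' (g * y * g⁻¹) by
    obtain ⟨u', h1, h2⟩ := this
    refine ⟨g⁻¹ * u' * g⁻¹⁻¹, by simpa only [← e1, cj_cj, inv_mul_cancel, cj_one] using h1.map g⁻¹, ?_⟩
    simp only [← sg_cj (A := A) g, e1]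
    simpa [mul_assoc] using h2
  rw [← cj_mem_QQ g] at hy q
  rw [← cj_mem_cent (g := g)] at hc c
  rw [← cj_comm (g := g)] at k
  replace sx : g * x * g⁻¹ * (g * x * g⁻¹) = 1 := by rw [← conj_mul', sx, mul_one, mul_inv_cancel]
  replace sy : g * y * g⁻¹ * (g * y * g⁻¹) = 1 := by rw [← conj_mul', sy, mul_one, mul_inv_cancel]
  simp only [← sg_cj (A := A) g, e1, e2, e3] at hy q hc c hn
  generalize g * y * g⁻¹ = y at *
  obtain ⟨s, e, a, rfl, n, ha, na, H, H'⟩ := swap hy hc hn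
  obtain ⟨f, b, h1, m⟩ := coord q c
  rw [h1] at k sx ⊢
  rcases H _ _ m k with d | d
  · exact ⟨_, (lin_v0 0).pnt, (sg_std m).2 d, .of_mem hy⟩
  obtain ⟨O, hO, dj, d'⟩ := ex_oct o0_oct (fix_co o0_oct ha).2 na
  rw [← conj_mul', conj_eq_one_iff] at sy
  obtain ⟨ε, hε, n1⟩ := ex_short o0_oct hO dj m (qL_of_sq sx) (d4_sub d (add_comm _ O ▸ d'))
  obtain ⟨ε', hε', n2⟩ := ex_short o0_oct hO dj ha (qL_of_sq sy) d'
  obtain ⟨p, hp, -⟩ := exists_pt (δ := wd O) [] (by rw [(Finset.mem_filter.1 hO).2]; decide)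
  obtain ⟨δ, w4, sub, rf, -⟩ := ex_special o0_oct dj hp hp hp
  obtain ⟨β, s1⟩ := clT_add_tet hO w4 sub hε
  obtain ⟨α, s2⟩ := clT_add_tet hO w4 sub hε'
  have ev := rf.perp (c := om) (.inr (by rw [wd_om, one_mul]))
  obtain ⟨e', f', e4⟩ := H' α β _ ev
  refine ⟨_, ⟨isArk_AO o0_oct, tq_mem_AO.2 ((v12_NO o0_oct (v12_smul β ev)).2 rf), (four_ZC w4 f' β).1⟩,
    sg_short (four_ZC w4 f' β).1 (clT_mem hO hε) s1 n1, ?_⟩
  rw [← e4, ← n, sg_cj]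
  exact sg_short (four_ZC w4 e' α).1 (clT_mem hO hε') s2 n2

end Cfsg.Agent.Gr.M2
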