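import Mathlib
import Cfsg.Agent.Gr.M2.ArkA
import Cfsg.Agent.S0028
import Cfsg.Agent.Loc.AmBasic

/-! The 2-local reduction and the padding to seven subgroups. -/

set_option autoImplicit false

namespace Cfsg.Agent.Gr.M2

open Subgroup Cfsg.Agent.Spor Cfsg.Agent.Gr.Rk Cfsg.Agent.Gr.Am

section Gen
variable {G G' : Type*} [Group G] [Group G']

theorem Loc.pg_of_sq {H : Subgroup G} (h : ∀ x ∈ H, x * x = 1) : IsPGroup 2 H := fun x =>
  ⟨1, Subtype.ext (by rw [pow_one, pow_two]; exact h x.1 x.2)⟩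

theorem Loc.ne_bot {H : Subgroup G} {x : G} (hx : x ∈ H) (h1 : x ≠ 1) : H ≠ ⊥ := fun e =>
  h1 (mem_bot.1 (e ▸ hx))

theorem Loc.tl_map (e : G ≃* G') {H : Subgroup G} (h : IsTwoLocal H) : IsTwoLocal (H.map e.toMonoidHom) := by
  obtain ⟨T, h1, h2, rfl⟩ := h
  exact ⟨T.map e.toMonoidHom, h1.map _, fun k => h2 ((map_eq_bot_iff_of_injective _ e.injective).1 k),
    map_equiv_normalizer_eq T e⟩

theorem Loc.map_map_symm (e : G ≃* G') (H : Subgroup G) : (H.map e.toMonoidHom).map e.symm.toMonoidHom = H := by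
  rw [map_map]
  have : e.symm.toMonoidHom.comp e.toMonoidHom = MonoidHom.id G := by ext x; simp
  rw [this, map_id]

theorem Loc.mtl_map (e : G ≃* G') {H : Subgroup G} (h : IsMaximalTwoLocal H) :
    IsMaximalTwoLocal (H.map e.toMonoidHom) := by
  refine ⟨Loc.tl_map e h.1, fun N hN hle => ?_⟩
  have := h.2 _ (Loc.tl_map e.symm hN) (by rw [← Loc.map_map_symm e H]; exact map_mono hle)
  rw [← this]
  exact (Loc.map_map_symm e.symm N).symm

theorem Loc.comm_of_norm {z q : G} (hz : z * z = 1) (h1 : z ≠ 1) (hq : q ∈ normalizer (zpowers z : Set G)) :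
    z * q = q * z := by
  rcases (mem_zpowers_iff_of_sq hz).1 ((mem_normalizer_iff.1 hq z).1 (mem_zpowers z)) with h | h
  · exact absurd (by simpa using h) h1
  · exact (mul_inv_eq_iff_eq_mul.1 h).symm

theorem Loc.norm_of_comm {z q : G} (h : z * q = q * z) : q ∈ normalizer (zpowers z : Set G) :=
  centralizer_le_normalizer _ (by
    rintro _ ⟨k, rfl⟩
    exact ((show Commute z q from h).zpow_left k).eq)

/-- The elements of order at most two in the centre. -/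
def Loc.om (P : Subgroup G) : Subgroup G where
  carrier := {x | x ∈ P ∧ x * x = 1 ∧ ∀ p ∈ P, Commute p x}
  one_mem' := ⟨P.one_mem, mul_one _, fun p _ => Commute.one_right p⟩
  mul_mem' {a b} ha hb := ⟨P.mul_mem ha.1 hb.1, by
    rw [(ha.2.2 b hb.1).mul_mul_mul_comm, ha.2.1, one_mul, hb.2.1], fun p hp => (ha.2.2 p hp).mul_right (hb.2.2 p hp)⟩
  inv_mem' {a} ha := ⟨P.inv_mem ha.1, by rw [← mul_inv_rev, ha.2.1, inv_one], fun p hp => (ha.2.2 p hp).inv_right⟩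

theorem Loc.om_ne [Finite G] {P : Subgroup G} (hP : IsPGroup 2 P) (h0 : P ≠ ⊥) : Loc.om P ≠ ⊥ := by
  have : Nontrivial P := (nontrivial_iff_ne_bot P).2 h0
  have := hP.center_nontrivial
  obtain ⟨n, hn⟩ := (hP.to_subgroup (center P)).exists_card_eq
  have h2 : 2 ∣ Nat.card (center P) := by
    rw [hn]
    refine dvd_pow_self 2 fun e => ?_
    rw [e, pow_zero] at hn
    exact absurd hn Finite.one_lt_card.ne'
  obtain ⟨x, hx⟩ := exists_prime_orderOf_dvd_card' 2 h2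
  obtain ⟨x1, x2⟩ := orderOf_eq_two_iff'.1 hx
  refine Loc.ne_bot (x := x.1.1) ⟨x.1.2, congrArg (fun y : center P => y.1.1) x2, fun p hp => ?_⟩
    fun e => x1 (Subtype.ext (Subtype.ext e))
  exact congrArg Subtype.val (mem_center_iff.1 x.2 ⟨p, hp⟩)

theorem Loc.om_norm (P : Subgroup G) : normalizer (P : Set G) ≤ normalizer (Loc.om P : Set G) :=
  Loc.Am.le_normalizer_of_cj fun g hg => by
    rintro _ ⟨x, hx, rfl⟩
    refine ⟨(mem_normalizer_iff.1 hg x).1 hx.1, ?_, fun p hp => ?_⟩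
    · change g * x * g⁻¹ * (g * x * g⁻¹) = 1
      rw [conj_mul, hx.2.1]; simp
    · have := hx.2.2 _ ((mem_normalizer_iff''.1 hg p).1 hp)
      change p * (g * x * g⁻¹) = g * x * g⁻¹ * p
      calc p * (g * x * g⁻¹) = g * (g⁻¹ * p * g * x) * g⁻¹ := by group
        _ = g * (x * (g⁻¹ * p * g)) * g⁻¹ := by rw [this.eq]
        _ = _ := by group

theorem Loc.cent_le [Finite G] {N Q : Subgroup G} {z : G} (hN : normalizer (pCoreOf 2 N : Set G) = N)
    (hz : z ∈ Loc.om (pCoreOf 2 N)) (hQ : Lg Q z) : centralizer (pCoreOf 2 N : Set G) ≤ pCoreOf 2 N := by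
  set P := pCoreOf 2 N with hP
  set D := centralizer (P : Set G) with hD
  have DN : D ≤ N := hN ▸ centralizer_le_normalizer _
  have ND : N ≤ normalizer (D : Set G) := Loc.Am.le_normalizer_centralizer hN.ge
  have DQ : D ≤ normalizer (Q : Set G) := fun d hd => hQ.mem_normalizer (hd z hz.1)
  have PQ : P ≤ normalizer (Q : Set G) := fun p hp => hQ.mem_normalizer (hz.2.2 p hp).eq.symm
  have k1 : Q ⊓ D ≤ P :=
    (Loc.Am.le_pCoreOf inf_le_right (Loc.Am.le_normalizer_inf DQ le_normalizer)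
      (hQ.aes.isPGroup.to_le inf_le_left)).trans (Loc.Am.pCoreOf_le_pCoreOf_of_normal DN ND)
  refine Loc.Am.le_pCoreOf DN ND ?_
  refine (IsPGroup.iff_card (p := 2)).2 ⟨_, Nat.eq_prime_pow_of_unique_prime_dvd Nat.card_pos.ne' fun {q} hq hd => ?_⟩
  by_contra ne
  have := Fact.mk hq
  obtain ⟨y, hy⟩ := exists_prime_orderOf_dvd_card' q hd
  have oy : orderOf y.1 = q := by rw [orderOf_coe, hy]
  have PY : P ≤ centralizer (zpowers y.1 : Set G) := by
    rintro p hp _ ⟨k, rfl⟩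
    exact ((show Commute p y.1 from y.2 p hp).zpow_right k).eq.symm
  have := S0028.result 2 P (zpowers y.1) Q (Loc.Am.pCoreOf_isPGroup 2 N)
    (by rw [Nat.card_zpowers, oy]; exact (Nat.coprime_primes hq Nat.prime_two).2 ne) hQ.aes.isPGroup PY PQ
    ((zpowers_le.2 y.2).trans DQ) (k1.trans PY)
  have h4 := hQ.aes.pow_four (hQ.centralizer_le (this (mem_zpowers _)))
  have h5 : q ∣ 2 ^ 2 := oy ▸ orderOf_dvd_of_pow_eq_one h4
  exact ne ((Nat.prime_dvd_prime_iff_eq hq Nat.prime_two).1 (hq.dvd_of_dvd_pow h5))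

end Gen

attribute [local irreducible] sgC csm tq act

theorem Loc.zz_ne : zz ≠ 1 := (es_QQ zz_mem_ZC).1.z_ne

theorem Loc.pg_QK {H : Subgroup K} (h : H ≤ QK) : IsPGroup 2 H :=
  (es_QQ zz_mem_ZC).1.isPGroup.to_le (QQ_zz ▸ h)

theorem Loc.lf_le (U : AddSubgroup LL) : frK.lf U ≤ QK := fun _ ⟨e, a, _, k⟩ => ⟨e, a, k⟩

theorem Loc.zz_AO (o : Cd) : zz ∈ AO o := tq_mem_AO.2 (zero_mem _)

theorem rep_ok (i : Fin 7) : IsPGroup 2 (Rep i) ∧ Rep i ≠ ⊥ := by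
  have t0Q : t0 ∈ QK := ⟨_, _, rfl⟩
  have hoa : oa ∈ Oct := Finset.mem_filter.2 ⟨Finset.mem_univ _, oab.1⟩
  fin_cases i
  · exact ⟨Loc.pg_QK (zpowers_le.2 t0Q), Loc.ne_bot (mem_zpowers t0) (DD_ne_one t0_mem)⟩
  · refine ⟨Loc.pg_QK ((closure_le _).2 ?_), Loc.ne_bot (subset_closure (Set.mem_insert _ _)) (DD_ne_one t0_mem)⟩
    rintro _ (rfl | rfl)
    exacts [t0Q, ⟨_, _, rfl⟩]
  · exact ⟨Loc.pg_QK (zpowers_le.2 ⟨_, _, rfl⟩), Loc.ne_bot (mem_zpowers zz) Loc.zz_ne⟩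
  · exact ⟨Loc.pg_QK (Loc.lf_le _), Loc.ne_bot (x := zz) (frK.mem_lf.2 (zero_mem T0S)) Loc.zz_ne⟩
  · exact ⟨Loc.pg_QK (Loc.lf_le _), Loc.ne_bot (x := zz) (frK.mem_lf.2 (zero_mem U3S)) Loc.zz_ne⟩
  · exact ⟨Loc.pg_of_sq (H := AO oa ⊓ AO ob ⊓ AO (oa + ob + om)) fun x hx => (isArk_AO hoa).sq hx.1.1,
      Loc.ne_bot (H := AO oa ⊓ AO ob ⊓ AO (oa + ob + om)) ⟨⟨Loc.zz_AO _, Loc.zz_AO _⟩, Loc.zz_AO _⟩ Loc.zz_ne⟩
  · exact ⟨Loc.pg_of_sq (H := AO o0) fun x hx => (isArk_AO o0_oct).sq hx, Loc.ne_bot (Loc.zz_AO o0) Loc.zz_ne⟩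

theorem Loc.good_of_eq {V : Subgroup K} (g : K) (i : Fin 7) (h : cj g V = Rep i) :
    Good (normalizer (V : Set K)) :=
  Good.of_cj g ⟨i, 1, by rw [cj_one, h]⟩

theorem good_pure {V : Subgroup K} (h0 : V ≠ ⊥) (sq : ∀ x ∈ V, x * x = 1) (h : ∀ x ∈ V, x ∉ ZC) :
    Good (normalizer (V : Set K)) := by
  have dd : ∀ x ∈ V, x ≠ 1 → x ∈ DD := fun x hx h1 => (ZC_or_DD (sq x hx) h1).resolve_left (h x hx)
  have cm : ∀ x ∈ V, ∀ y ∈ V, x * y = y * x := fun x hx y hy => by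
    rw [← inv_eq_self_of_sq (sq _ (V.mul_mem hx hy)), mul_inv_rev, inv_eq_self_of_sq (sq x hx),
      inv_eq_self_of_sq (sq y hy)]
  have ne1 : ∀ x ∈ V, ∀ y, x ≠ y → x * y ≠ 1 := fun x hx y ne e =>
    ne (by rw [← inv_eq_self_of_sq (sq x hx)]; exact inv_eq_of_mul_eq_one_right e)
  have l8 : ∀ x ∈ V, ∀ y ∈ V, x ≠ 1 → y ≠ 1 → x ≠ y → lm x y = 1 / 8 := fun x hx y hy x1 y1 ne => by
    rcases lm_of_comm (dd x hx x1) (dd y hy y1) (cm x hx y hy) with k | k | k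
    · exact absurd (eq_of_lm (dd x hx x1) (dd y hy y1) k) ne
    · exact k
    · exact absurd (dd _ (V.mul_mem hx hy) (ne1 x hx y ne)) (O2_mul_not_mem (dd x hx x1) ⟨dd y hy y1, k⟩)
  obtain ⟨⟨t, ht⟩, t1⟩ := (ne_bot_iff_exists_ne_one.1 h0)
  have t1 : t ≠ 1 := fun e => t1 (Subtype.ext e)
  by_cases hs : ∀ x ∈ V, x = 1 ∨ x = t
  · obtain ⟨g, hg⟩ : ∃ g : K, g * t * g⁻¹ = t0 := isConj_iff.1 (IsConj.symm (dd t ht t1))
    refine Loc.good_of_eq g 0 (le_antisymm ?_ (zpowers_le.2 (hg ▸ cj_mem.2 ht)))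
    rintro _ ⟨x, hx, rfl⟩
    rcases hs x hx with rfl | rfl
    · rw [map_one]; exact one_mem _
    · exact (mem_zpowers_iff_of_sq (DD_mul_self t0_mem)).2 (Or.inr hg)
  push Not at hs
  obtain ⟨s, hs, s1, st⟩ := hs
  have so : s ∈ O1 t := ⟨dd s hs s1, l8 t ht s hs t1 s1 st.symm⟩
  obtain ⟨g, g1, g2⟩ := O1_std0 (dd t ht t1) so
  refine Loc.good_of_eq g 1 (le_antisymm ?_ ((closure_le _).2 ?_))
  · have m1 : t0 ∈ closure ({t0, s0} : Set K) := subset_closure (Set.mem_insert _ _)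
    have m2 : s0 ∈ closure ({t0, s0} : Set K) := subset_closure (Set.mem_insert_of_mem _ rfl)
    rintro _ ⟨r, hr, rfl⟩
    change g * r * g⁻¹ ∈ closure ({t0, s0} : Set K)
    by_cases r1 : r = 1
    · rw [r1, mul_one, mul_inv_cancel]; exact one_mem _
    by_cases r2 : t = r
    · rw [← r2, g1]; exact m1
    by_cases r3 : s = r
    · rw [← r3, g2]; exact m2
    by_cases r4 : t * s = r
    · rw [← r4, conj_mul', g1, g2]; exact mul_mem m1 m2
    have a1 := l8 s hs r hr s1 r1 r3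
    have a2 := l8 _ (V.mul_mem ht hs) r hr (ne1 t ht s st.symm) r1 r4
    have := O1_table (dd t ht t1) so ⟨dd r hr r1, l8 t ht r hr t1 r1 r2⟩
    rw [a1, a2] at this
    norm_num at this
  · rintro _ (rfl | rfl)
    · exact g1 ▸ cj_mem.2 ht
    · exact g2 ▸ cj_mem.2 hs

theorem exists_cx {N : Subgroup K} (hN : IsMaximalTwoLocal N) : ∃ V : Subgroup K, V ≠ ⊥ ∧
    N ≤ normalizer (V : Set K) ∧ (∀ x ∈ V, x * x = 1) ∧ ((∃ z ∈ V, z ∈ ZC) → ∃ P, Cx P V) := by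
  have := finite_K
  have pg := Loc.Am.pCoreOf_isPGroup 2 N
  have h0 : pCoreOf 2 N ≠ ⊥ := by
    obtain ⟨T, h1, h2, h3⟩ := hN.1
    exact fun e => h2 (le_bot_iff.1 (e ▸ Loc.Am.le_pCoreOf (h3 ▸ le_normalizer) h3.le h1))
  have hn : normalizer (pCoreOf 2 N : Set K) = N :=
    hN.2 _ ⟨_, pg, h0, rfl⟩ (Loc.Am.le_normalizer_pCoreOf 2 N)
  refine ⟨Loc.om (pCoreOf 2 N), Loc.om_ne pg h0, hn.ge.trans (Loc.om_norm _), fun x hx => hx.2.1, ?_⟩
  rintro ⟨z, hz, zc⟩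
  exact ⟨_, pg, fun x hx => hx.2.1, fun p hp x hx => hx.2.2 p hp, fun x x2 hx =>
    ⟨Loc.cent_le hn hz (es_QQ zc).2 fun p hp => (hx p hp).eq, x2, hx⟩⟩

theorem Loc.norm_inj {z w : K} (hz : z ∈ ZC) (hw : w ∈ ZC)
    (h : normalizer (zpowers z : Set K) = normalizer (zpowers w : Set K)) : z = w := by
  have k : ∀ q ∈ QQ z, w * q = q * w := fun q hq =>
    Loc.comm_of_norm (es_QQ hw).1.z_sq (es_QQ hw).1.z_ne (h ▸ Loc.norm_of_comm (QQ_comm hz hq).eq)
  exact (((es_QQ hz).1.center w ((es_QQ hz).2.centralizer_le fun q hq => (k q hq).symm) k).resolve_left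
    (es_QQ hw).1.z_ne).symm

theorem seven_of_good (H : ∀ N : Subgroup K, IsMaximalTwoLocal N → Good N) {G : Type*} [Group G] (e : G ≃* K) :
    ∃ S : Finset (Subgroup G), S.card = 7 ∧ (∀ H ∈ S, IsTwoLocal H) ∧ ∀ H : Subgroup G, IsMaximalTwoLocal H →
      ∃ H₀ ∈ S, ∃ g : G, H = H₀.map (MulAut.conj g).toMonoidHom := by
  classical
  have := finite_K
  obtain ⟨W, -, cW, hW⟩ := ex_five
  let φ : Subgroup K → Subgroup G := fun U => (normalizer (U : Set K)).map e.symm.toMonoidHom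
  let S0 : Finset (Subgroup G) := Finset.univ.image fun i => φ (Rep i)
  let Z : Finset K := (Set.toFinite (W : Set K)).toFinset.erase 1
  have mZ : ∀ z ∈ Z, z ∈ ZC := fun z hz =>
    hW z ((Set.Finite.mem_toFinset _).1 (Finset.mem_of_mem_erase hz)) (Finset.ne_of_mem_erase hz)
  have cZ : 31 ≤ Z.card := by
    have := Finset.pred_card_le_card_erase (s := (Set.toFinite (W : Set K)).toFinset) (a := 1)
    rw [← Set.ncard_eq_toFinset_card, ← Nat.card_coe_set_eq] at this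
    rwa [show Nat.card (W : Set K) = 32 from cW] at this
  have c1 : (Z.image fun z => φ (zpowers z)).card = Z.card :=
    Finset.card_image_of_injOn fun z hz w hw k =>
      Loc.norm_inj (mZ z hz) (mZ w hw) (map_injective e.symm.injective k)
  obtain ⟨S, s1, s2, s3⟩ := Finset.exists_subsuperset_card_eq (n := 7)
    (Finset.subset_union_left (s₁ := S0) (s₂ := Z.image fun z => φ (zpowers z)))
    (Finset.card_image_le.trans (by simp))
    (le_trans (by omega) (Finset.card_le_card Finset.subset_union_right))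
  refine ⟨S, s3, fun U hU => ?_, fun U hU => ?_⟩
  · rcases Finset.mem_union.1 (s2 hU) with k | k
    · obtain ⟨i, -, rfl⟩ := Finset.mem_image.1 k
      exact Loc.tl_map _ ⟨_, (rep_ok i).1, (rep_ok i).2, rfl⟩
    · obtain ⟨z, hz, rfl⟩ := Finset.mem_image.1 k
      have es := (es_QQ (mZ z hz)).1
      exact Loc.tl_map _ ⟨_, es.isPGroup.to_le (zpowers_le.2 es.z_mem), Loc.ne_bot (mem_zpowers z) es.z_ne, rfl⟩
  · have hm := Loc.mtl_map e hU
    obtain ⟨i, g, k⟩ := H _ hm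
    have k2 := hm.2 _ ⟨_, (rep_ok i).1.map _, fun q => (rep_ok i).2
      ((map_eq_bot_iff_of_injective _ (MulAut.conj g).injective).1 q), rfl⟩ k
    refine ⟨φ (Rep i), s1 (Finset.mem_image_of_mem _ (Finset.mem_univ i)), e.symm g, ?_⟩
    rw [← Loc.map_map_symm e U, ← k2, ← map_equiv_normalizer_eq, map_map, map_map]
    congr 1
    ext x
    simp

end Cfsg.Agent.Gr.M2
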