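import Mathlib
import Cfsg.Agent.Gr.M2.Bas
import Cfsg.Agent.Gr.M2.GolA
import Cfsg.Agent.Gr.Rk.Up

/-! Maximal 2-local subgroups of `K`: the three types of commuting involutions. -/

set_option autoImplicit false

namespace Cfsg.Agent.Gr.M2

open Subgroup Cfsg.Agent.Spor Cfsg.Agent.Spor.Leech Cfsg.Agent.Gr.Rk Cfsg.Agent.Gr.Am

attribute [local irreducible] sgC cls twoC csm perm negOne pc tq act tau

namespace TriA

variable {d : Cd} {y : K} {e f : ZMod 2} {a : LL}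

theorem mul0 (hd : wt (wd d) = 12) (h : y ∈ QQ (tq f v0)) (ha : csm (sgC d) a = a) (hq : qL a = 0) :
    y * tq e a ∈ QQ (tq f v0) := mul_mem h (tq_mem_v0.2 (v12_of_fix hd ha hq))

theorem mul1 (hd : wt (wd d) = 12) (h : y ∈ QQ (tq f v0)) (k : (y, sgC d) ∈ GK) (ha : csm (sgC d) a = a)
    (hq : qL a = 1) : y * tq e a ∈ QQ (tq (f + 1) v0) := by
  obtain ⟨β, hβ, -⟩ := Am.exists_odd
  have p1 : pol β v0 = 1 := by
    rw [pol_comm]; exact (z2_cases _).resolve_left fun e => hβ (ev0_iff.2 e)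
  have h1 := (cj_mem_QQ (tq 0 β)).2 h
  rw [frK.conj, p1] at h1
  have k' : (y⁻¹, sgC d) ∈ GK := by
    have := GK.inv_mem k
    rwa [Prod.inv_mk, inv_eq_of_mul_eq_one_right (sgC_mul_self d)] at this
  obtain ⟨f1, e1⟩ := frK.comm_mem k' 0 β
  have e2 : y * tq e a = tq 0 β * y * (tq 0 β)⁻¹ * ((tq f1 (csm (sgC d) β + β))⁻¹ * tq e a) := by
    rw [← e1]; group
  rw [e2, frK.inv f1, frK.mul]
  refine mul0 hd h1 ?_ ?_
  · rw [csm_add, ha, csm_add, ← csm_mul, sgC_mul_self, csm_one, add_comm β]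
  · rw [qL_add, pol_comm, pol_fix ha, hq, qL_add, qL_csm, pol_comm, pol_sgC, q4_dod hd,
      (z2_cases _).resolve_left hβ, CharTwo.add_self_eq_zero]
    decide

theorem mulq (hd : wt (wd d) = 12) (h : y ∈ QQ (tq f v0)) (k : (y, sgC d) ∈ GK) (ha : csm (sgC d) a = a) :
    ∃ f', y * tq e a ∈ QQ (tq f' v0) := by
  rcases z2_cases (qL a) with hq | hq
  exacts [⟨_, mul0 hd h ha hq⟩, ⟨_, mul1 hd h k ha hq⟩]

theorem ex_u (hd : wt (wd d) = 12) (h2 : y * y = 1) (k : (y, sgC d) ∈ GK) : ∃ f, y ∈ QQ (tq f v0) := by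
  obtain ⟨s, -, s1, -, s2, -⟩ := exists_swap
  have k0 : (s * tq 0 (d, 0) * s⁻¹, sgC d) ∈ GK := s2 0 (d, 0) (by simp [Ev0])
  have h0 : s * tq 0 (d, 0) * s⁻¹ ∈ QQ (tq 0 v0) := by
    rw [← s1, cj_mem_QQ, QQ_zz]; exact ⟨_, _, rfl⟩
  have q0 : s * tq 0 (d, 0) * s⁻¹ * (s * tq 0 (d, 0) * s⁻¹) = 1 := by
    rw [conj_mul, frK.sq, show qL (d, 0) = 0 by simp [qL], tq_zero]; simp
  generalize s * tq 0 (d, 0) * s⁻¹ = y0 at k0 h0 q0
  obtain ⟨e, a, rfl⟩ := frK.eq_mul k0 k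
  obtain ⟨f, e1⟩ := frK.act _ _ k0 e a
  refine mulq hd h0 k0 (frK.inj (e1.symm.trans ((?_ : _ = (tq e a)⁻¹).trans (frK.inv e a)))).2
  rw [inv_eq_of_mul_eq_one_right q0, eq_inv_iff_mul_eq_one, mul_assoc, h2]

theorem mon (hd : wt (wd d) = 12) {γ : Co0}
    (h : γ * sgC d * γ⁻¹ = sgC d ∨ γ * sgC d * γ⁻¹ = negOne * sgC d) : γ ∈ Mon := by
  rcases h with h | h
  · exact mem_Mon_of_comm hd (mul_inv_eq_iff_eq_mul.1 h)
  · rw [← sgC_om, ← sgC_add, add_comm] at h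
    obtain ⟨σ, hσ⟩ := ex_pc_dod (c := d + om) (by have := wt_wd_add_om d; omega) hd
    have h1 := mon_conj 0 (d + om) σ
    rw [hσ, ← h] at h1
    have h2 := mem_Mon_of_comm hd (g := sgC 0 * perm σ * γ) (mul_inv_eq_iff_eq_mul.1 (Eq.trans (by group) h1))
    exact (mul_mem_cancel_left (mon_mem 0 σ)).1 h2

theorem dod (hd : wt (wd d) = 12) (h2 : y * y = 1) (k : (y, sgC d) ∈ GK) : TC zz y := by
  obtain ⟨f, hf⟩ := ex_u hd h2 k
  have v0ne : (v0 : LL) ≠ 0 := ZH.om_ne.1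
  refine ⟨tq f v0, tq_v0_ZC f, fun g g1 g2 => ?_, hf, fun x hx hc => ?_⟩
  · obtain ⟨γ, hγ⟩ := exists_GK.2 g1.symm.eq
    have h1 := conj_mem' hγ k
    rw [g2.eq, mul_inv_cancel_right] at h1
    obtain ⟨f', e1⟩ := frK.act _ _ hγ f v0
    rw [csm_v0 (mon hd (frK.eq_or k h1))] at e1
    by_cases e : f' = f
    · exact mul_inv_eq_iff_eq_mul.1 (e ▸ e1)
    exfalso
    have h3 := (cj_mem_QQ g).2 hf
    rw [g2.eq, mul_inv_cancel_right, e1, z2_ne e, ← tq_mul_zz] at h3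
    have h4 := mem_of_mul (tq_v0_ZC f) zz_mem_ZC (tq_mem_v0.2 t0_zero.v12) (fun e => v0ne (frK.inj e).2.symm) hf h3
    rw [QQ_zz] at h4
    obtain ⟨e, c, rfl⟩ := h4
    rcases sgC_pm.1 (frK.pm_of k) with h | h
    · rw [wt_wd_eq_zero.2 h] at hd; omega
    · rw [wt_wd_eq_24.2 h] at hd; omega
  · rw [QQ_zz] at hx
    obtain ⟨e, c, rfl⟩ := hx
    have h1 := fix_of_comm k hc.symm
    rcases z2_cases (qL c) with hq | hq
    · exact tq_mem_v0.2 (v12_of_fix hd h1 hq)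
    exfalso
    have h3 := (es_QQ (tq_v0_ZC (f + 1))).1.sq _ (mul1 (e := e) hd hf k h1 hq)
    rw [hc.mul_mul_mul_comm, h2, one_mul, frK.sq, hq] at h3
    rcases h3 with h3 | h3
    · exact frK.z_ne h3
    · exact v0ne (frK.inj h3).2.symm

theorem oct (hd : wt (wd d) = 8) (k : (y, sgC d) ∈ GK) : Oc zz y := by
  obtain ⟨σ, hσ⟩ := ex_pc_oct (mem_Oct.2 hd) o0_oct
  obtain ⟨c, hc⟩ := frK.surj (sgC 0 * perm σ)
  have h1 := conj_mem' hc k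
  rw [mon_conj, hσ] at h1
  exact ⟨c, mul_inv_eq_iff_eq_mul.2 (exists_GK.1 ⟨_, hc⟩).symm, h1⟩

theorem std (h2 : y * y = 1) (k : (y, sgC d) ∈ GK) : y ∈ QQ zz ∨ TC zz y ∨ Oc zz y := by
  rcases wt_wd d with h | h | h | h | h
  · exact .inl (QQ_zz ▸ frK.ker' k (sgC_pm.2 (.inl (wt_wd_eq_zero.1 h))))
  · exact .inr (.inr (oct h k))
  · exact .inr (.inl (dod h h2 k))
  · have h1 := frK.mem_neg k
    rw [← sgC_om, ← sgC_add, add_comm] at h1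
    exact .inr (.inr (oct (by have := wt_wd_add_om d; omega) h1))
  · exact .inl (QQ_zz ▸ frK.ker' k (sgC_pm.2 (.inr (wt_wd_eq_24.1 h))))

theorem back {w : K} (g : K) (h : g * y * g⁻¹ ∈ QQ (g * w * g⁻¹) ∨ TC (g * w * g⁻¹) (g * y * g⁻¹) ∨
    Oc (g * w * g⁻¹) (g * y * g⁻¹)) : y ∈ QQ w ∨ TC w y ∨ Oc w y := by
  rcases h with h | h | h
  · exact .inl ((cj_mem_QQ g).1 h)
  · exact .inr (.inl (by simpa only [ZH.cj_inv] using h.map g⁻¹))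
  · exact .inr (.inr (by simpa only [ZH.cj_inv] using h.map g⁻¹))

theorem at_zz (h2 : y * y = 1) (hc : Commute zz y) : y ∈ QQ zz ∨ TC zz y ∨ Oc zz y := by
  obtain ⟨γ, hγ⟩ := exists_GK.2 hc.eq
  have h1 : ((1 : K), γ * γ) ∈ GK := h2 ▸ GK.mul_mem hγ hγ
  rcases frK.pm_of_one h1 with h | h
  · obtain ⟨k, d, e⟩ := exists_conj_sgC h
    obtain ⟨c, hk⟩ := frK.surj k
    refine back c ?_
    rw [mul_inv_eq_iff_eq_mul.2 (exists_GK.1 ⟨_, hk⟩).symm]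
    exact std (by rw [conj_mul, h2]; simp) (e ▸ conj_mem' hk hγ)
  · obtain ⟨ct, rfl, rfl⟩ := mem_GK.1 hγ
    exact absurd h2 (no_lift h)

end TriA

theorem tri {w y : K} (hw : w ∈ ZC) (h2 : y * y = 1) (hc : Commute w y) : y ∈ QQ w ∨ TC w y ∨ Oc w y := by
  obtain ⟨g, hg⟩ := mem_ZC.1 hw
  refine TriA.back g ?_
  rw [hg]
  exact TriA.at_zz (by rw [conj_mul, h2]; simp) (hg ▸ cj_comm.2 hc)

end Cfsg.Agent.Gr.M2
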