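import Mathlib
import Cfsg.Agent.Gr.M2.Tri
import Cfsg.Agent.Gr.M2.B1c
import Cfsg.Agent.ZD.Defs
import Cfsg.Agent.Loc.CardProd

/-! Two non-orthogonal points of `Gam V` lie in an ark. -/

set_option autoImplicit false

namespace Cfsg.Agent.Gr.M2

open Subgroup Cfsg.Agent.Spor Cfsg.Agent.Gr.Rk Cfsg.Agent.Gr.Am

variable {P V T X : Subgroup K} {w y : K}

namespace MainA

theorem zsq {z : K} (hz : z ∈ ZC) : z * z = 1 := (es_QQ hz).1.z_sq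

theorem card_lt {H U : Subgroup K} (h : H ≤ U) {x : K} (hx : x ∈ U) (hn : x ∉ H) :
    Nat.card H < Nat.card U := by
  haveI := finite_K
  refine lt_of_le_of_ne (Subgroup.card_le_of_le h) fun e => hn ?_
  rw [Subgroup.eq_of_le_of_card_ge h e.ge]
  exact hx

theorem odd_sdiff {H : Subgroup K} {x : K} (hx : x ∈ H) (h1 : x ≠ 1) (h2 : x * x = 1) :
    Odd ((H : Set K) \ {1}).ncard := by
  haveI := finite_K
  haveI : Fact (Nat.Prime 2) := ⟨Nat.prime_two⟩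
  have ho : orderOf x = 2 := orderOf_eq_prime (by rw [pow_two, h2]) h1
  have hd : 2 ∣ Nat.card H := ho ▸ Subgroup.orderOf_dvd_natCard H hx
  have hp : 0 < Nat.card H := Nat.card_pos
  have e : (H : Set K).ncard = Nat.card H := (Nat.card_coe_set_eq (H : Set K)).symm
  rw [Set.ncard_diff_singleton_of_mem (show (1 : K) ∈ (H : Set K) from H.one_mem), e]
  obtain ⟨k, hk⟩ := hd
  exact ⟨k - 1, by omega⟩

theorem mem_U {A : Subgroup K} (h : B1 A w y) {u : K} :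
    u ∈ A ⊓ QQ w ⊓ QQ y ↔ u = 1 ∨ u ∈ ZC ∧ u ∈ QQ w ∧ u ∈ QQ y := by
  constructor
  · intro hu
    by_cases h1 : u = 1
    · exact Or.inl h1
    · exact Or.inr ⟨h.mem_zc hu h1, hu.1.2, hu.2⟩
  · rintro (rfl | ⟨a, b, c⟩)
    · exact one_mem _
    · exact ⟨⟨h.zc_mem a b c, b⟩, c⟩

/-- The points of `U0` whose extraspecial group contains `X`. -/
def TT {A : Subgroup K} (h : B1 A w y) (X : Subgroup K) : Subgroup K where
  carrier := {t | t ∈ A ⊓ QQ w ⊓ QQ y ∧ (t = 1 ∨ X ≤ QQ t)}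
  one_mem' := ⟨one_mem _, Or.inl rfl⟩
  mul_mem' := by
    rintro a b ⟨ha, h1⟩ ⟨hb, h2⟩
    refine ⟨mul_mem ha hb, ?_⟩
    by_cases a1 : a = 1
    · rw [a1, one_mul]; exact h2
    by_cases b1 : b = 1
    · rw [b1, mul_one]; exact h1
    have za := h.mem_zc ha a1
    have zb := h.mem_zc hb b1
    by_cases e : b = a
    · rw [e]; exact Or.inl (zsq za)
    · exact Or.inr ((le_inf (h1.resolve_left a1) (h2.resolve_left b1)).trans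
        (inf_le_mul za zb (h.inf_le za ha.1.2 ha.2 ⟨hb.1.2, hb.2⟩) e))
  inv_mem' := by
    rintro a ⟨ha, h1⟩
    refine ⟨inv_mem ha, ?_⟩
    by_cases a1 : a = 1
    · exact Or.inl (by rw [a1, inv_one])
    · rw [inv_eq_of_mul_eq_one_right (zsq (h.mem_zc ha a1))]
      exact h1

end MainA

open MainA

namespace Cx

theorem comm (h : Cx P V) {x y : K} (hx : x ∈ V) (hy : y ∈ V) : Commute x y := by
  have e1 := inv_eq_of_mul_eq_one_right (h.sq x hx)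
  have e2 := inv_eq_of_mul_eq_one_right (h.sq y hy)
  have e3 := inv_eq_of_mul_eq_one_right (h.sq _ (mul_mem hx hy))
  rw [mul_inv_rev, e1, e2] at e3
  exact e3.symm

theorem fixed (h : Cx P V) {Ω : Set K} (ho : Odd Ω.ncard) (sq : ∀ x ∈ Ω, x * x = 1)
    (inv : ∀ p ∈ P, ∀ x ∈ Ω, p * x * p⁻¹ ∈ Ω) : ∃ x ∈ Ω, x ∈ V := by
  haveI := finite_K
  obtain ⟨s, hs, hc⟩ := ZD.exists_commute_of_odd h.pg inv ho
  exact ⟨s, hs, h.clo s (sq s hs) hc⟩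

theorem bound (h : Cx P V) (hw : w ∈ Gam V) (hT : T ≠ ⊥) (zc : ∀ u ∈ T, u ≠ 1 → u ∈ ZC ∧ X ≤ QQ u)
    (inv : ∀ p ∈ P, ∀ x ∈ T, p * x * p⁻¹ ∈ T) (hX : X ≤ V) : Nat.card X ≤ Nat.card ↥(V ⊓ QQ w) := by
  haveI := finite_K
  obtain ⟨⟨t, ht⟩, t1⟩ := Subgroup.ne_bot_iff_exists_ne_one.1 hT
  have t1' : t ≠ 1 := fun e => t1 (Subtype.ext e)
  obtain ⟨u, ⟨hu, u1⟩, hV⟩ := h.fixed (odd_sdiff ht t1' (zsq (zc t ht t1').1))
    (fun x hx => zsq (zc x hx.1 hx.2).1)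
    (fun p hp x hx => ⟨inv p hp x hx.1, fun e => hx.2 (by
      have e' : p * x * p⁻¹ = 1 := e
      exact conj_eq_one_iff.1 e')⟩)
  obtain ⟨a, b⟩ := zc u hu u1
  exact (Subgroup.card_le_of_le (le_inf hX b)).trans (hw.2.2 u hV a)

theorem oc (h : Cx P V) (hw : w ∈ Gam V) (hy : y ∈ V) : y ∈ QQ w ∨ Oc w y := by
  by_cases hq : y ∈ QQ w
  · exact Or.inl hq
  rcases tri hw.2.1 (h.sq y hy) (h.comm hw.1 hy) with a | ⟨u, hu, h1, h2, h3⟩ | a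
  · exact Or.inl a
  · have hV : u ∈ V := h.clo u (zsq hu) fun p hp => h1 p (h.cen p hp w hw.1) (h.cen p hp y hy)
    have hl : Nat.card ↥(V ⊓ QQ w) < Nat.card ↥(V ⊓ QQ u) :=
      card_lt (fun x hx => ⟨hx.1, h3 x hx.2 (h.comm hx.1 hy)⟩) (x := y) ⟨hy, h2⟩ fun e => hq e.2
    exact absurd (hw.2.2 u hV hu) (not_le.2 hl)
  · exact Or.inr a

theorem boundU (h : Cx P V) (hw : w ∈ Gam V) (hy : y ∈ V) {A : Subgroup K} (hb : B1 A w y) {u : K}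
    (hu : u ∈ A ⊓ QQ w ⊓ QQ y) (u1 : u ≠ 1) (hX : X ≤ V) (hq : X ≤ QQ u) :
    Nat.card X ≤ Nat.card ↥(V ⊓ QQ w) := by
  refine h.bound hw (T := TT hb X) ?_ ?_ ?_ hX
  · intro e
    have : u ∈ TT hb X := ⟨hu, Or.inr hq⟩
    rw [e] at this
    exact u1 (mem_bot.1 this)
  · rintro t ⟨ht, h1⟩ t1
    exact ⟨hb.mem_zc ht t1, h1.resolve_left t1⟩
  · rintro p hp t ⟨ht, h1⟩
    by_cases t1 : t = 1
    · rw [t1, mul_one, mul_inv_cancel]; exact one_mem _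
    refine ⟨(mem_U hb).2 (Or.inr ⟨(conj_mem_ZC p).2 (hb.mem_zc ht t1),
      conj_QQ (h.cen p hp w hw.1) ht.1.2, conj_QQ (h.cen p hp y hy) ht.2⟩), Or.inr fun v hv => ?_⟩
    have e : p * v * p⁻¹ = v := by rw [(h.cen p hp v (hX hv)).eq, mul_inv_cancel_right]
    rw [← e]
    exact (cj_mem_QQ p).2 (h1.resolve_left t1 hv)

theorem second (h : Cx P V) (hw : w ∈ Gam V) (hy : y ∈ Gam V) {A : Subgroup K} (hb : B1 A w y) :
    8 * Nat.card ↥(V ⊓ QQ w ⊓ QQ y) ≤ Nat.card ↥(V ⊓ QQ w) ∧ ∃ G ≤ A ⊓ QQ w ⊓ QQ y, 8 ≤ Nat.card G ∧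
      ∀ u ∈ G, u ≠ 1 → Nat.card ↥(V ⊓ QQ w) ≤ 2 * Nat.card ↥(V ⊓ QQ w ⊓ QQ u) := by
  refine (hb.dich (X := V ⊓ QQ w) ⟨hw.1, self_mem hw.2.1⟩ fun x hx =>
    ⟨hx.2, h.sq x hx.1, h.comm hx.1 hy.1, h.oc hy hx.1⟩).resolve_left ?_
  rintro ⟨u, hu, u1, hq⟩
  have h1 : Nat.card ↥(V ⊓ QQ w ⊔ zpowers y) ≤ Nat.card ↥(V ⊓ QQ w) :=
    h.boundU hw hy.1 hb hu u1 (sup_le inf_le_left (zpowers_le.2 hy.1))
      (sup_le hq (zpowers_le.2 (hb.lin hu u1).2))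
  exact absurd h1 (not_le.2 (card_lt le_sup_left (mem_sup_right (mem_zpowers y)) fun e => hb.nQ e.2))

theorem ark (h : Cx P V) (hw : w ∈ Gam V) (hy : y ∈ Gam V) (hn : y ∉ QQ w) : ∃ A, Pnt A w ∧ y ∈ A := by
  haveI := finite_K
  have hn' : w ∉ QQ y := fun e => hn (QQ_symm hy.2.1 hw.2.1 e)
  obtain ⟨A, hA, c1, s1, -⟩ := ((h.oc hw hy.1).resolve_left hn).ark (h.sq y hy.1)
  obtain ⟨A', hA', c2, s2, -⟩ := ((h.oc hy hw.1).resolve_left hn').ark (h.sq w hw.1)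
  by_cases m1 : y ∈ A
  · exact ⟨A, hA, m1⟩
  by_cases m2 : w ∈ A'
  · exact ⟨A', ⟨hA'.ark, m2, hw.2.1⟩, hA'.mem⟩
  exfalso
  have b1 : B1 A w y := ⟨hA, hy.2.1, c1, m1, hn, s1⟩
  have b2 : B1 A' y w := ⟨hA', hw.2.1, c2, m2, hn', s2⟩
  obtain ⟨k1, G, hG, g8, g2⟩ := h.second hw hy b1
  obtain ⟨-, G', hG', g8', g2'⟩ := h.second hy hw b2
  have hG'' : G' ≤ A ⊓ QQ w ⊓ QQ y := fun u hu => by
    rcases (mem_U b2).1 (hG' hu) with e | ⟨a, b, c⟩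
    · exact (mem_U b1).2 (Or.inl e)
    · exact (mem_U b1).2 (Or.inr ⟨a, c, b⟩)
  have e1 := Loc.card_mul_card_le_card_sup_mul_card_inf G G'
  have e2 : Nat.card ↥(G ⊔ G') ≤ 32 := (Subgroup.card_le_of_le (sup_le hG hG'')).trans b1.card_le
  have hne : G ⊓ G' ≠ ⊥ := by
    intro e
    rw [e, card_bot] at e1
    nlinarith
  obtain ⟨⟨u, hu⟩, u1⟩ := Subgroup.ne_bot_iff_exists_ne_one.1 hne
  have u1' : u ≠ 1 := fun e => u1 (Subtype.ext e)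
  have a1 := g2 u hu.1 u1'
  have a2 := g2' u hu.2 u1'
  have em : Nat.card ↥(V ⊓ QQ y) = Nat.card ↥(V ⊓ QQ w) :=
    le_antisymm (hw.2.2 y hy.1 hy.2.1) (hy.2.2 w hw.1 hw.2.1)
  rw [em] at a2
  have a3 := Loc.card_mul_card_le_card_sup_mul_card_inf (V ⊓ QQ w ⊓ QQ u) (V ⊓ QQ y ⊓ QQ u)
  have a4 : Nat.card ↥(V ⊓ QQ w ⊓ QQ u ⊔ V ⊓ QQ y ⊓ QQ u) ≤ Nat.card ↥(V ⊓ QQ w) :=
    h.boundU hw hy.1 b1 (hG hu.1) u1'
      (sup_le (inf_le_left.trans inf_le_left) (inf_le_left.trans inf_le_left))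
      (sup_le inf_le_right inf_le_right)
  have a5 : Nat.card ↥(V ⊓ QQ w ⊓ QQ u ⊓ (V ⊓ QQ y ⊓ QQ u)) ≤ Nat.card ↥(V ⊓ QQ w ⊓ QQ y) :=
    Subgroup.card_le_of_le fun x hx => ⟨hx.1.1, hx.2.1.2⟩
  have hp : 0 < Nat.card ↥(V ⊓ QQ w) := Nat.card_pos
  generalize Nat.card ↥(V ⊓ QQ w) = m at *
  generalize Nat.card ↥(V ⊓ QQ w ⊓ QQ u) = a at *
  generalize Nat.card ↥(V ⊓ QQ y ⊓ QQ u) = b at *
  generalize Nat.card ↥(V ⊓ QQ w ⊓ QQ y) = c at *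
  have a6 : a * b ≤ m * c := a3.trans (Nat.mul_le_mul a4 a5)
  have a7 : m * m ≤ 2 * a * (2 * b) := Nat.mul_le_mul a1 a2
  nlinarith

end Cx

end Cfsg.Agent.Gr.M2
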