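import Mathlib
import Cfsg.Agent.Gr.M2.MainA
import Cfsg.Agent.Gr.M2.F

/-! `V ∩ Q_w` lies in the ark. -/

set_option autoImplicit false

namespace Cfsg.Agent.Gr.M2

open Subgroup Cfsg.Agent.Spor Cfsg.Agent.Gr.Rk Cfsg.Agent.Gr.Am

namespace MainB

section General

variable {G : Type*} [Group G]

theorem two_mul_le [Finite G] {H L : Subgroup G} (hle : H ≤ L) {x : G} (hx : x ∈ L) (hn : x ∉ H) :
    2 * Nat.card H ≤ Nat.card L := by
  obtain ⟨k, hk⟩ := card_dvd_of_le hle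
  have h0 : 0 < Nat.card L := Nat.card_pos
  rcases k with _ | _ | k
  · omega
  · exact absurd ((eq_of_le_of_card_ge hle (by omega)).symm ▸ hx) hn
  · rw [hk]; nlinarith

theorem ex_adj {H : Subgroup G} {t : G} (ht : t * t = 1) (hc : ∀ x ∈ H, Commute x t) :
    ∃ L : Subgroup G, ∀ x, x ∈ L ↔ x * t ∈ H ∨ x ∈ H := by
  have e : ∀ x, x * t * t = x := fun x => by rw [mul_assoc, ht, mul_one]
  have c : ∀ x, x * t ∈ H → Commute x t := fun x hx => by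
    rw [← e x]; exact (hc _ hx).mul_left (Commute.refl t)
  refine ⟨{ carrier := {x | x * t ∈ H ∨ x ∈ H}, one_mem' := Or.inr (one_mem _)
            mul_mem' := ?_, inv_mem' := ?_ }, fun x => Iff.rfl⟩
  · rintro a b (ha | ha) (hb | hb)
    · refine Or.inr ?_
      have := mul_mem ha hb
      rwa [mul_assoc, ← mul_assoc t, ← (c b hb).eq, e] at this
    · refine Or.inl ?_
      have := mul_mem ha hb
      rwa [mul_assoc, ← (hc b hb).eq, ← mul_assoc] at this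
    · exact Or.inl (by rw [mul_assoc]; exact mul_mem ha hb)
    · exact Or.inr (mul_mem ha hb)
  · rintro a (ha | ha)
    · refine Or.inl ?_
      have := inv_mem ha
      rwa [(c a ha).eq, mul_inv_rev, inv_eq_of_mul_eq_one_right ht] at this
    · exact Or.inr (inv_mem ha)

theorem card_le_of_three {H L : Subgroup G} (hle : H ≤ L)
    (h : ∀ a ∈ L, ∀ b ∈ L, a ∈ H ∨ b ∈ H ∨ a * b ∈ H) [Finite G] : Nat.card L ≤ 2 * Nat.card H := by
  by_cases h1 : L ≤ H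
  · have := card_le_of_le h1
    omega
  · obtain ⟨x, hx, hn⟩ := SetLike.not_le_iff_exists.1 h1
    refine card_le_two_mul hle hx fun b hb => ?_
    rcases h b hb x hx with h2 | h2 | h2
    · exact Or.inr h2
    · exact absurd h2 hn
    · exact Or.inl h2

end General

variable {P V A : Subgroup K} {u w x y : K}

theorem le_cent (hA : IsArk A) (hx : x ∈ A) : x ∈ centralizer (A : Set K) :=
  mem_centralizer_iff.2 fun _ ha => (hA.comm ha hx).eq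

theorem sg_of_mul {a : K} (ha : a ∈ A) (h : Sg A u (x * a)) : Sg A u x := by
  obtain ⟨b, hb, h⟩ := h
  exact ⟨a * b, mul_mem ha hb, by rwa [← mul_assoc]⟩

theorem cent (h : Cx P V) (hA : Pnt A w) (hy : y ∈ V) (hm : y ∈ A) (hn : y ∉ QQ w)
    (hx : x ∈ V ⊓ QQ w) : x ∈ centralizer (A : Set K) :=
  (hA.cent_iff hm hn hx.2).2 (Or.inl (by rw [(h.comm hx.1 hy).eq, mul_inv_cancel_right]))

theorem half (hA : Pnt A w) (hy : y ∈ V) (hm : y ∈ A) (hn : y ∉ QQ w) :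
    Nat.card ↥(V ⊓ A) = 2 * Nat.card ↥(V ⊓ QQ w ⊓ A) := by
  have hle : V ⊓ QQ w ⊓ A ≤ V ⊓ A := fun x hx => ⟨hx.1.1, hx.2⟩
  refine le_antisymm (card_le_two_mul hle (a := y) ⟨hy, hm⟩ fun b hb => ?_)
    (two_mul_le hle (x := y) ⟨hy, hm⟩ fun h => hn h.1.2)
  by_cases h1 : b ∈ QQ w
  · exact Or.inr ⟨⟨hb.1, h1⟩, hb.2⟩
  · exact Or.inl ⟨⟨mul_mem hb.1 hy, hA.two hb.2 hm h1 hn⟩, mul_mem hb.2 hm⟩

/-- (I) -/
theorem mem_of_sg (hA : Pnt A w) (hA' : Pnt A y) (hn : y ∉ QQ w) (hx : x ∈ QQ y) (h : Sg A w x) :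
    x ∈ A := by
  obtain ⟨a, ha, h⟩ := h
  by_cases h1 : a ∈ QQ y
  · exact (mul_mem_cancel_right ha).1 (hA.inf_le hA' hn ⟨h, mul_mem hx h1⟩)
  · have h2 : a * w ∈ QQ y := hA'.two ha hA.mem h1 fun e => hn (QQ_symm hA'.zc hA.zc e)
    refine (mul_mem_cancel_right (mul_mem ha hA.mem)).1 (hA.inf_le hA' hn ⟨?_, mul_mem hx h2⟩)
    rw [← mul_assoc]
    exact mul_mem h (self_mem hA.zc)

/-- (U) -/
theorem ex_u (hA : Pnt A w) (hA' : Pnt A y) (hn : y ∉ QQ w) {x1 x2 : K} (q1 : x1 ∈ QQ y)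
    (q2 : x2 ∈ QQ y) (c1 : x1 ∈ centralizer (A : Set K)) (c2 : x2 ∈ centralizer (A : Set K))
    (s1 : x1 * x1 = 1) (s2 : x2 * x2 = 1) (hc : Commute x1 x2) :
    ∃ u, Lin A w u ∧ Sg A u x1 ∧ Sg A u x2 := by
  have hn' : w ∉ QQ y := fun e => hn (QQ_symm hA'.zc hA.zc e)
  obtain ⟨B1, h1⟩ := ex_adj (H := ⊥) s1 fun x hx => by rw [mem_bot.1 hx]; exact Commute.one_left _
  have i1 : x1⁻¹ = x1 := inv_eq_of_mul_eq_one_right s1
  have i2 : x2⁻¹ = x2 := inv_eq_of_mul_eq_one_right s2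
  have h1' : ∀ x ∈ B1, x = x1 ∨ x = 1 := fun x hx => by
    rwa [h1, mem_bot, mem_bot, mul_eq_one_iff_eq_inv, i1] at hx
  obtain ⟨B, h2⟩ := ex_adj (H := B1) s2 fun x hx => by
    rcases h1' x hx with rfl | rfl
    · exact hc
    · exact Commute.one_left _
  have h2' : ∀ x ∈ B, x = x1 * x2 ∨ x = x2 ∨ x = x1 ∨ x = 1 := fun x hx => by
    rcases (h2 x).1 hx with h | h
    · rcases h1' _ h with e | e
      · exact Or.inl (by rw [← e, mul_assoc, s2, mul_one])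
      · exact Or.inr (Or.inl (by rw [← i2, ← mul_eq_one_iff_eq_inv, e]))
    · exact Or.inr (Or.inr (h1' _ h))
  have m1 : x1 ∈ B1 := (h1 _).2 (Or.inl (by rw [s1]; exact one_mem _))
  have m2 : x2 ∈ B := (h2 _).2 (Or.inl (by rw [s2]; exact one_mem _))
  have k1 := card_le_two_mul (bot_le (a := B1)) m1 fun b hb => (h1 b).1 hb
  have k2 := card_le_two_mul (fun x hx => (h2 x).2 (Or.inr hx)) m2 fun b hb => (h2 b).1 hb
  rw [Subgroup.card_bot] at k1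
  obtain ⟨u, hu, hs⟩ := E1 (B := B) hA' (fun x hx => by
      rcases h2' x hx with rfl | rfl | rfl | rfl
      · exact ⟨mul_mem q1 q2, mul_mem c1 c2⟩
      · exact ⟨q2, c2⟩
      · exact ⟨q1, c1⟩
      · exact one_mem _)
    (fun x hx => by
      rcases h2' x hx with rfl | rfl | rfl | rfl
      · rw [mul_assoc, ← mul_assoc x2, ← hc.eq, mul_assoc, s2, mul_one, s1]
      · exact s2
      · exact s1
      · exact one_mul _)
    (by have : 0 < Nat.card ↥(B ⊓ A) := Nat.card_pos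
        omega)
  have t1 := hs x1 ((h2 _).2 (Or.inr m1))
  have t2 := hs x2 m2
  by_cases hq : u ∈ QQ w
  · exact ⟨u, ⟨hA, hu.mem', hu.zc', hq, fun e => hn' (e ▸ hu.adj)⟩, t1, t2⟩
  · have hu' := hu.mul
    exact ⟨y * u, ⟨hA, hu'.mem', hu'.zc', hA.two hA'.mem hu.mem' hn hq, fun e => hn' (e ▸ hu'.adj)⟩,
      hu.sg_mul (Sg.of_mem q1) t1, hu.sg_mul (Sg.of_mem q2) t2⟩

/-- The final count. -/
theorem fin (h : Cx P V) (hw : w ∈ Gam V) (hy : y ∈ V) (hn : y ∉ QQ w) (hA : Pnt A w) (hm : y ∈ A)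
    (hu : Pnt A u) (h1 : Nat.card ↥(V ⊓ A) ≤ Nat.card ↥(V ⊓ QQ w))
    (h4 : 4 * Nat.card ↥(V ⊓ QQ w) ≤ Nat.card ↥(V ⊓ SG A u)) : False := by
  have h0 : 0 < Nat.card ↥(V ⊓ QQ w) := Nat.card_pos
  have h2 : Nat.card ↥(V ⊓ SG A u) ≤ 2 * Nat.card ↥(V ⊓ SG A u ⊓ QQ u) :=
    card_le_of_three inf_le_left fun a ha b hb => by
      by_cases e1 : a ∈ QQ u
      · exact Or.inl ⟨ha, e1⟩
      by_cases e2 : b ∈ QQ u
      · exact Or.inr (Or.inl ⟨hb, e2⟩)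
      · exact Or.inr (Or.inr ⟨mul_mem ha hb, hu.sg_two ha.2 hb.2 e1 e2⟩)
  set Z := V ⊓ SG A u ⊓ QQ u
  have hZ : Z ≤ V := fun z hz => hz.1.1
  have nA : ¬ Z ≤ A := fun e => by
    have := card_le_of_le (le_inf hZ e)
    omega
  let T : Subgroup K :=
    { carrier := {t | t ∈ A ∧ (t = 1 ∨ (t ∈ ZC ∧ Z ≤ QQ t))}
      one_mem' := ⟨one_mem _, Or.inl rfl⟩
      mul_mem' := by
        rintro a b ⟨ha, ha'⟩ ⟨hb, hb'⟩
        refine ⟨mul_mem ha hb, ?_⟩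
        rcases ha' with rfl | ⟨za, qa⟩
        · rwa [one_mul]
        rcases hb' with rfl | ⟨zb, qb⟩
        · rw [mul_one]; exact Or.inr ⟨za, qa⟩
        by_cases e : b = a
        · exact Or.inl (by rw [e]; exact hA.ark.sq ha)
        have hq : b ∈ QQ a := by
          by_contra hq
          exact nA ((le_inf qa qb).trans (Pnt.inf_le ⟨hA.ark, ha, za⟩ ⟨hA.ark, hb, zb⟩ hq))
        exact Or.inr ⟨mul_ZC za zb hq e, (le_inf qa qb).trans (inf_le_mul za zb hq e)⟩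
      inv_mem' := by
        rintro a ha
        rwa [inv_eq_of_mul_eq_one_right (hA.ark.sq ha.1)] }
  have hT : T ≠ ⊥ := fun e => by
    have h5 : u ∈ T := ⟨hu.mem, Or.inr ⟨hu.zc, inf_le_right⟩⟩
    rw [e, mem_bot] at h5
    obtain ⟨g, hg⟩ := mem_ZC.1 hu.zc
    rw [h5, mul_one, mul_inv_cancel] at hg
    exact zz_ne_one hg.symm
  have := h.bound hw hT (X := Z) (fun t ht t1 => ht.2.resolve_left t1) (fun p hp t ht => by
    have f : ∀ v ∈ V, p * v * p⁻¹ = v := fun v hv => by rw [(h.cen p hp v hv).eq, mul_inv_cancel_right]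
    have e : A = cj p A := by
      have h5 := hA.map p
      rw [f w hw.1] at h5
      exact hA.uniq h5 hm (by rw [← f y hy]; exact cj_mem.2 hm) hn
    refine ⟨by rw [e]; exact cj_mem.2 ht.1, ?_⟩
    rcases ht.2 with rfl | ⟨zt, qt⟩
    · exact Or.inl (by rw [mul_one, mul_inv_cancel])
    · refine Or.inr ⟨(conj_mem_ZC p).2 zt, fun z hz => ?_⟩
      rw [← f z (hZ hz)]
      exact (cj_mem_QQ p).2 (qt hz)) hZ
  omega

end MainB

open MainB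

theorem Cx.le_ark {P V A : Subgroup K} {w y : K} (h : Cx P V) (hw : w ∈ Gam V) (hy : y ∈ Gam V) (hn : y ∉ QQ w)
    (hA : Pnt A w) (hm : y ∈ A) : V ⊓ QQ w ≤ A := by
  by_contra hX
  obtain ⟨x, hx, nx⟩ := SetLike.not_le_iff_exists.1 hX
  have hA' : Pnt A y := ⟨hA.ark, hm, hy.2.1⟩
  have hn' : w ∉ QQ y := fun e => hn (QQ_symm hA'.zc hA.zc e)
  have em : Nat.card ↥(V ⊓ QQ y) = Nat.card ↥(V ⊓ QQ w) :=
    le_antisymm (hw.2.2 y hy.1 hy.2.1) (hy.2.2 w hw.1 hw.2.1)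
  have e1 := half hA hy.1 hm hn
  have e2 := half hA' hw.1 hA.mem hn'
  have e3 := two_mul_le (inf_le_left : V ⊓ QQ w ⊓ A ≤ V ⊓ QQ w) hx fun e => nx e.2
  have cX : ∀ v ∈ V ⊓ QQ w, v ∈ centralizer (A : Set K) := fun v hv => cent h hA hy.1 hm hn hv
  have cX' : ∀ v ∈ V ⊓ QQ y, v ∈ centralizer (A : Set K) := fun v hv => cent h hA' hw.1 hA.mem hn' hv
  have ca : ∀ v ∈ centralizer (A : Set K), ∀ a ∈ A, Commute v a := fun v hv a ha =>
    (mem_centralizer_iff.1 hv a ha).symm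
  have ySG : ∀ u, y ∈ SG A u := fun u => ⟨le_cent hA.ark hm, Sg.of_ark hm⟩
  have k0 : ∀ u, 2 * Nat.card ↥(V ⊓ QQ w ⊓ SG A u) ≤ Nat.card ↥(V ⊓ SG A u ⊓ SG A w) := fun u =>
    two_mul_le (fun v hv => ⟨⟨hv.1.1, hv.2⟩, hv.2.1, Sg.of_mem hv.1.2⟩) (x := y)
      ⟨⟨hy.1, ySG u⟩, ySG w⟩ fun e => hn e.1.2
  have nw : ∀ v ∈ V ⊓ QQ y, v ∉ A → ¬ Sg A w v := fun v hv nv e => nv (mem_of_sg hA hA' hn hv.2 e)
  by_cases hc : ∀ a ∈ V ⊓ QQ y, ∀ b ∈ V ⊓ QQ y, a ∈ A ∨ b ∈ A ∨ a * b ∈ A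
  · have e4 := card_le_of_three (inf_le_left : V ⊓ QQ y ⊓ A ≤ V ⊓ QQ y) fun a ha b hb => by
      rcases hc a ha b hb with k | k | k
      · exact Or.inl ⟨ha, k⟩
      · exact Or.inr (Or.inl ⟨hb, k⟩)
      · exact Or.inr (Or.inr ⟨mul_mem ha hb, k⟩)
    obtain ⟨L, hL⟩ := ex_adj (H := V ⊓ QQ w ⊓ A) (h.sq x hx.1) fun v hv => h.comm hv.1.1 hx.1
    have hLX : L ≤ V ⊓ QQ w := fun v hv => by
      rcases (hL v).1 hv with k | k
      · exact (mul_mem_cancel_right hx).1 k.1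
      · exact k.1
    have e5 := two_mul_le (fun v hv => (hL v).2 (Or.inr hv)) (x := x)
      ((hL x).2 (Or.inl (by rw [h.sq x hx.1]; exact one_mem _))) fun e => nx e.2
    have eL : L = V ⊓ QQ w := eq_of_le_of_card_ge hLX (by omega)
    obtain ⟨x', hx', nx'⟩ : ∃ x' ∈ V ⊓ QQ y, x' ∉ A := by
      by_contra hno
      push Not at hno
      have k1 := card_le_of_le (show V ⊓ QQ y ≤ V ⊓ QQ y ⊓ A from fun v hv => ⟨hv, hno v hv⟩)
      have k2 : 0 < Nat.card ↥(V ⊓ QQ w) := Nat.card_pos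
      omega
    obtain ⟨u, hu, ⟨a, ha, s1⟩, -⟩ := ex_u hA hA' hn hx'.2 hx'.2 (cX' _ hx') (cX' _ hx')
      (h.sq _ hx'.1) (h.sq _ hx'.1) (Commute.refl _)
    obtain ⟨u', hu', t1, t2⟩ := F2 hu s1 (mul_mem (cX' _ hx') (le_cent hA.ark ha))
      (fun e => nw _ hx' nx' (sg_of_mul ha e))
      (by rw [mul_assoc, ← mul_assoc a, ← (ca _ (cX' _ hx') a ha).eq, mul_assoc, hA.ark.sq ha, mul_one,
        h.sq _ hx'.1])
      hx.2 (cX _ hx) ((h.comm hx.1 hx'.1).mul_right (ca _ (cX _ hx) a ha)) (h.sq _ hx.1)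
    have k1 : V ⊓ QQ w ≤ V ⊓ QQ w ⊓ SG A u' := fun v hv => by
      refine ⟨hv, ?_⟩
      rcases (hL v).1 (eL ▸ hv) with k | k
      · exact (mul_mem_cancel_right (show x ∈ SG A u' from ⟨cX _ hx, t1⟩)).1
          ⟨cX _ k.1, Sg.of_ark k.2⟩
      · exact ⟨cX _ hv, Sg.of_ark k.2⟩
    have k2 := card_le_of_le k1
    have k3 := k0 u'
    have k4 := two_mul_le (inf_le_left : V ⊓ SG A u' ⊓ SG A w ≤ V ⊓ SG A u') (x := x')
      ⟨hx'.1, cX' _ hx', sg_of_mul ha t2⟩ fun e => nw _ hx' nx' e.2.2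
    exact fin h hw hy.1 hn hA hm hu' (by omega) (by omega)
  · push Not at hc
    obtain ⟨x1, h1, x2, h2, n1, n2, n3⟩ := hc
    obtain ⟨u, hu, s1, s2⟩ := ex_u hA hA' hn h1.2 h2.2 (cX' _ h1) (cX' _ h2) (h.sq _ h1.1)
      (h.sq _ h2.1) (h.comm h1.1 h2.1)
    have m1 : x1 ∈ V ⊓ SG A u := ⟨h1.1, cX' _ h1, s1⟩
    have m2 : x2 ∈ V ⊓ SG A u := ⟨h2.1, cX' _ h2, s2⟩
    obtain ⟨a, ha, s1⟩ := s1
    have k1 := card_le_of_three (inf_le_left : V ⊓ QQ w ⊓ SG A u ≤ V ⊓ QQ w) fun b hb c hc => by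
      rcases F1 hu s1 (mul_mem (cX' _ h1) (le_cent hA.ark ha)) (fun e => nw _ h1 n1 (sg_of_mul ha e))
        hb.2 hc.2 (cX _ hb) (cX _ hc) ((h.comm hb.1 h1.1).mul_right (ca _ (cX _ hb) a ha))
        ((h.comm hc.1 h1.1).mul_right (ca _ (cX _ hc) a ha)) with k | k | k
      · exact Or.inl ⟨hb, cX _ hb, k⟩
      · exact Or.inr (Or.inl ⟨hc, cX _ hc, k⟩)
      · exact Or.inr (Or.inr ⟨mul_mem hb hc, cX _ (mul_mem hb hc), k⟩)
    obtain ⟨L, hL⟩ := ex_adj (H := V ⊓ SG A u ⊓ SG A w) (h.sq _ h1.1) fun v hv => h.comm hv.1.1 h1.1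
    have k2 := k0 u
    have k3 := two_mul_le (fun v hv => (hL v).2 (Or.inr hv)) (x := x1)
      ((hL x1).2 (Or.inl (by rw [h.sq _ h1.1]; exact one_mem _))) fun e => nw _ h1 n1 e.2.2
    have k4 := two_mul_le (show L ≤ V ⊓ SG A u from fun v hv => by
      rcases (hL v).1 hv with k | k
      · exact (mul_mem_cancel_right m1).1 k.1
      · exact k.1) m2 fun e => by
      rcases (hL _).1 e with k | k
      · rw [(h.comm h2.1 h1.1).eq] at k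
        exact nw _ (mul_mem h1 h2) n3 k.2.2
      · exact nw _ h2 n2 k.2.2
    exact fin h hw hy.1 hn hA hm hu.pnt (by omega) (by omega)

end Cfsg.Agent.Gr.M2
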