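import Mathlib
import Cfsg.Agent.Gr.M2.ArkB
import Cfsg.Agent.Gr.M2.Sex

/-! Maximal 2-local subgroups of `K`: singular subgroups. -/

set_option autoImplicit false

namespace Cfsg.Agent.Gr.M2

open Subgroup Cfsg.Agent.Spor Cfsg.Agent.Spor.Leech Cfsg.Agent.Gr.Rk Cfsg.Agent.Gr.Am

attribute [local irreducible] sgC cls twoC csm perm negOne pc tq act tau

theorem IsArk.good {A : Subgroup K} (h : IsArk A) : Good (normalizer (A : Set K)) :=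
  let ⟨g, e⟩ := h; ⟨6, g, by rw [e]; exact le_rfl⟩

namespace SingA

variable {U : Subgroup K} {e : ZMod 2} {c : LL} {o : Cd}

theorem good_of_eq (i : Fin 7) (h : U = Rep i) : Good (normalizer (U : Set K)) := ⟨i, 1, by rw [cj_one, h]⟩

/-- The cocode part. -/
def bar (U : Subgroup K) : AddSubgroup Cd where
  carrier := {ψ | ∃ e c, tq e c ∈ U ∧ c.2 = ψ}
  zero_mem' := ⟨0, 0, tq_zero ▸ one_mem U, rfl⟩
  add_mem' := by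
    rintro _ _ ⟨e, a, h, rfl⟩ ⟨f, b, k, rfl⟩
    exact ⟨_, _, frK.mul e f a b ▸ mul_mem h k, rfl⟩
  neg_mem' {a} h := (neg_eq_of_add_eq_zero_right (cd_add_self a)).symm ▸ h

/-- The standard position. -/
structure St (U : Subgroup K) : Prop where
  sing : Sing U
  z : zz ∈ U
  s : tq 1 v0 ∈ U

namespace St

theorem coord (h : St U) {x : K} (hx : x ∈ U) : ∃ e c, x = tq e c := by
  have := (h.sing zz h.z (ZH.ne_one zz_mem_ZC)).2 hx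
  rwa [QQ_zz] at this

theorem v12 (h : St U) (hx : tq e c ∈ U) : V12 c :=
  tq_mem_v0.1 ((h.sing _ h.s (ZH.ne_one (tq_v0_ZC 1))).2 hx)

theorem T0_le (h : St U) : frK.lf T0S ≤ U := fun x hx => by
  rcases frK.mem_V.1 hx with rfl | rfl | rfl | rfl
  exacts [one_mem _, h.z, h.s, (show tq 1 v0 * zz = tq 0 v0 from tq_mul_zz 1 v0) ▸ mul_mem h.s h.z]

theorem mem (h : St U) : tq e c ∈ U ↔ V12 c ∧ c.2 ∈ bar U := by
  refine ⟨fun hx => ⟨h.v12 hx, e, c, hx, rfl⟩, fun ⟨h1, f, b, h2, h3⟩ => ?_⟩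
  have h4 : (tq f b)⁻¹ * tq e c ∈ frK.lf T0S := by
    rw [frK.inv, frK.mul, frK.mem_lf]
    exact t0_iff.2 ⟨D0.add (h.v12 h2).1 h1.1, by rw [Prod.snd_add, h3, cd_add_self]⟩
  simpa using mul_mem h2 (h.T0_le h4)

theorem ev (h : St U) : ∀ ψ ∈ bar U, ψ ⬝ᵥ om = 0 := by
  rintro _ ⟨e, c, hx, rfl⟩
  exact (h.v12 hx).2

theorem nd (h : St U) : ∀ ψ ∈ bar U, ¬ Du ψ := by
  rintro _ ⟨e, c, hx, rfl⟩ hd
  have h1 : tq e c ∈ DD := tq_DD.2 (du_short (h.v12 hx) hd)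
  exact ZH.not_DD (h.sing _ hx (DD_ne_one h1)).1 h1

theorem pp (h : St U) : ∀ ψ ∈ bar U, ∀ φ ∈ bar U, Pp ψ φ := by
  intro ψ hψ φ hφ o ho δ hδ hs k
  obtain ⟨e, c, hx, k'⟩ := hφ
  subst k k'
  obtain ⟨z1, z2⟩ := four_ZC hδ 0 0
  generalize hv : (((0 : ZMod 2) • om, sy δ) : LL) = v at z1
  have hv2 : v.2 = sy δ := by rw [← hv]
  have hu : tq 0 v ∈ U := h.mem.2 ⟨hv ▸ v12_smul 0 (h.ev _ hψ), hv2 ▸ hψ⟩
  have h1 : tq e c ∈ QQ (tq 0 v) := (h.sing _ hu (ZH.ne_one z1)).2 hx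
  obtain ⟨ε, hε, h2⟩ := ex_clT ho hδ hs 0
  rw [hv] at h2
  have v0 : v ≠ 0 := fun k => z2 (by rw [← hv2, k]; rfl)
  have h3 : tq 0 (clT o ε) ∈ QQ (tq 0 v) := short_mem z1 (clT_mem ho hε) h2
  rw [← pol_clT (h.v12 hx) ho hε]
  exact pol_of_mem z1 v0 h1 h3

theorem le_AO (h : St U) (ho : o ∈ Oct) : U ≤ AO o ↔ ∀ ψ ∈ bar U, Rf o ψ := by
  constructor
  · rintro h1 _ ⟨e, c, hx, rfl⟩
    exact (v12_NO ho (h.v12 hx)).1 (tq_mem_AO.1 (h1 hx))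
  · intro h1 x hx
    obtain ⟨e, c, rfl⟩ := h.coord hx
    exact tq_mem_AO.2 ((v12_NO ho (h.v12 hx)).2 (h1 _ ⟨e, c, hx, rfl⟩))

theorem move (h : St U) (ho : o ∈ Oct) (h1 : U ≤ AO o) {g : K} (hg : g ∈ normalizer (U : Set K)) :
    ∃ o' ∈ Oct, U ≤ AO o' ∧ cj g (AO o) = AO o' := by
  have h2 : U ≤ cj g (AO o) := cj_eq_iff.2 hg ▸ map_mono h1
  obtain ⟨o', h3, h4⟩ := ((isArk_AO ho).map g).eq_AO (h2 h.z) (h2 h.s)
  exact ⟨o', h3, h4 ▸ h2, h4⟩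

theorem good1 (h : St U) (h0 : sy d0 ∈ bar U) : Good (normalizer (U : Set K)) := by
  by_cases h1 : ∀ ψ ∈ bar U, ψ = 0 ∨ ψ = sy d0
  · refine good_of_eq 4 (le_antisymm (fun x hx => ?_) ?_)
    · obtain ⟨e, c, rfl⟩ := h.coord hx
      exact frK.mem_lf.2 ⟨h.v12 hx, h1 _ ⟨e, c, hx, rfl⟩⟩
    · rintro _ ⟨e, c, hc, rfl⟩
      exact h.mem.2 ⟨hc.1, hc.2.elim (fun e => e ▸ zero_mem _) fun e => e ▸ h0⟩
  push Not at h1
  obtain ⟨φ, f1, f2, f3⟩ := h1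
  obtain ⟨o, ho, h2⟩ := ex_common (bar U) h0 h.ev h.nd h.pp
  have h3 := (h.le_AO ho).2 h2
  by_cases h4 : ∀ o' ∈ Oct, U ≤ AO o' → o' = o
  · refine (isArk_AO ho).good.mono fun g hg => ?_
    obtain ⟨o', a, b, e⟩ := h.move ho h3 hg
    exact cj_eq_iff.1 (h4 o' a b ▸ e)
  push Not at h4
  obtain ⟨o', ho', h5, ne⟩ := h4
  have dj : ∀ {a b}, a ∈ Oct → b ∈ Oct → a ≠ b → U ≤ AO a → U ≤ AO b → wd a * wd b = 0 := fun ha hb n x y =>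
    rf_disj ha hb n ((h.le_AO ha).1 x _ h0) ((h.le_AO hb).1 y _ h0) ((h.le_AO ha).1 x _ f1) ((h.le_AO hb).1 y _ f1)
      (four_ZC wt_d0 0 0).2 f2 f3.symm (h.nd _ h0) (h.nd _ f1)
  have d := dj ho ho' ne.symm h3 h5
  have ho'' := third_oct ho ho' d
  have h6 : U ≤ AO (o + o' + om) := (h.le_AO ho'').2 fun ψ hψ =>
    rf_third ho ho' d (h2 ψ hψ) ((h.le_AO ho').1 h5 ψ hψ)
  have h7 : ∀ H ∈ Oct, U ≤ AO H → AO o ⊓ AO o' ⊓ AO (o + o' + om) ≤ AO H := fun H hH x => by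
    by_cases e1 : H = o
    · exact e1 ▸ inf_le_left.trans inf_le_left
    by_cases e2 : H = o'
    · exact e2 ▸ inf_le_left.trans inf_le_right
    exact eq_third ho ho' hH d (dj hH ho e1 x h3) (dj hH ho' e2 x h5) ▸ inf_le_right
  obtain ⟨σ, s1, s2⟩ := ex_pc_pair ho ho' d
  obtain ⟨k, hk⟩ := frK.surj (sgC 0 * perm σ)
  have h8 : cj k (Rep 5) = AO o ⊓ AO o' ⊓ AO (o + o' + om) := by
    change cj k (AO oa ⊓ AO ob ⊓ AO (oa + ob + om)) = _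
    rw [cj_inf, cj_inf, cj_AO hk (mon_conj _ _ _), cj_AO hk (mon_conj _ _ _), cj_AO hk (mon_conj _ _ _), pc_add, pc_add,
      pc_om, s1, s2]
  refine ⟨5, k, fun g hg => ?_⟩
  rw [h8, ← cj_eq_iff]
  have := finite_K
  refine (eq_of_le_of_card_ge ?_ (card_cj _ _).le).symm
  have h9 : ∀ H ∈ Oct, U ≤ AO H → AO o ⊓ AO o' ⊓ AO (o + o' + om) ≤ cj g (AO H) := fun H hH x => by
    obtain ⟨H', a, b, e⟩ := h.move hH x hg
    exact e ▸ h7 H' a b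
  rw [cj_inf, cj_inf]
  exact le_inf (le_inf (h9 _ ho h3) (h9 _ ho' h5)) (h9 _ ho'' h6)

theorem good (h : St U) : Good (normalizer (U : Set K)) := by
  by_cases h1 : ∀ ψ ∈ bar U, ψ = 0
  · refine good_of_eq 3 (le_antisymm (fun x hx => ?_) h.T0_le)
    obtain ⟨e, c, rfl⟩ := h.coord hx
    exact frK.mem_lf.2 (t0_iff.2 ⟨(h.v12 hx).1, h1 _ ⟨e, c, hx, rfl⟩⟩)
  push Not at h1
  obtain ⟨_, ⟨e, c, hx, rfl⟩, h2⟩ := h1
  obtain ⟨δ, hδ, h3⟩ := ((coc_cases (h.v12 hx).2).resolve_left h2).resolve_left (h.nd _ ⟨e, c, hx, rfl⟩)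
  obtain ⟨σ, hσ⟩ := ex_pm_tet hδ
  obtain ⟨k, k1, k2⟩ := frK.exists_H0 (mon_mem 0 σ)
  obtain ⟨c1, c2⟩ := mem_H0K.1 k1
  have h4 : St (cj k U) := ⟨h.sing.map k, by
    rw [← mul_inv_eq_iff_eq_mul.2 c1.symm]; exact cj_mem.2 h.z, by
    rw [← (mul_inv_eq_iff_eq_mul.2 c2.symm : k * tq 1 v0 * k⁻¹ = tq 1 v0)]; exact cj_mem.2 h.s⟩
  obtain ⟨f, e1⟩ := frK.act _ _ k2 e c
  exact Good.of_cj k (h4.good1 ⟨f, _, e1 ▸ cj_mem.2 hx, hσ ▸ ((h.v12 hx).csm_mon h3 0 σ).2⟩)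

end St

end SingA

theorem Sing.good {U : Subgroup K} (h : Sing U) (hU : U ≠ ⊥) : Good (normalizer (U : Set K)) := by
  obtain ⟨⟨u, hu⟩, u1⟩ := ne_bot_iff_exists_ne_one.1 hU
  have u1' : u ≠ 1 := fun e => u1 (Subtype.ext e)
  obtain ⟨uz, uQ⟩ := h u hu u1'
  by_cases h1 : ∀ x ∈ U, x = 1 ∨ x = u
  · obtain ⟨g, hg⟩ := mem_ZC.1 uz
    have e : U = zpowers u := le_antisymm (fun x hx => (h1 x hx).elim (fun e => e ▸ one_mem _)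
      fun e => e ▸ mem_zpowers _) (zpowers_le.2 hu)
    refine Good.of_cj g (SingA.good_of_eq 2 ?_)
    rw [e, cj, MonoidHom.map_zpowers]
    exact congrArg zpowers hg
  push Not at h1
  obtain ⟨b, hb, b1, ne⟩ := h1
  obtain ⟨g, g1, g2⟩ := adj_std uz (h b hb b1).1 (uQ hb) ne 1
  exact Good.of_cj g (SingA.St.good ⟨h.map g, g1 ▸ cj_mem.2 hu, g2 ▸ cj_mem.2 hb⟩)

end Cfsg.Agent.Gr.M2
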