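import Mathlib
import Cfsg.Agent.Gr.M2.MainB
import Cfsg.Agent.Gr.M2.Sing
import Cfsg.Agent.Gr.M2.Loc

set_option autoImplicit false

namespace Cfsg.Agent.Gr.M2

open Subgroup Cfsg.Agent.Spor Cfsg.Agent.Gr.Rk Cfsg.Agent.Gr.Am

namespace MainC

variable {P V A A' : Subgroup K} {w w' y g : K}

theorem gam_cj (hg : g ∈ normalizer (V : Set K)) (hw : w ∈ Gam V) : g * w * g⁻¹ ∈ Gam V :=
  ⟨(mem_normalizer_iff.1 hg w).1 hw.1, (conj_mem_ZC g).2 hw.2.1, fun u hu zu => by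
    rw [QQ_cj, ← cj_eq_iff.2 hg, ← cj_inf, card_cj, cj_eq_iff.2 hg]
    exact hw.2.2 u hu zu⟩

theorem card_le (hA : Pnt A w') : Nat.card ↥(V ⊓ A) ≤ 2 * Nat.card ↥(V ⊓ A ⊓ QQ w') := by
  by_cases h : V ⊓ A ≤ QQ w'
  · rw [inf_eq_left.2 h]; omega
  obtain ⟨a, ha, hn⟩ := SetLike.not_le_iff_exists.1 h
  exact card_le_two_mul inf_le_left ha fun b hb => (em (b ∈ QQ w')).symm.imp
    (fun k => ⟨mul_mem hb ha, hA.two hb.2 ha.2 k hn⟩) fun k => ⟨hb, k⟩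

section Pair

variable (h : Cx P V) (hw : w ∈ Gam V) (hy : y ∈ Gam V) (hn : y ∉ QQ w) (hA : Pnt A w) (hm : y ∈ A)
include h hw hy hn hA hm

theorem card_ge : 2 * Nat.card ↥(V ⊓ QQ w) ≤ Nat.card ↥(V ⊓ A) := by
  have := finite_K
  have le : V ⊓ QQ w ≤ V ⊓ A := le_inf inf_le_left (h.le_ark hw hy hn hA hm)
  obtain ⟨k, e⟩ := card_dvd_of_le le
  have p : 0 < Nat.card ↥(V ⊓ A) := Nat.card_pos
  have : k ≠ 1 := fun k1 => hn ((eq_of_le_of_card_ge le (by rw [e, k1, mul_one])).ge ⟨hy.1, hm⟩).2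
  rw [e] at p ⊢
  rw [mul_comm]
  exact Nat.mul_le_mul_left _ (by have := Nat.pos_of_mul_pos_left p; omega)

theorem le_of_mem (hw' : w' ∈ Gam V) (m : w' ∈ A) : V ⊓ QQ w' ≤ A := by
  have := finite_K
  have h1 := card_ge h hw hy hn hA hm
  have h2 := card_le (V := V) ⟨hA.ark, m, hw'.2.1⟩
  have h3 := hw.2.2 w' hw'.1 hw'.2.1
  exact (eq_of_le_of_card_ge (inf_le_inf_right (QQ w') (inf_le_left : V ⊓ A ≤ V)) (by omega)).ge.trans
    (inf_le_left.trans inf_le_right)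

theorem uniq (hA' : IsArk A') (le : V ⊓ QQ w ≤ A') : A = A' := by
  have := finite_K
  have l := h.le_ark hw hy hn hA hm
  have hA2 : Pnt A y := ⟨hA.ark, hm, hy.2.1⟩
  obtain ⟨u, ⟨zu, uw, uy⟩, hu⟩ := h.fixed (hA.odd hA2 hn)
    (fun x hx => hA.ark.sq (hA.inf_le hA2 hn hx.2)) fun p hp x hx =>
      ⟨(conj_mem_ZC p).2 hx.1, conj_QQ (h.cen p hp w hw.1) hx.2.1, conj_QQ (h.cen p hp y hy.1) hx.2.2⟩
  obtain ⟨b, hb, nb⟩ : ∃ b ∈ V ⊓ A, b ∉ QQ u := SetLike.not_le_iff_exists.1 fun k => by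
    have h1 := card_ge h hw hy hn hA hm
    have h2 := card_le_of_le (le_inf inf_le_left k)
    have h3 := hw.2.2 u hu zu
    have p : 0 < Nat.card ↥(V ⊓ QQ w) := Nat.card_pos
    omega
  have key : ∀ b ∈ V ⊓ QQ w, b ∉ QQ u → A = A' := fun b hb nb =>
    Pnt.uniq ⟨hA.ark, l ⟨hu, uw⟩, zu⟩ ⟨hA', le ⟨hu, uw⟩, zu⟩ (l hb) (le hb) nb
  by_cases k : b ∈ QQ w
  · exact key b ⟨hb.1, k⟩ nb
  · exact key _ ⟨mul_mem hb.1 hy.1, hA.two hb.2 hm k hn⟩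
      fun e => nb ((mul_mem_cancel_right (QQ_symm hy.2.1 zu uy)).1 e)

end Pair

end MainC

open MainC

theorem Cx.good {P V : Subgroup K} (h : Cx P V) (hz : ∃ z ∈ V, z ∈ ZC) : Good (normalizer (V : Set K)) := by
  have := finite_K
  by_cases H : ∀ w ∈ Gam V, ∀ y ∈ Gam V, y ∈ QQ w
  · obtain ⟨w, hw, m⟩ := Set.exists_max_image {u | u ∈ V ∧ u ∈ ZC} (fun u => Nat.card ↥(V ⊓ QQ u))
      (Set.toFinite _) hz
    have step : ∀ u, (u = 1 ∨ u ∈ ZC ∧ Gam V ⊆ QQ u) → ∀ γ ∈ Gam V,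
        u * γ = 1 ∨ u * γ ∈ ZC ∧ Gam V ⊆ QQ (u * γ) := by
      rintro u (rfl | ⟨zu, hu⟩) γ hγ
      · exact .inr (by rw [one_mul]; exact ⟨hγ.2.1, H γ hγ⟩)
      by_cases e : γ = u
      · exact .inl (e ▸ h.sq γ hγ.1)
      · exact .inr ⟨mul_ZC zu hγ.2.1 (hu hγ) e, fun x hx => inf_le_mul zu hγ.2.1 (hu hγ) e ⟨hu hx, H γ hγ x hx⟩⟩
    have S : Sing (closure (Gam V)) := fun u hu h1 => by
      have : u = 1 ∨ u ∈ ZC ∧ Gam V ⊆ QQ u := by
        clear h1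
        induction hu using closure_induction_right with
        | one => exact .inl rfl
        | mul_right x _ γ hγ ih => exact step x ih γ hγ
        | mul_inv_cancel x _ γ hγ ih =>
          rw [inv_eq_of_mul_eq_one_right (h.sq γ hγ.1)]
          exact step x ih γ hγ
      exact (this.resolve_left h1).imp_right (closure_le _).2
    refine (S.good fun e => ?_).mono fun g hg => mem_normalizer_fintype fun x hx => ?_
    · have : w = 1 := mem_bot.1 (e ▸ subset_closure ⟨hw.1, hw.2, fun u hu zu => m u ⟨hu, zu⟩⟩)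
      exact ZH.ne_one hw.2 this
    · exact cj_mem.2 hx |> (map_le_iff_le_comap.2 ((closure_le _).2 fun γ hγ =>
        subset_closure (gam_cj hg hγ)) : cj g (closure (Gam V)) ≤ closure (Gam V))
  push Not at H
  obtain ⟨w, hw, y, hy, hn⟩ := H
  obtain ⟨A, hA, hm⟩ := h.ark hw hy hn
  refine hA.ark.good.mono fun g hg => cj_eq_iff.1 ?_
  have hw' := gam_cj hg hw
  have U := fun A' => uniq (A' := A') h hw' (gam_cj hg hy) (mt (cj_mem_QQ g).1 hn) (hA.map g) (cj_mem.2 hm)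
  by_cases k : g * w * g⁻¹ ∈ QQ w
  · exact U A hA.ark (le_of_mem h hw hy hn hA hm hw' (h.le_ark hw hy hn hA hm ⟨hw'.1, k⟩))
  · obtain ⟨B, hB, mB⟩ := h.ark hw hw' k
    rw [uniq h hw hy hn hA hm hB.ark (h.le_ark hw hw' k hB mB)] at U ⊢
    exact U B hB.ark (le_of_mem h hw hw' k hB mB hw' mB)

theorem good_of_max {N : Subgroup K} (hN : IsMaximalTwoLocal N) : Good N := by
  obtain ⟨V, h0, le, sq, h⟩ := exists_cx hN
  by_cases hz : ∃ z ∈ V, z ∈ ZC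
  · obtain ⟨P, hP⟩ := h hz
    exact (hP.good hz).mono le
  · exact (good_pure h0 sq fun x hx k => hz ⟨x, hx, k⟩).mono le

end Cfsg.Agent.Gr.M2
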